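import Cfsg.Agent.Lib.Co1Todd15.Levi

/-!
The relations between the bits of the Levi lifts on the lines.
-/

set_option autoImplicit false

namespace Cfsg.Agent.Lib.Co1Todd15

open Co1Type47 LargeExtra

variable {G : Type*} [Group G] [Finite G] {z : G} {Qf : G → Subgroup G}
variable (H : Hyp z Qf)
include H

open Classical in
/-- The coefficient of `z`. -/
noncomputable def Basis.chi (B : Basis z Qf) (y : G) : ZMod 2 :=
  if h : y ∈ B.A H then (B.exists_coord H h).choose 0 else 0

theorem Todd.chi_Phi (T : Todd H) (x : Fin 11 → ZMod 2) : T.basis.chi H (T.basis.Phi H x) = x 0 := by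
  rw [Basis.chi, dif_pos (T.basis.Phi_mem H x)]
  exact congrFun (T.Phi_inj H (T.basis.exists_coord H (T.basis.Phi_mem H x)).choose_spec).symm 0

theorem Todd.chi_mul (T : Todd H) {a b : G} (ha : a ∈ T.basis.A H) (hb : b ∈ T.basis.A H) :
    T.basis.chi H (a * b) = T.basis.chi H a + T.basis.chi H b := by
  obtain ⟨x, rfl⟩ := T.basis.exists_coord H ha
  obtain ⟨y, rfl⟩ := T.basis.exists_coord H hb
  rw [← T.Phi_add H, T.chi_Phi H, T.chi_Phi H, T.chi_Phi H, Pi.add_apply]

theorem Todd.chi_one (T : Todd H) : T.basis.chi H 1 = 0 := by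
  rw [← T.basis.Phi_zero H, T.chi_Phi H]; rfl

theorem Todd.chi_z (T : Todd H) : T.basis.chi H z = 1 := by
  have h : T.basis.Phi H (fun k => if k = 0 then 1 else 0) = z := by
    rw [T.basis.phi_split]
    simp [Basis.gprod, bpow_zero, bpow_one, Basis.gen]
  exact (congrArg (T.basis.chi H) h).symm.trans ((T.chi_Phi H _).trans (if_pos rfl))

theorem Todd.chi_bpow (T : Todd H) (e : ZMod 2) : T.basis.chi H (bpow z e) = e := by
  rcases zmod_cases e with rfl | rfl
  · exact T.chi_one H
  · exact T.chi_z H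

/-- The bit of `t i j` on the line `i l`. -/
noncomputable def Todd.beta (T : Todd H) (i j l : Fin 4) : ZMod 2 :=
  if h : i ≠ j ∧ i ≠ l ∧ j ≠ l then (T.t_line_move H h.1 h.2.1 h.2.2).choose else 0

theorem Todd.beta_spec (T : Todd H) {i j l : Fin 4} (n1 : i ≠ j) (n2 : i ≠ l) (n3 : j ≠ l) :
    cj (T.basis.t H i j) (T.basis.line H i l) =
      T.basis.line H i l * T.basis.line H j l * bpow z (T.beta H i j l) := by
  rw [Todd.beta, dif_pos ⟨n1, n2, n3⟩]
  exact (T.t_line_move H n1 n2 n3).choose_spec

theorem Todd.bpow_mem_A (T : Todd H) (e : ZMod 2) : bpow z e ∈ T.basis.A H := bpow_mem (T.basis.z_mem_A H) e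

theorem Todd.beta_two (T : Todd H) {i j k l : Fin 4} (n1 : i ≠ j) (n2 : i ≠ k) (n3 : i ≠ l) (n4 : j ≠ k)
    (n5 : j ≠ l) (n6 : k ≠ l) : T.beta H i j k = T.beta H l k j := by
  set B := T.basis with hB
  set x := B.t H l k with hxd
  set y := B.t H i j with hyd
  have hxz : x * z = z * x := B.t_cz H l k
  have hyz : y * z = z * y := B.t_cz H i j
  have hy := B.t_spec H n1
  have hconj := hy.conj_of H B.D hxz
  have e1 : x * B.r j * x⁻¹ = B.r j := B.t_r_ne H n6.symm n5
  have e2 : x * (B.m i * z) * x⁻¹ = B.m i * z := by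
    have := cj_mul x (B.m i) z
    rw [B.t_m_ne H n6.symm n2, cj_eq_self (g := x) (a := z) hxz] at this
    exact this
  rw [e1, e2] at hconj
  obtain ⟨e, he⟩ := hy.unique H B.D hconj.fst.mem hconj.snd.mem hconj.fst.cz fun v => by
    rw [hconj.fst.act, hy.fst.act]
  -- both orders on the line `i l`
  have key : ∀ w, w * z = z * w → cj x (cj y (cj x⁻¹ w)) = cj y w := fun w hw => by
    rw [cj_cj, cj_cj, show x * y * x⁻¹ = y * bpow z e from he, ← cj_cj]
    congr 1
    rcases bpow_cases z e with u | u <;> rw [u]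
    · simp [cj]
    · exact cj_eq_self hw.symm
  have hx2 : x⁻¹ = x := (B.t_spec H n6.symm).inv_eq H B.D
  have h := key (B.line H l i) ((B.line_spec H n3.symm).fst.cz)
  -- images
  have xi : cj x (B.line H l i) = B.line H l i * B.line H k i * bpow z (T.beta H l k i) :=
    T.beta_spec H n6.symm n3.symm n2.symm
  have xj : cj x (B.line H l j) = B.line H l j * B.line H k j * bpow z (T.beta H l k j) :=
    T.beta_spec H n6.symm n5.symm n4.symm
  have xk : cj x (B.line H k i) = B.line H k i :=
    B.t_line_keep H n6.symm n2 n3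
  have xjk : cj x (B.line H k j) = B.line H k j := B.t_line_keep H n6.symm n4 n5
  have yi : cj y (B.line H l i) = B.line H l i * B.line H l j * bpow z (T.beta H i j l) := by
    rw [B.line_symm H l i, T.beta_spec H n1 n3 n5, B.line_symm H j l]
  have yk : cj y (B.line H k i) = B.line H k i * B.line H k j * bpow z (T.beta H i j k) := by
    rw [B.line_symm H k i, T.beta_spec H n1 n2 n4, B.line_symm H j k]
  rw [hx2, xi] at h
  simp only [cj_mul, yi, yk, cj_bpow hyz] at h
  simp only [cj_mul, xi, xj, xk, xjk, cj_bpow hxz] at h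
  have hc := congrArg (B.chi H) h
  have hA := B.line_mem H
  have hbm := T.bpow_mem_A H
  simp only [hB] at hA hbm hc ⊢
  simp (discharger := (repeat' apply mul_mem) <;> first | exact hA _ _ | exact hbm _) only
    [T.chi_mul, T.chi_bpow] at hc
  revert hc
  generalize T.basis.chi H (T.basis.line H l i) = p
  generalize T.basis.chi H (T.basis.line H l j) = q
  generalize T.basis.chi H (T.basis.line H k i) = r
  generalize T.basis.chi H (T.basis.line H k j) = s
  generalize T.beta H i j k = b1
  generalize T.beta H l k j = b2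
  generalize T.beta H l k i = b3
  generalize T.beta H i j l = b4
  revert p q r s b1 b2 b3 b4
  decide

theorem Todd.beta_one (T : Todd H) {a b c : Fin 4} (n1 : a ≠ b) (n2 : a ≠ c) (n3 : b ≠ c) :
    T.beta H c a b = T.beta H c b a + 1 := by
  set B := T.basis with hB
  set x := B.t H b a with hxd
  set y := B.t H c b with hyd
  set t' := B.t H c a with htd
  have hxz : x * z = z * x := B.t_cz H b a
  have hyz : y * z = z * y := B.t_cz H c b
  have htz : t' * z = z * t' := B.t_cz H c a
  have hy := B.t_spec H n3.symm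
  have ht := B.t_spec H n2.symm
  have hxm : x * (B.m c * z) * x⁻¹ = B.m c * z := by
    have := cj_mul x (B.m c) z
    rw [B.t_m_ne H n1.symm n2.symm, cj_eq_self (g := x) (a := z) hxz] at this
    exact this
  have hxr : x * B.r b * x⁻¹ = B.r b * (B.r a * z) := B.t_r_self H n1.symm
  have hy' := hy.conj_of H B.D hxz
  rw [hxr, hxm] at hy'
  have hphi : B.D.phi (B.r b * (B.r a * z)) = ee b + ee a := by
    rw [B.D.phi_mul _ (B.r_mem b) _ (mul_mem (B.r_mem a) H.good.x_mem), B.D.phi_mul_z H.good (B.r_mem a),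
      B.phi_r, B.phi_r]
  obtain ⟨hyt, hyta⟩ := act_mul₂ H B.D hyz htz hy.snd.act ht.snd.act
  have hi : (y * t')⁻¹ * z = z * (y * t')⁻¹ := (Commute.inv_left hyt :)
  set k := (y * t')⁻¹ * (x * y * x⁻¹) with hkd
  have hk : k ∈ Qf z := B.D.act_eq_id _ ((Commute.mul_left hi hy'.fst.cz) :) fun v => by
    rw [B.D.act_mul H.good hi hy'.fst.cz, hy'.snd.act, hphi, B.phi_mz H,
      root_add_right (ee_q b) (ee_q a) (ff_ee_ne n3.symm) (ff_ee_ne n2.symm) (ee_ee b a)]
    conv_lhs => arg 3; rw [← B.phi_mz H c, ← B.phi_r b, ← B.phi_r a]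
    rw [← hyta, B.D.act_inv_act H.good hyt]
  have hk' : k ∈ Qf (B.m c * z) := mul_mem (inv_mem (mul_mem hy.snd.mem ht.snd.mem)) hy'.snd.mem
  have hx2 : x⁻¹ = x := (B.t_spec H n1.symm).inv_eq H B.D
  have hsplit : ∀ w, cj (y * t') (cj k w) = cj x (cj y (cj x w)) := fun w => by
    simp only [cj_cj, hkd, mul_inv_cancel_left, hx2, mul_assoc]
  have hcz : ∀ q, B.r q * z = z * B.r q := fun q => H.good.le_cent _ (B.r_mem q)
  have hkr : cj k (B.r c) = B.r c := by
    refine cj_inj (g := y * t') ?_
    rw [hsplit, ← cj_cj, B.t_r_ne H n1.symm n3.symm, B.t_r_self H n3.symm, B.t_r_self H n2.symm, cj_mul,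
      cj_mul, cj_mul, cj_mul, cj_eq_self (g := x) (a := z) hxz, cj_eq_self (g := y) (a := z) hyz,
      B.t_r_ne H n1.symm n3.symm, B.t_r_self H n1.symm, B.t_r_self H n3.symm, B.t_r_ne H n3.symm n2]
    simp only [mul_assoc]
    rw [← mul_assoc z (B.r a) z, ← hcz a, mul_assoc]
  have hk1 : k = 1 ∨ k = z := by
    rcases inP_of_mem H B.D (B.mz_mem H c) (by rw [B.phi_mz H]; exact ff_q c)
      (by rw [B.phi_mz H]; exact ff_ne c) hk hk' with e | e | e | e
    · exact Or.inl e
    · exact Or.inr e
    all_goals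
      exfalso
      have h1 : B.D.phi k = ff c := by
        first
          | rw [e, B.phi_mz H]
          | rw [e, B.D.phi_mul_z H.good (B.mz_mem H c), B.phi_mz H]
      have h2 := B.D.conj_eq H.good (B.r_mem c) hk
      rw [h1, B.phi_r, bV_comm, ee_ff, if_pos rfl, bpow_one] at h2
      exact H.good.x_ne (mul_eq_left.1 (h2.symm.trans hkr))
  have hfix : ∀ w, w * z = z * w → cj k w = w := fun w hw => by
    rcases hk1 with e | e <;> rw [e]
    · simp [cj]
    · exact cj_eq_self hw.symm
  have h := hsplit (B.line H b c)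
  rw [hfix _ (B.line_spec H n3).fst.cz, ← cj_cj] at h
  have xbc : cj x (B.line H b c) = B.line H b c * B.line H a c * bpow z (T.beta H b a c) :=
    T.beta_spec H n1.symm n3 n2
  have xac : cj x (B.line H a c) = B.line H a c := B.t_line_keep H n1.symm n2.symm n3.symm
  have xab : cj x (B.line H a b) = B.line H a b * B.r a := by
    rw [B.line_symm H a b]; exact B.t_line_own H n1.symm
  have xrb : cj x (B.r b) = B.r b * (B.r a * z) := B.t_r_self H n1.symm
  have ybc : cj y (B.line H b c) = B.line H b c * B.r b := by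
    rw [B.line_symm H b c]; exact B.t_line_own H n3.symm
  have yac : cj y (B.line H a c) = B.line H a c * B.line H a b * bpow z (T.beta H c b a) := by
    rw [B.line_symm H a c, T.beta_spec H n3.symm n2.symm n1.symm, B.line_symm H b a]
  have yab : cj y (B.line H a b) = B.line H a b := by
    rw [B.line_symm H a b]; exact B.t_line_keep H n3.symm n1 n2
  have tbc : cj t' (B.line H b c) = B.line H b c * B.line H a b * bpow z (T.beta H c a b) := by
    rw [B.line_symm H b c, T.beta_spec H n2.symm n3.symm n1, B.line_symm H c b]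
  rw [tbc, xbc] at h
  simp only [cj_mul, ybc, yac, yab, cj_bpow hyz, xbc, xac, xab, xrb, cj_bpow hxz,
    cj_eq_self (g := x) (a := z) hxz] at h
  have hc := congrArg (B.chi H) h
  have hA := B.line_mem H
  have hbm := T.bpow_mem_A H
  have hrm := B.r_mem_A H
  have hzm := B.z_mem_A H
  simp only [hB] at hA hbm hrm hzm hc ⊢
  simp (discharger := (repeat' apply mul_mem) <;> first | exact hA _ _ | exact hbm _ | exact hrm _ | exact hzm)
    only [T.chi_mul, T.chi_bpow, T.chi_z] at hc
  revert hc
  generalize T.basis.chi H (T.basis.line H b c) = p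
  generalize T.basis.chi H (T.basis.line H a c) = q
  generalize T.basis.chi H (T.basis.line H a b) = r
  generalize T.basis.chi H (T.basis.r a) = s
  generalize T.basis.chi H (T.basis.r b) = s'
  generalize T.beta H c a b = b1
  generalize T.beta H c b a = b2
  generalize T.beta H b a c = b3
  revert p q r s s' b1 b2 b3
  decide

end Cfsg.Agent.Lib.Co1Todd15
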