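import Cfsg.Agent.Lib.Co1Todd15.Both

/-!
Commutators of lifted root elements: a bit on `z`.
-/

set_option autoImplicit false

namespace Cfsg.Agent.Lib.Co1Todd15

open Co1Type47 LargeExtra

variable {G : Type*} [Group G] [Finite G] {z : G} {Qf : G → Subgroup G}
variable (H : Hyp z Qf) (D : Data z (Qf z))
include H

omit [Finite G] in
/-- An element centralising both points moves a lift at most by `z`. -/
theorem In2.bit [Finite G] {r r' c d : G} (h : In2 D r r' c) (hdz : d * z = z * d)
    (hdr : d * r = r * d) (hdr' : d * r' = r' * d) : ∃ e : ZMod 2, d * c * d⁻¹ = c * bpow z e := by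
  have h' := h.conj_of H D hdz
  rw [conj_eq_iff_comm.2 hdr, conj_eq_iff_comm.2 hdr'] at h'
  exact h.unique H D h'.fst.mem h'.snd.mem h'.fst.cz fun x => by rw [h'.fst.act, h.fst.act]

theorem In.comm_core {r c : G} {v : V8} (h : In D r v c) {d : G} (hd : d ∈ Qf z)
    (ho : bV (D.phi d) (D.phi r) = 0) (hv : bV (D.phi d) v = 0) : c * d = d * c := by
  have e := h.conj_core H D hd ho
  rw [hv, bpow_zero, mul_one] at e
  exact conj_eq_iff_comm.1 e

theorem In.comm_point {r c : G} {v : V8} (h : In D r v c) : c * r = r * c :=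
  h.comm_core H D h.hr (bV_self _) h.point.2.2

theorem In.norm_core {r c : G} {v : V8} (h : In D r v c) {p : G} (hp : p ∈ Qf z) :
    D.phi (c * p * c⁻¹) = root (D.phi r) v (D.phi p) := by
  rw [D.act_phi c h.cz p hp, h.act]

omit [Finite G] in
theorem act_mul₂ {a b : G} {f g : V8 → V8} (ha : a * z = z * a) (hb : b * z = z * b)
    (hf : ∀ x, D.act a x = f x) (hg : ∀ x, D.act b x = g x) :
    (a * b) * z = z * (a * b) ∧ ∀ x, D.act (a * b) x = f (g x) :=
  ⟨(Commute.mul_left ha hb :), fun x => by rw [D.act_mul H.good ha hb, hg, hf]⟩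

omit [Finite G] in
theorem zz' : z * z = 1 := H.good.x_sq

/-- A lift is realised with a prescribed value of its action, up to a commuting transvection. -/
theorem exists_realised (g : Iso) {f f' : V8 → V8} {v : V8} (hv : qV v = 1)
    (hcomm : ∀ x, refl v (f x) = f (refl v x)) (h : ∀ x, g.map (f x) = f' (g.map x)) :
    ∃ c, c * z = z * c ∧ ∀ x, D.act c (f x) = f' (D.act c x) := by
  rcases D.exists_act g v hv with ⟨c, hc, e⟩ | ⟨c, hc, e⟩
  · exact ⟨c, hc, fun x => by rw [e, e, h]⟩
  · exact ⟨c, hc, fun x => by rw [e, e, hcomm, h]⟩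

end Cfsg.Agent.Lib.Co1Todd15
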