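import Cfsg.Agent.Lib.Co1Todd15.Root

/-!
Lifts of a root element over both of its points: existence, uniqueness up to `z`, transport.
-/

set_option autoImplicit false

namespace Cfsg.Agent.Lib.Co1Todd15

open Co1Type47 LargeExtra

theorem root_comm {u v : V8} (hu : qV u = 0) (hv : qV v = 0) (x : V8) : root u v x = root v u x := by
  simp only [root, hu, hv, zero_mul, zero_smul, add_zero]
  abel

theorem exists_one_zero {u v : V8} (hu : u ≠ 0) (hne : u ≠ v) : ∃ d, bV u d = 1 ∧ bV v d = 0 := by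
  have hx : ∀ {w : V8}, w ≠ 0 → ∃ d, bV w d = 1 := fun {w} hw => by
    by_contra h
    push Not at h
    exact hw (bV_nondeg w fun d => (zmod_cases _).resolve_right (h d))
  obtain ⟨a, ha⟩ := hx hu
  rcases zmod_cases (bV v a) with h | h
  · exact ⟨a, ha, h⟩
  obtain ⟨b, hb⟩ := hx (fun e : u + v = 0 => hne (add_eq_zero.1 e))
  rw [bV_add_left] at hb
  rcases zmod_cases (bV u b) with h' | h'
  · rw [h', zero_add] at hb
    exact ⟨a + b, by rw [bV_add_right, ha, h', add_zero], by rw [bV_add_right, h, hb]; decide⟩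
  · refine ⟨b, h', ?_⟩
    rw [h'] at hb
    exact (by decide : ∀ k : ZMod 2, 1 + k = 1 → k = 0) _ hb

theorem span_of_perp {u v x : V8} (hu : u ≠ 0) (hv : v ≠ 0) (hne : u ≠ v)
    (h : ∀ y, bV u y = 0 → bV v y = 0 → bV x y = 0) : ∃ a b : ZMod 2, x = a • u + b • v := by
  obtain ⟨du, hu1, hu0⟩ := exists_one_zero hu hne
  obtain ⟨dv, hv1, hv0⟩ := exists_one_zero hv (Ne.symm hne)
  have hsm : ∀ (k : ZMod 2) (p q : V8), bV p (k • q) = k * bV p q := fun k p q => by
    rcases zmod_cases k with rfl | rfl <;> simp [bV_zero_right]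
  have hsm' : ∀ (k : ZMod 2) (p q : V8), bV (k • p) q = k * bV p q := fun k p q => by
    rw [bV_comm, hsm, bV_comm]
  refine ⟨bV x du, bV x dv, add_eq_zero.1 (bV_nondeg _ fun y => ?_)⟩
  have hy := h (y + bV u y • du + bV v y • dv)
    (by simp only [bV_add_right, hsm, hu1, hv0]; rcases zmod_cases (bV u y) with e | e <;> rw [e] <;>
      simp <;> decide)
    (by simp only [bV_add_right, hsm, hu0, hv1]; rcases zmod_cases (bV v y) with e | e <;> rw [e] <;>
      simp <;> decide)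
  simp only [bV_add_right, hsm] at hy
  simp only [bV_add_left, hsm']
  linear_combination hy

variable {G : Type*} [Group G] [Finite G] {z : G} {Qf : G → Subgroup G}

/-- A lift over both points. -/
structure In2 (D : Data z (Qf z)) (r r' c : G) : Prop where
  fst : In D r (D.phi r') c
  snd : In D r' (D.phi r) c
  ne : D.phi r ≠ D.phi r'

variable (H : Hyp z Qf) (D : Data z (Qf z))
include H

theorem In.good {r c : G} {v : V8} (h : In D r v c) : Good (Qf r) r :=
  H.good_of (H.isConj_of_mem (IsConj.refl z) h.hr ((D.sq_iff r h.hr).2 h.point.1)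
    (r_ne D H h.point.2.1).1)

theorem In.z_mem {r c : G} {v : V8} (h : In D r v c) : z ∈ Qf r :=
  H.coreMap.orth_symm (h.good H D) H.good h.hr

omit H [Finite G] in
theorem bpow_mem {K : Subgroup G} {x : G} (hx : x ∈ K) (k : ZMod 2) : bpow x k ∈ K := by
  rcases bpow_cases x k with e | e <;> rw [e]
  exacts [one_mem _, hx]

omit [Finite G] in
theorem phi_bpow' {r : G} (hr : r ∈ Qf z) (k : ZMod 2) : D.phi (bpow r k) = k • D.phi r := by
  rcases zmod_cases k with rfl | rfl
  · simp [bpow, D.phi_one H.good]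
  · simp [bpow]

/-- Lifts over both points exist. -/
theorem exists_in2 {r r' : G} (hr : r ∈ Qf z) (hq : qV (D.phi r) = 0) (h0 : D.phi r ≠ 0)
    (hr' : r' ∈ Qf z) (hq' : qV (D.phi r') = 0) (h0' : D.phi r' ≠ 0) (hne : D.phi r ≠ D.phi r')
    (ho : bV (D.phi r) (D.phi r') = 0) : ∃ c, In2 D r r' c := by
  obtain ⟨c, hc⟩ := exists_in H D hr hq h0 ho
  have ho' : bV (D.phi r') (D.phi r) = 0 := by rw [bV_comm]; exact ho
  obtain ⟨c', hc'⟩ := exists_in H D hr' hq' h0' ho'
  have hci : c⁻¹ * z = z * c⁻¹ := (Commute.inv_left hc.cz :)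
  have hk : c⁻¹ * c' ∈ Qf z := by
    refine D.act_eq_id _ ((Commute.mul_left hci hc'.cz) :) fun x => ?_
    rw [D.act_mul H.good hci hc'.cz, hc'.act, root_comm hq' hq, ← hc.act, D.act_inv_act H.good hc.cz]
  obtain ⟨a, b, hab⟩ : ∃ a b : ZMod 2, D.phi (c⁻¹ * c') = a • D.phi r + b • D.phi r' := by
    refine span_of_perp h0 h0' hne fun y h1 h2 => ?_
    obtain ⟨d, hd, rfl⟩ := D.phi_surj y
    rw [bV_comm] at h1 h2
    have e := hc.conj_core H D hd h1
    have e' := hc'.conj_core H D hd h2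
    rw [h2, bpow_zero, mul_one] at e
    rw [h1, bpow_zero, mul_one] at e'
    refine (D.comm_iff _ hk d hd).1 (conj_eq_iff_comm.1 ?_)
    calc c⁻¹ * c' * d * (c⁻¹ * c')⁻¹ = c⁻¹ * (c' * d * c'⁻¹) * c := by group
      _ = c⁻¹ * (c * d * c⁻¹) * c := by rw [e', e]
      _ = d := by group
  have hrb : bpow r' b ∈ Qf z := bpow_mem hr' b
  have hra : bpow r a ∈ Qf z := bpow_mem hr a
  have hz' := hc'.z_mem H D
  have hkey : ∃ y ∈ Qf r', c⁻¹ * c' = bpow r a * y := by
    rcases D.eq_or_of_phi_eq H.good hk (mul_mem hra hrb)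
      (by rw [D.phi_mul _ hra _ hrb, phi_bpow' H D hr, phi_bpow' H D hr', hab]) with e | e
    · exact ⟨_, bpow_mem (hc'.good H D).x_mem b, e⟩
    · exact ⟨_, mul_mem (bpow_mem (hc'.good H D).x_mem b) hz', e.trans (mul_assoc _ _ _)⟩
  obtain ⟨y, hy, hky⟩ := hkey
  refine ⟨c * bpow r a, ⟨hr, ⟨hq, h0, ho⟩, mul_mem hc.mem (bpow_mem (hc.good H D).x_mem a), ?_, fun x => ?_⟩,
    ⟨hr', ⟨hq', h0', ho'⟩, ?_, ?_, fun x => ?_⟩, hne⟩
  rotate_left 2
  · have : c * bpow r a = c' * y⁻¹ := by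
      calc c * bpow r a = c * (bpow r a * y) * y⁻¹ := by group
        _ = _ := by rw [← hky]; group
    rw [this]; exact mul_mem hc'.mem (inv_mem hy)
  all_goals
    first
      | exact (Commute.mul_left hc.cz (H.good.le_cent _ hra) :)
      | (rw [D.act_mul H.good hc.cz (H.good.le_cent _ hra), D.act_of_mem H.good hra, hc.act])
  rw [root_comm hq hq']

/-- Uniqueness up to `z`. -/
theorem In2.unique {r r' c : G} (h : In2 D r r' c) {c' : G} (hm : c' ∈ Qf r) (hm' : c' ∈ Qf r')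
    (hcz : c' * z = z * c') (ha : ∀ x, D.act c' x = D.act c x) : ∃ e : ZMod 2, c' = c * bpow z e := by
  have hci : c⁻¹ * z = z * c⁻¹ := (Commute.inv_left h.fst.cz :)
  have hk : c⁻¹ * c' ∈ Qf z := D.act_eq_id _ ((Commute.mul_left hci hcz) :) fun x => by
    rw [D.act_mul H.good hci hcz, ha, D.act_inv_act H.good h.fst.cz]
  rcases eq_or_of_three H D h.fst.hr h.fst.point.1 h.fst.point.2.1 h.snd.hr h.snd.point.1 h.snd.point.2.1
    h.ne hk (mul_mem (inv_mem h.fst.mem) hm) (mul_mem (inv_mem h.snd.mem) hm') with e | e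
  · exact ⟨0, by rw [bpow_zero, mul_one, ← inv_mul_eq_one.1 e]⟩
  · exact ⟨1, by rw [bpow_one, ← e]; group⟩

omit H [Finite G] in
theorem In2.symm {r r' c : G} (h : In2 D r r' c) : In2 D r' r c := ⟨h.snd, h.fst, h.ne.symm⟩

theorem In2.sq {r r' c : G} (h : In2 D r r' c) : c * c = 1 := by
  rw [h.fst.sq H D, h.snd.point.1, bpow_zero]

theorem In2.inv_eq {r r' c : G} (h : In2 D r r' c) : c⁻¹ = c := inv_eq_of_mul_eq_one_right (h.sq H D)

omit [Finite G] in
theorem In.conj_of {r c g : G} {v : V8} (h : In D r v c) (hg : g * z = z * g) :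
    In D (g * r * g⁻¹) (D.act g v) (g * c * g⁻¹) := by
  have hgi : g⁻¹ * z = z * g⁻¹ := (Commute.inv_left hg :)
  have hp : D.phi (g * r * g⁻¹) = D.act g (D.phi r) := D.act_phi g hg r h.hr
  have hgc : g * c * z = z * (g * c) := (Commute.mul_left hg h.cz :)
  refine ⟨H.good.norm g hg r h.hr, ⟨?_, ?_, ?_⟩, H.coreMap.conj_mem g h.mem,
    (Commute.mul_left hgc hgi :), fun x => ?_⟩
  · rw [hp, D.act_iso g hg]; exact h.point.1
  · rw [hp]
    intro e
    apply h.point.2.1
    rw [← D.act_inv_act H.good hg (D.phi r), e, D.act_zero H.good hgi]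
  · rw [hp, D.act_bil H.good hg]; exact h.point.2.2
  · have hadd := D.act_add hg (fun a ha => H.good.norm g hg a ha)
    have hs : ∀ (k : ZMod 2) y, D.act g (k • y) = k • D.act g y := fun k y => by
      rcases zmod_cases k with rfl | rfl <;> simp [D.act_zero H.good hg]
    rw [D.act_mul H.good hgc hgi, D.act_mul H.good hg h.cz, h.act, hp]
    have hx : D.act g (D.act g⁻¹ x) = x := by
      rw [← D.act_mul H.good hg hgi, mul_inv_cancel, D.act_one H.good]
    have hb : ∀ y, bV (D.act g⁻¹ x) y = bV x (D.act g y) := fun y => by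
      conv_rhs => rw [← hx, D.act_bil H.good hg]
    simp only [root, hadd, hs, hx, D.act_iso g hg, hb]

theorem In2.conj_of {r r' c g : G} (h : In2 D r r' c) (hg : g * z = z * g) :
    In2 D (g * r * g⁻¹) (g * r' * g⁻¹) (g * c * g⁻¹) := by
  have e : ∀ {a : G}, a ∈ Qf z → D.phi (g * a * g⁻¹) = D.act g (D.phi a) := fun ha => D.act_phi g hg _ ha
  refine ⟨?_, ?_, fun he => h.ne ?_⟩
  · rw [e h.snd.hr]; exact h.fst.conj_of H D hg
  · rw [e h.fst.hr]; exact h.snd.conj_of H D hg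
  · rw [e h.fst.hr, e h.snd.hr] at he
    rw [← D.act_inv_act H.good hg (D.phi r), he, D.act_inv_act H.good hg]

end Cfsg.Agent.Lib.Co1Todd15
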