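import Cfsg.Agent.Lib.Co1Todd15.Orbit

/-!
The automorphisms preserving the 759 elements number exactly 244823040.
-/

set_option autoImplicit false

namespace Cfsg.Agent.Lib.Co1Todd15

open Co1Type47 LargeExtra

/-- The class of a code for a given set. -/
def clM (M n : ℕ) : ℕ := if n = 0 then 0 else if M.testBit n then 1 else 2

/-- The span of a list of codes. -/
def spanC : List ℕ → List ℕ
  | [] => [0]
  | v :: t => let S := spanC t; S ++ S.map (v ^^^ ·)

/-- The possible images of `v` once the codes of `pre` are fixed. -/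
def candsM (M : ℕ) (pre : List ℕ) (v : ℕ) : List ℕ :=
  let S := spanC pre
  (members M).filter fun w => S.all fun s => clM M (w ^^^ s) == clM M (v ^^^ s)

/-- The bound along a base. -/
def boundM (M : ℕ) : List ℕ → List ℕ → ℕ
  | _, [] => 1
  | pre, v :: t => (candsM M pre v).length * boundM M (v :: pre) t

/-- The base for the first set. -/
def baseBig : List ℕ := [468, 1076, 1608, 646, 1336, 483, 1991, 445, 1829, 1830, 549]

/-- The base for the second set. -/
def baseAlt : List ℕ := [3, 1843, 13, 6, 532, 22, 413, 66, 1, 32, 128]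

/-- The first set. -/
def setBig : ℕ := 2 ^ 1 ||| maskPt ||| maskLn ||| maskBig

/-- The second set. -/
def setAlt : ℕ := 2 ^ 1 ||| maskPt ||| maskLn ||| maskAlt

theorem bound_big : boundM setBig [] baseBig = 244823040 := by decide +kernel
theorem bound_alt : boundM setAlt [] baseAlt = 135527040 := by decide +kernel

theorem base_ok : (baseBig.all fun v => setBig.testBit v && decide (v < 2048)) = true ∧
    (baseAlt.all fun v => setAlt.testBit v && decide (v < 2048)) = true := by decide +kernel

theorem span_ok : (spanC baseBig).foldl (fun m s => m ||| 2 ^ s) 0 = 2 ^ 2048 - 1 ∧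
    (spanC baseAlt).foldl (fun m s => m ||| 2 ^ s) 0 = 2 ^ 2048 - 1 ∧ setBig.testBit 0 = false := by
  decide +kernel

theorem set_lengths : (members setBig).length = 759 ∧ (members setAlt).length = 759 ∧
    setBig.testBit 0 = false ∧ setAlt.testBit 0 = false := by decide +kernel

theorem spanC_lt {pre : List ℕ} (hp : ∀ u ∈ pre, u < 2048) : ∀ s ∈ spanC pre, s < 2048 := by
  induction pre with
  | nil => intro s hs; rw [spanC, List.mem_singleton] at hs; omega
  | cons v t ih =>
    intro s hs
    simp only [spanC, List.mem_append, List.mem_map] at hs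
    rcases hs with hs | ⟨a, ha, rfl⟩
    · exact ih (fun u hu => hp u (List.mem_cons_of_mem v hu)) s hs
    · exact Nat.xor_lt_two_pow (n := 11) (hp v List.mem_cons_self)
        (ih (fun u hu => hp u (List.mem_cons_of_mem v hu)) a ha)

variable {G : Type*} [Group G] [Finite G] {z : G} {Qf : G → Subgroup G}
variable (H : Hyp z Qf)
include H

theorem Todd.el_zero (T : Todd H) : T.el H 0 = 1 := Subtype.ext (T.cd_zero H)

/-- The code of an element. -/
noncomputable def Todd.co (T : Todd H) (y : ↥(T.basis.A H)) : ℕ := (T.el_surj H y).choose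

theorem Todd.co_lt (T : Todd H) (y : ↥(T.basis.A H)) : T.co H y < 2048 := (T.el_surj H y).choose_spec.1

theorem Todd.el_co (T : Todd H) (y : ↥(T.basis.A H)) : T.el H (T.co H y) = y := (T.el_surj H y).choose_spec.2

theorem Todd.co_el (T : Todd H) {n : ℕ} (h : n < 2048) : T.co H (T.el H n) = n :=
  T.el_inj H (T.co_lt H _) h (T.el_co H _)

theorem Todd.co_mul (T : Todd H) (x y : ↥(T.basis.A H)) : T.co H (x * y) = T.co H x ^^^ T.co H y := by
  refine T.el_inj H (T.co_lt H _) (Nat.xor_lt_two_pow (n := 11) (T.co_lt H _) (T.co_lt H _)) ?_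
  rw [T.el_co H, T.el_xor H, T.el_co H, T.el_co H]

/-- The automorphisms preserving the classes of a set of codes. -/
def Todd.autSet (T : Todd H) (M : ℕ) : Subgroup (MulAut ↥(T.basis.A H)) where
  carrier := {σ | ∀ y, clM M (T.co H (σ y)) = clM M (T.co H y)}
  one_mem' _ := rfl
  mul_mem' {f g} hf hg y := by rw [MulAut.mul_apply, hf, hg]
  inv_mem' {f} hf y := by
    conv_rhs => rw [← MulAut.apply_inv_self _ f y]
    exact (hf _).symm

/-- The preserving automorphisms fixing some codes. -/
def Todd.fixingC (T : Todd H) (M : ℕ) (pre : List ℕ) : Subgroup (MulAut ↥(T.basis.A H)) where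
  carrier := {σ | σ ∈ T.autSet H M ∧ ∀ v ∈ pre, σ (T.el H v) = T.el H v}
  one_mem' := ⟨one_mem _, fun _ _ => rfl⟩
  mul_mem' {f g} hf hg := ⟨mul_mem hf.1 hg.1, fun v hv => by rw [MulAut.mul_apply, hg.2 v hv, hf.2 v hv]⟩
  inv_mem' {f} hf := ⟨inv_mem hf.1, fun v hv => by
    conv_lhs => rw [← hf.2 v hv]
    exact f.symm_apply_apply _⟩

theorem Todd.fixingC_span (T : Todd H) {M : ℕ} {pre : List ℕ} {g : MulAut ↥(T.basis.A H)}
    (hg : g ∈ T.fixingC H M pre) : ∀ s ∈ spanC pre, g (T.el H s) = T.el H s := by
  induction pre with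
  | nil =>
    intro s hs
    rw [spanC, List.mem_singleton] at hs
    rw [hs, T.el_zero H, map_one]
  | cons v t ih =>
    intro s hs
    have ht : g ∈ T.fixingC H M t := ⟨hg.1, fun u hu => hg.2 u (List.mem_cons_of_mem v hu)⟩
    simp only [spanC, List.mem_append, List.mem_map] at hs
    rcases hs with hs | ⟨a, ha, rfl⟩
    · exact ih ht s hs
    · rw [T.el_xor H, map_mul, ih ht a ha, hg.2 v List.mem_cons_self]

theorem Todd.card_fixingC (T : Todd H) (M : ℕ) (rest : List ℕ) : ∀ pre : List ℕ,
    (∀ v ∈ rest, M.testBit v = true ∧ v < 2048 ∧ v ≠ 0) → (∀ u ∈ pre, u < 2048) →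
    T.fixingC H M (rest.reverse ++ pre) = ⊥ → Nat.card (T.fixingC H M pre) ≤ boundM M pre rest := by
  induction rest with
  | nil =>
    intro pre _ _ h
    rw [List.reverse_nil, List.nil_append] at h
    rw [h, Subgroup.card_bot]
    exact le_refl 1
  | cons v t ih =>
    intro pre hv hpre h
    rw [List.reverse_cons, List.append_assoc, List.singleton_append] at h
    obtain ⟨hv1, hvlt, hv0⟩ := hv v List.mem_cons_self
    have h1 := ih (v :: pre) (fun u hu => hv u (List.mem_cons_of_mem v hu)) (fun u hu => by
      rcases List.mem_cons.1 hu with rfl | hu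
      exacts [hvlt, hpre u hu]) h
    let f : T.fixingC H M pre → ↥(T.basis.A H) := fun g => (g : MulAut ↥(T.basis.A H)) (T.el H v)
    let K : Subgroup (T.fixingC H M pre) := (T.fixingC H M (v :: pre)).subgroupOf (T.fixingC H M pre)
    have hle : T.fixingC H M (v :: pre) ≤ T.fixingC H M pre :=
      fun g hg => ⟨hg.1, fun u hu => hg.2 u (List.mem_cons_of_mem v hu)⟩
    have hK : Nat.card K = Nat.card (T.fixingC H M (v :: pre)) :=
      Nat.card_congr (Subgroup.subgroupOfEquivOfLe hle).toEquiv
    have hcand : ∀ g, T.co H (f g) ∈ candsM M pre v := fun g => by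
      have hcl := g.2.1
      refine List.mem_filter.2 ⟨mem_members.2 ⟨T.co_lt H _, ?_⟩, List.all_eq_true.2 fun s hs => ?_⟩
      · have := hcl (T.el H v)
        rw [T.co_el H hvlt] at this
        simp only [clM, hv0, if_false, hv1, if_true] at this
        simp only [f]
        split_ifs at this with a b <;> first | exact b | omega
      · have hs' : s < 2048 := spanC_lt hpre s hs
        rw [beq_iff_eq, ← T.co_el H hs', ← T.co_mul H, ← T.fixingC_span H g.2 s hs, ← map_mul, hcl,
          ← T.el_xor H, T.co_el H (Nat.xor_lt_two_pow (n := 11) hvlt hs'), T.fixingC_span H g.2 s hs,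
          T.co_el H hs']
    have hidx : K.index ≤ (candsM M pre v).length := by
      let em : T.fixingC H M pre ⧸ K → {n : ℕ // n ∈ (candsM M pre v).toFinset} :=
        Quotient.lift (fun g => ⟨T.co H (f g), List.mem_toFinset.2 (hcand g)⟩) fun g g' hgg => Subtype.ext (by
          have hm : (g⁻¹ * g') ∈ K := QuotientGroup.leftRel_apply.1 hgg
          have := hm.2 v List.mem_cons_self
          show T.co H (f g) = T.co H (f g')
          congr 1
          calc f g = (g : MulAut ↥(T.basis.A H)) (((g⁻¹ * g' : T.fixingC H M pre) : MulAut ↥(T.basis.A H)) (T.el H v)) :=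
                congrArg _ this.symm
            _ = f g' := by simp [f])
      have hinj : Function.Injective em := by
        intro a b
        induction a using QuotientGroup.induction_on with
        | _ g =>
          induction b using QuotientGroup.induction_on with
          | _ g' =>
            intro e
            have e' : f g = f g' := by
              have := congrArg (fun w : {n : ℕ // n ∈ (candsM M pre v).toFinset} => T.el H w.1) e
              simpa [em, T.el_co H] using this
            refine QuotientGroup.eq.2 ⟨(g⁻¹ * g').2.1, fun u hu => ?_⟩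
            rcases List.mem_cons.1 hu with rfl | hu
            · show (g : MulAut ↥(T.basis.A H))⁻¹ (f g') = T.el H u
              rw [← e']
              exact (g : MulAut ↥(T.basis.A H)).symm_apply_apply _
            · exact (g⁻¹ * g').2.2 u hu
      calc K.index = Nat.card (T.fixingC H M pre ⧸ K) := rfl
        _ ≤ Nat.card {n : ℕ // n ∈ (candsM M pre v).toFinset} := Nat.card_le_card_of_injective em hinj
        _ ≤ _ := by
          rw [Nat.card_eq_fintype_card, Fintype.card_coe]
          exact List.toFinset_card_le _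
    rw [← K.card_mul_index, hK, boundM, Nat.mul_comm]
    exact Nat.mul_le_mul hidx h1

theorem Todd.card_autSet_le (T : Todd H) {M : ℕ} {base : List ℕ}
    (hb : (base.all fun v => M.testBit v && decide (v < 2048)) = true) (hM : M.testBit 0 = false)
    (hs : (spanC base).foldl (fun m s => m ||| 2 ^ s) 0 = 2 ^ 2048 - 1) :
    Nat.card (T.autSet H M) ≤ boundM M [] base := by
  have htop : T.fixingC H M [] = T.autSet H M := by ext g; simp [Todd.fixingC]
  have hb' := List.all_eq_true.1 hb
  have h := T.card_fixingC H M base [] (fun v hv => by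
    have := hb' v hv
    simp only [Bool.and_eq_true, decide_eq_true_eq] at this
    exact ⟨this.1, this.2, fun e => by subst e; rw [hM] at this; exact absurd this.1 (by simp)⟩) (by simp) ?_
  · rw [htop] at h
    exact h
  · rw [List.append_nil, eq_bot_iff]
    intro g hg
    have hg' : g ∈ T.fixingC H M base := ⟨hg.1, fun u hu => hg.2 u (List.mem_reverse.2 hu)⟩
    have hall : ∀ n < 2048, n ∈ spanC base := by
      have key : ∀ (l : List ℕ) (m n : ℕ), (l.foldl (fun m s => m ||| 2 ^ s) m).testBit n = true →
          m.testBit n = true ∨ n ∈ l := by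
        intro l
        induction l with
        | nil => exact fun m n h => Or.inl h
        | cons a t ih =>
          intro m n h
          rcases ih _ n h with h | h
          · rw [Nat.testBit_or, Bool.or_eq_true] at h
            rcases h with h | h
            · exact Or.inl h
            · rw [Nat.testBit_two_pow, decide_eq_true_eq] at h; exact Or.inr (List.mem_cons.2 (Or.inl h.symm))
          · exact Or.inr (List.mem_cons_of_mem a h)
      intro n hn
      refine (key (spanC base) 0 n ?_).resolve_left (by simp)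
      rw [hs, Nat.testBit_two_pow_sub_one]
      simpa using hn
    refine Subgroup.mem_bot.2 (MulEquiv.ext fun y => ?_)
    rw [← T.el_co H y]
    exact T.fixingC_span H hg' _ (hall _ (T.co_lt H y))

theorem Todd.autGrp_le (T : Todd H) : T.autGrp H ≤ T.autSet H (T.orbMask H) := by
  intro σ hσ y
  have hiff : T.InOrbit H (T.co H (σ y)) ↔ T.InOrbit H (T.co H y) := by
    have hr : T.Rel H (T.autGrp H) (T.co H y) (T.co H (σ y)) := ⟨σ, hσ, by rw [T.el_co H, T.el_co H]⟩
    exact ⟨fun h => T.rel_trans H h (T.rel_symm H hr), fun h => T.rel_trans H h hr⟩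
  rw [← T.orbMask_spec H (T.co_lt H _), ← T.orbMask_spec H (T.co_lt H _)] at hiff
  have h0 : T.co H (σ y) = 0 ↔ T.co H y = 0 := by
    have hz : ∀ w, T.co H w = 0 ↔ w = 1 := fun w => by
      refine ⟨fun h => by rw [← T.el_co H w, h, T.el_zero H], fun h => ?_⟩
      rw [h, ← T.el_zero H, T.co_el H (by norm_num)]
    rw [hz, hz]
    exact EmbeddingLike.map_eq_one_iff
  simp only [clM, h0]
  split
  · rfl
  · by_cases hb : (T.orbMask H).testBit (T.co H y) = true
    · rw [if_pos (hiff.2 hb), if_pos hb]
    · rw [if_neg fun h => hb (hiff.1 h), if_neg hb]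

/-- One step of a stabiliser chain. -/
theorem Todd.chain_step (T : Todd H) {S : Subgroup (MulAut ↥(T.basis.A H))} {root M k : ℕ} {l : List ℕ}
    {ok : ℕ → Bool} (hg : grow ok l (2 ^ root) = some M) (hS : ∀ g < 16, ok g = true → T.gAut H g ∈ S)
    (hk : (members M).length = k) :
    k * Nat.card ↥(S ⊓ MulAction.stabilizer (MulAut ↥(T.basis.A H)) (T.el H root)) ≤ Nat.card S := by
  classical
  have h1 : k ≤ Nat.card (MulAction.orbit S (T.el H root)) := by
    rw [T.ncard_orbit H, ← hk, ← List.toFinset_card_of_nodup (members_nodup M), ← Nat.card_eq_finsetCard]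
    haveI : Finite {n : ℕ // n < 2048 ∧ T.Rel H S root n} :=
      Finite.of_injective (fun n => (⟨n.1, n.2.1⟩ : Fin 2048)) fun a b e => Subtype.ext (congrArg Fin.val e)
    refine Nat.card_le_card_of_injective
      (fun n => ⟨n.1, (mem_members.1 (List.mem_toFinset.1 n.2)).1,
        T.rel_grow H hS l _ M hg (fun j hj => ?_) n.1 (mem_members.1 (List.mem_toFinset.1 n.2)).2⟩)
      fun a b e => Subtype.ext (congrArg (fun w : {n : ℕ // n < 2048 ∧ T.Rel H S root n} => w.1) e)
    rw [Nat.testBit_two_pow, decide_eq_true_eq] at hj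
    rw [← hj]; exact T.rel_refl H _ _
  have h2 := (Nat.card_congr (MulAction.orbitProdStabilizerEquivGroup S (T.el H root))).symm
  rw [Nat.card_prod] at h2
  rw [h2]
  refine Nat.mul_le_mul h1 (le_of_eq ?_)
  exact Nat.card_congr
    { toFun := fun g => ⟨⟨g.1, (Subgroup.mem_inf.mp g.2).1⟩, (Subgroup.mem_inf.mp g.2).2⟩
      invFun := fun g => ⟨g.1.1, Subgroup.mem_inf.mpr ⟨g.1.2, g.2⟩⟩
      left_inv := fun _ => rfl
      right_inv := fun _ => rfl }

/-- The lower bound on the stabiliser of `z`. -/
theorem Todd.card_stab_ge (T : Todd H) :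
    322560 ≤ Nat.card ↥(T.autGrp H ⊓ MulAction.stabilizer (MulAut ↥(T.basis.A H)) (T.el H 1)) := by
  have hst : ∀ (g i : ℕ), linC (gimg g) i = i →
      T.gAut H g ∈ MulAction.stabilizer (MulAut ↥(T.basis.A H)) (T.el H i) := fun g i e => by
    show T.gAut H g (T.el H i) = T.el H i
    rw [T.gAut_el H, e]
  have hfix : ∀ {k g : ℕ}, okFix k g = true → ∀ i < k, linC (gimg g) (2 <<< i) = 2 <<< i := fun h i hi => by
    have := List.all_eq_true.1 h i (List.mem_range.2 hi)
    simpa using this
  set S0 := T.autGrp H ⊓ MulAction.stabilizer (MulAut ↥(T.basis.A H)) (T.el H 1) with hS0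
  set S1 := S0 ⊓ MulAction.stabilizer (MulAut ↥(T.basis.A H)) (T.el H 2) with hS1
  set S2 := S1 ⊓ MulAction.stabilizer (MulAut ↥(T.basis.A H)) (T.el H 4) with hS2
  set S3 := S2 ⊓ MulAction.stabilizer (MulAut ↥(T.basis.A H)) (T.el H 8) with hS3
  have m0 : ∀ g < 16, T.gAut H g ∈ S0 := fun g hg => ⟨T.gAut_mem H g, hst g 1 (gimg_one g hg)⟩
  have m1 : ∀ g < 16, okFix 1 g = true → T.gAut H g ∈ S1 :=
    fun g hg h => ⟨m0 g hg, hst g 2 (hfix h 0 (by norm_num))⟩
  have m2 : ∀ g < 16, okFix 2 g = true → T.gAut H g ∈ S2 :=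
    fun g hg h => ⟨⟨m0 g hg, hst g 2 (hfix h 0 (by norm_num))⟩, hst g 4 (hfix h 1 (by norm_num))⟩
  have m3 : ∀ g < 16, okFix 3 g = true → T.gAut H g ∈ S3 :=
    fun g hg h => ⟨⟨⟨m0 g hg, hst g 2 (hfix h 0 (by norm_num))⟩, hst g 4 (hfix h 1 (by norm_num))⟩,
      hst g 8 (hfix h 2 (by norm_num))⟩
  obtain ⟨l0, l1, l2, l3⟩ := lengths
  have e0 := T.chain_step H grow_pt (S := S0) (fun g hg _ => m0 g hg) l0
  have e1 := T.chain_step H grow_two (S := S1) m1 l1
  have e2 := T.chain_step H grow_three (S := S2) m2 l2
  have e3 := T.chain_step H grow_four (S := S3) m3 l3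
  have h4 : 0 < Nat.card ↥(S3 ⊓ MulAction.stabilizer (MulAut ↥(T.basis.A H)) (T.el H 16)) := Nat.card_pos
  rw [← hS1] at e0
  rw [← hS2] at e1
  rw [← hS3] at e2
  omega

theorem Todd.card_autGrp_ge (T : Todd H) (h : (members (T.orbMask H)).length = 759) :
    244823040 ≤ Nat.card (T.autGrp H) := by
  classical
  have h2 := (Nat.card_congr (MulAction.orbitProdStabilizerEquivGroup (T.autGrp H) (T.el H 1))).symm
  rw [Nat.card_prod, T.ncard_orbit H] at h2
  have e : Nat.card {n : ℕ // n < 2048 ∧ T.Rel H (T.autGrp H) 1 n} = 759 := by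
    rw [Nat.card_congr (Equiv.subtypeEquivRight (q := fun n => n ∈ (members (T.orbMask H)).toFinset) fun n => ?_),
      Nat.card_eq_fintype_card, Fintype.card_coe, List.toFinset_card_of_nodup (members_nodup _), h]
    rw [List.mem_toFinset, mem_members]
    exact and_congr_right fun hn => (T.orbMask_spec H hn).symm
  have hs : Nat.card (MulAction.stabilizer (T.autGrp H) (T.el H 1)) =
      Nat.card ↥(T.autGrp H ⊓ MulAction.stabilizer (MulAut ↥(T.basis.A H)) (T.el H 1)) := Nat.card_congr
    { toFun := fun g => ⟨g.1.1, Subgroup.mem_inf.mpr ⟨g.1.2, g.2⟩⟩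
      invFun := fun g => ⟨⟨g.1, (Subgroup.mem_inf.mp g.2).1⟩, (Subgroup.mem_inf.mp g.2).2⟩
      left_inv := fun _ => rfl
      right_inv := fun _ => rfl }
  have := T.card_stab_ge H
  rw [h2, e, hs]
  omega

/-- The orbit is the first set and the induced group its full stabiliser. -/
theorem Todd.autGrp_eq (T : Todd H) :
    T.orbMask H = setBig ∧ Nat.card (T.autGrp H) = 244823040 ∧ T.autGrp H = T.autSet H setBig := by
  obtain ⟨l1, l2, z1, z2⟩ := set_lengths
  rcases T.orbMask_cases H with h | h
  · have h' : T.orbMask H = setBig := h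
    have hge := T.card_autGrp_ge H (by rw [h']; exact l1)
    have hle := T.autGrp_le H
    rw [h'] at hle
    have hub := T.card_autSet_le H base_ok.1 z1 span_ok.1
    rw [bound_big] at hub
    have hcard := Nat.card_le_card_of_injective (Subgroup.inclusion hle) (Subgroup.inclusion_injective hle)
    exact ⟨h', by omega, Subgroup.eq_of_le_of_card_ge hle (by omega)⟩
  · exfalso
    have h' : T.orbMask H = setAlt := h
    have hge := T.card_autGrp_ge H (by rw [h']; exact l2)
    have hle := T.autGrp_le H
    rw [h'] at hle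
    have hub := T.card_autSet_le H base_ok.2 z2 span_ok.2.1
    rw [bound_alt] at hub
    have hcard := Nat.card_le_card_of_injective (Subgroup.inclusion hle) (Subgroup.inclusion_injective hle)
    omega

end Cfsg.Agent.Lib.Co1Todd15
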