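/-!
Trees of the orbits of the upper triangular maps on the four points.
-/

set_option autoImplicit false

namespace Cfsg.Agent.Lib.Co1Todd15

/-- The tree at `2`. -/
def treeUpA : List Nat := [229408, 360481, 622626, 98348, 458865, 721010, 196732, 852146, 327868, 590140, 1016034, 491756, 754028, 885164, 983548]

/-- Its members. -/
def maskUpA : Nat := 0xcccccccc

/-- The tree at `4`. -/
def treeUpB : List Nat := [426052, 688197, 163917, 917717, 393437, 655709, 950733]

/-- Its members. -/
def maskUpB : Nat := 0x30303030

/-- The tree at `8`. -/
def treeUpC : List Nat := [819336, 295054, 786846]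

/-- Its members. -/
def maskUpC : Nat := 0x3000300

/-- The tree at `16`. -/
def treeUpD : List Nat := [557327]

/-- Its members. -/
def maskUpD : Nat := 0x30000

end Cfsg.Agent.Lib.Co1Todd15
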