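import Cfsg.Agent.Lib.Co1Todd15.Beta

/-!
Codes of the elements of the centraliser for the normalised lines, and the images of their basis under the
Levi lifts and the elements `m k`.
-/

set_option autoImplicit false

namespace Cfsg.Agent.Lib.Co1Todd15

open Co1Type47 LargeExtra

/-- The parity of a quadruple. -/
def par4 (i j k l : Fin 4) : ZMod 2 :=
  (if j < i then 1 else 0) + (if k < i then 1 else 0) + (if l < i then 1 else 0) + (if k < j then 1 else 0)
    + (if l < j then 1 else 0) + (if l < k then 1 else 0)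

/-- A point outside a line. -/
def oth : Fin 6 → Fin 4 := ![2, 1, 1, 0, 0, 0]

/-- The other one. -/
def oth' : Fin 6 → Fin 4 := ![3, 3, 2, 3, 2, 1]

/-- The fourth point. -/
def fourth (i j k : Fin 4) : Fin 4 := ⟨(6 - (i.val + j.val + k.val)) % 4, Nat.mod_lt _ (by decide)⟩

theorem fourth_spec : ∀ i j k : Fin 4, i ≠ j → i ≠ k → j ≠ k →
    i ≠ fourth i j k ∧ j ≠ fourth i j k ∧ k ≠ fourth i j k := by
  decide

theorem par4_rules : ∀ i j k l : Fin 4, i ≠ j → i ≠ k → i ≠ l → j ≠ k → j ≠ l → k ≠ l →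
    par4 i k j l = par4 i j k l + 1 ∧ par4 l k j i = par4 i j k l := by
  decide

theorem canon_cases : ∀ i j k : Fin 4, i ≠ j → i ≠ k → j ≠ k →
    ((i = oth (lineIdx j k) ∧ fourth i j k = oth' (lineIdx j k)) ∨
      (i = oth' (lineIdx j k) ∧ fourth i j k = oth (lineIdx j k))) ∧
    ((j = lineFst (lineIdx j k) ∧ k = lineSnd (lineIdx j k)) ∨
      (j = lineSnd (lineIdx j k) ∧ k = lineFst (lineIdx j k))) := by
  decide

theorem canon_distinct : ∀ s : Fin 6, oth s ≠ lineFst s ∧ oth s ≠ lineSnd s ∧ oth s ≠ oth' s ∧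
    lineFst s ≠ lineSnd s ∧ lineFst s ≠ oth' s ∧ lineSnd s ≠ oth' s ∧ lineIdx (lineFst s) (lineSnd s) = s := by
  decide

/-- The code of the point `i`. -/
def rc (i : Fin 4) : ℕ := 2 <<< i.val

/-- The code of a line. -/
def lc (i j : Fin 4) : ℕ := 32 <<< (lineIdx i j).val

/-- A bit as a code. -/
def bc (e : ZMod 2) : ℕ := if e = 0 then 0 else 1

/-- Images of a code by a linear map. -/
def xorL (img : Fin 11 → ℕ) (x : ℕ) : List (Fin 11) → ℕ
  | [] => 0
  | k :: t => (if x.testBit k.val then img k else 0) ^^^ xorL img x t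

/-- The linear map with given images. -/
def linC (img : Fin 11 → ℕ) (x : ℕ) : ℕ := xorL img x (List.finRange 11)

/-- The image of a line under `t i j`. -/
def tLine (i j : Fin 4) (s : Fin 6) : ℕ :=
  if i = lineFst s then
    if j = lineSnd s then lc i j ^^^ rc j
    else lc i (lineSnd s) ^^^ lc j (lineSnd s) ^^^ bc (par4 i j (lineSnd s) (fourth i j (lineSnd s)))
  else if i = lineSnd s then
    if j = lineFst s then lc i j ^^^ rc j
    else lc i (lineFst s) ^^^ lc j (lineFst s) ^^^ bc (par4 i j (lineFst s) (fourth i j (lineFst s)))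
  else if j = lineFst s ∨ j = lineSnd s then lc (lineFst s) (lineSnd s)
  else lc (lineFst s) (lineSnd s) ^^^ 1

/-- The image of a line under `m k`. -/
def mLine (k : Fin 4) (s : Fin 6) : ℕ :=
  if k = lineFst s then lc (lineFst s) (lineSnd s) ^^^ (rc (lineSnd s) ^^^ 1)
  else if k = lineSnd s then lc (lineFst s) (lineSnd s) ^^^ (rc (lineFst s) ^^^ 1)
  else lc (lineFst s) (lineSnd s)

/-- The image of a point under `t i j`. -/
def tPoint (i j q : Fin 4) : ℕ := if q = i then rc i ^^^ (rc j ^^^ 1) else rc q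

/-- The image of a point under `m k`. -/
def mPoint (k q : Fin 4) : ℕ := if q = k then rc q ^^^ 1 else rc q

/-- Images of the basis under `t i j`. -/
def tImg (i j : Fin 4) : Fin 11 → ℕ := fun k => [1, tPoint i j 0, tPoint i j 1, tPoint i j 2, tPoint i j 3,
  tLine i j 0, tLine i j 1, tLine i j 2, tLine i j 3, tLine i j 4, tLine i j 5].getD k.val 0

/-- Images of the basis under `m k`. -/
def mImg (q : Fin 4) : Fin 11 → ℕ := fun k => [1, mPoint q 0, mPoint q 1, mPoint q 2, mPoint q 3,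
  mLine q 0, mLine q 1, mLine q 2, mLine q 3, mLine q 4, mLine q 5].getD k.val 0

variable {G : Type*} [Group G] [Finite G] {z : G} {Qf : G → Subgroup G}
variable (H : Hyp z Qf)
include H

/-- The correction of a line. -/
noncomputable def Todd.gauge (T : Todd H) (s : Fin 6) : ZMod 2 :=
  T.beta H (oth s) (lineFst s) (lineSnd s) + par4 (oth s) (lineFst s) (lineSnd s) (oth' s)

theorem Todd.beta_eq (T : Todd H) {i j k : Fin 4} (n1 : i ≠ j) (n2 : i ≠ k) (n4 : j ≠ k) :
    T.beta H i j k + T.gauge H (lineIdx j k) = par4 i j k (fourth i j k) := by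
  obtain ⟨h1, h2⟩ := canon_cases i j k n1 n2 n4
  rw [Todd.gauge]
  generalize lineIdx j k = s at h1 h2 ⊢
  obtain ⟨d1, d2, d3, d4, d5, d6, -⟩ := canon_distinct s
  obtain ⟨p1, p2⟩ := par4_rules _ _ _ _ d1 d2 d3 d4 d5 d6
  obtain ⟨p3, -⟩ := par4_rules _ _ _ _ d6.symm d5.symm d3.symm d4.symm d2.symm d1.symm
  have r2 := T.beta_two H d1 d2 d3 d4 d5 d6
  have r2' := T.beta_two H d2 d1 d3 d4.symm d6 d5
  have r1 := T.beta_one H d4 d1.symm d2.symm
  have h22 : ∀ u v : ZMod 2, u + (u + v) = v := by decide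
  rcases h1 with ⟨rfl, e⟩ | ⟨rfl, e⟩ <;> rcases h2 with ⟨rfl, rfl⟩ | ⟨rfl, rfl⟩ <;> rw [e]
  · exact h22 _ _
  · rw [p1, r1]; exact (by decide : ∀ u v : ZMod 2, u + (u + 1 + v) = v + 1) _ _
  · rw [p3, p2, ← r2', r1]; exact (by decide : ∀ u v : ZMod 2, u + (u + 1 + v) = v + 1) _ _
  · rw [p2, ← r2]; exact h22 _ _

/-- A normalised line. -/
noncomputable def Todd.gl (T : Todd H) (i j : Fin 4) : G :=
  T.basis.line H i j * bpow z (T.gauge H (lineIdx i j))

theorem Todd.gl_symm (T : Todd H) (i j : Fin 4) : T.gl H i j = T.gl H j i := by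
  by_cases h : i = j
  · rw [h]
  · rw [Todd.gl, Todd.gl, T.basis.line_symm H, (lineIdx_spec i j h).2]

theorem Todd.gl_mem (T : Todd H) (i j : Fin 4) : T.gl H i j ∈ T.basis.A H :=
  mul_mem (T.basis.line_mem H i j) (T.bpow_mem_A H _)

/-- The normalised basis. -/
noncomputable def Todd.ngen (T : Todd H) : Fin 11 → G :=
  ![z, T.basis.r 0, T.basis.r 1, T.basis.r 2, T.basis.r 3, T.gl H 0 1, T.gl H 0 2, T.gl H 0 3, T.gl H 1 2,
    T.gl H 1 3, T.gl H 2 3]

theorem Todd.ngen_mem (T : Todd H) (k : Fin 11) : T.ngen H k ∈ T.basis.A H := by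
  fin_cases k
  exacts [T.basis.z_mem_A H, T.basis.r_mem_A H 0, T.basis.r_mem_A H 1, T.basis.r_mem_A H 2, T.basis.r_mem_A H 3,
    T.gl_mem H 0 1, T.gl_mem H 0 2, T.gl_mem H 0 3, T.gl_mem H 1 2, T.gl_mem H 1 3, T.gl_mem H 2 3]

/-- Products over a list by the bits of a code. -/
noncomputable def Todd.cdL (T : Todd H) (n : ℕ) (l : List (Fin 11)) : G :=
  (l.map fun k => if n.testBit k.val then T.ngen H k else 1).prod

/-- The element with a given code. -/
noncomputable def Todd.cd (T : Todd H) (n : ℕ) : G := T.cdL H n (List.finRange 11)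

theorem Todd.cdL_mem (T : Todd H) (n : ℕ) (l : List (Fin 11)) : T.cdL H n l ∈ T.basis.A H := by
  refine Subgroup.list_prod_mem _ fun u hu => ?_
  obtain ⟨k, -, rfl⟩ := List.mem_map.1 hu
  split
  exacts [T.ngen_mem H k, one_mem _]

theorem Todd.cd_mem (T : Todd H) (n : ℕ) : T.cd H n ∈ T.basis.A H := T.cdL_mem H n _

theorem Todd.cdL_xor (T : Todd H) (a b : ℕ) (l : List (Fin 11)) :
    T.cdL H (a ^^^ b) l = T.cdL H a l * T.cdL H b l := by
  induction l with
  | nil => simp [Todd.cdL]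
  | cons k t ih =>
    have hm : ∀ c : ℕ, (if c.testBit k.val then T.ngen H k else 1) ∈ T.basis.A H := fun c => by
      split
      exacts [T.ngen_mem H k, one_mem _]
    have e : ∀ c : ℕ, T.cdL H c (k :: t) = (if c.testBit k.val then T.ngen H k else 1) * T.cdL H c t :=
      fun c => by simp [Todd.cdL]
    rw [e, e, e, ih, T.comm4 H (T.cdL_mem H a t) (hm b)]
    congr 1
    rw [Nat.testBit_xor]
    cases a.testBit k.val <;> cases b.testBit k.val <;> simp [T.sq_A H (T.ngen_mem H k)]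

theorem Todd.cd_xor (T : Todd H) (a b : ℕ) : T.cd H (a ^^^ b) = T.cd H a * T.cd H b := T.cdL_xor H a b _

theorem Todd.cd_zero (T : Todd H) : T.cd H 0 = 1 := by simp [Todd.cd, Todd.cdL]

theorem Todd.cd_pow (T : Todd H) (k : Fin 11) : T.cd H (2 ^ k.val) = T.ngen H k := by
  rw [Todd.cd, Todd.cdL, show List.finRange 11 = [0, 1, 2, 3, 4, 5, 6, 7, 8, 9, 10] from rfl]
  simp only [List.map_cons, List.map_nil, List.prod_cons, List.prod_nil, Nat.testBit_two_pow]
  fin_cases k <;> simp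

theorem Todd.cd_one (T : Todd H) : T.cd H 1 = z := T.cd_pow H 0

theorem Todd.cd_rc (T : Todd H) (i : Fin 4) : T.cd H (rc i) = T.basis.r i := by
  fin_cases i
  exacts [T.cd_pow H 1, T.cd_pow H 2, T.cd_pow H 3, T.cd_pow H 4]

theorem Todd.cd_lc (T : Todd H) {i j : Fin 4} (h : i ≠ j) : T.cd H (lc i j) = T.gl H i j := by
  have key : ∀ i j : Fin 4, i < j → T.cd H (lc i j) = T.gl H i j := by
    intro i j h
    fin_cases i <;> fin_cases j <;> first
      | exact absurd h (by decide)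
      | exact T.cd_pow H 5
      | exact T.cd_pow H 6
      | exact T.cd_pow H 7
      | exact T.cd_pow H 8
      | exact T.cd_pow H 9
      | exact T.cd_pow H 10
  rcases lt_or_gt_of_ne h with h' | h'
  · exact key i j h'
  · rw [T.gl_symm H, lc, (lineIdx_spec i j h).2]; exact key j i h'

theorem Todd.cd_bc (T : Todd H) (e : ZMod 2) : T.cd H (bc e) = bpow z e := by
  rcases zmod_cases e with rfl | rfl
  · exact T.cd_zero H
  · exact T.cd_one H

theorem Todd.cj_cd (T : Todd H) (g : G) (img : Fin 11 → ℕ) (h : ∀ k, cj g (T.ngen H k) = T.cd H (img k))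
    (x : ℕ) : cj g (T.cd H x) = T.cd H (linC img x) := by
  have key : ∀ l : List (Fin 11), cj g (T.cdL H x l) = T.cd H (xorL img x l) := by
    intro l
    induction l with
    | nil => rw [xorL, T.cd_zero H]; simp [Todd.cdL, cj]
    | cons k t ih =>
      have e : T.cdL H x (k :: t) = (if x.testBit k.val then T.ngen H k else 1) * T.cdL H x t := by
        simp [Todd.cdL]
      rw [e, xorL, T.cd_xor H, cj_mul, ih]
      congr 1
      split
      · exact h k
      · rw [T.cd_zero H]; simp [cj]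
  exact key _

theorem Todd.cj_t_gl (T : Todd H) {i j : Fin 4} (h : i ≠ j) (a b : Fin 4) :
    cj (T.basis.t H i j) (T.gl H a b) =
      cj (T.basis.t H i j) (T.basis.line H a b) * bpow z (T.gauge H (lineIdx a b)) := by
  rw [Todd.gl, cj_mul, cj_bpow (T.basis.t_cz H i j)]

theorem Todd.cj_t_line (T : Todd H) {i j : Fin 4} (h : i ≠ j) (s : Fin 6) :
    cj (T.basis.t H i j) (T.gl H (lineFst s) (lineSnd s)) = T.cd H (tLine i j s) := by
  obtain ⟨-, -, -, nab, -⟩ := canon_distinct s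
  generalize ha : lineFst s = a at nab
  generalize hb : lineSnd s = b at nab
  have hz := T.basis.t_cz H i j
  have hswap : ∀ (p q : G) (e : ZMod 2), q ∈ T.basis.A H → p * q * bpow z e = p * bpow z e * q := fun p q e hq => by
    rw [mul_assoc, T.comm_A H hq (T.bpow_mem_A H e), ← mul_assoc]
  have move : ∀ l, i ≠ l → j ≠ l → cj (T.basis.t H i j) (T.gl H i l) =
      T.cd H (lc i l ^^^ lc j l ^^^ bc (par4 i j l (fourth i j l))) := fun l n2 n3 => by
    rw [T.cj_t_gl H h, T.beta_spec H h n2 n3, T.cd_xor H, T.cd_xor H, T.cd_lc H n2, T.cd_lc H n3,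
      T.cd_bc H, ← T.beta_eq H h n2 n3, ← bpow_mul (zz' H), Todd.gl, Todd.gl]
    have hl := T.bpow_mem_A H
    rw [T.comm4 H (hl _) (T.basis.line_mem H j l), mul_assoc _ (bpow z (T.beta H i j l)),
      mul_assoc _ (bpow z (T.gauge H (lineIdx i l)) * bpow z (T.gauge H (lineIdx j l)))]
    congr 1
    simp only [bpow_mul (zz' H)]
    congr 1
    exact (by decide : ∀ u v w : ZMod 2, u + v = v + w + (u + w)) _ _ _
  have own : cj (T.basis.t H i j) (T.gl H i j) = T.cd H (lc i j ^^^ rc j) := by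
    rw [T.cj_t_gl H h, T.basis.t_line_own H h, T.cd_xor H, T.cd_lc H h, T.cd_rc H, Todd.gl,
      hswap _ _ _ (T.basis.r_mem_A H j)]
  simp only [tLine, ha, hb]
  split_ifs with h1 h2 h3 h4 h5
  · subst h1; subst h2; exact own
  · subst h1; exact move b nab h2
  · subst h3; subst h4; rw [T.gl_symm H]; exact own
  · subst h3; rw [T.gl_symm H]; exact move a nab.symm h4
  · rw [T.cd_lc H nab, T.cj_t_gl H h]
    congr 1
    rcases h5 with rfl | rfl
    · exact T.basis.t_line_keep H h nab.symm (fun e => h3 e.symm)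
    · rw [T.basis.line_symm H]; exact T.basis.t_line_keep H h nab (fun e => h1 e.symm)
  · rw [not_or] at h5
    rw [T.cd_xor H, T.cd_lc H nab, T.cd_one H, T.cj_t_gl H h,
      T.t_line_off H h.symm h5.1 h5.2 h1 h3 nab, Todd.gl, hswap _ _ _ (T.basis.z_mem_A H)]

theorem Todd.cj_t_point (T : Todd H) {i j : Fin 4} (h : i ≠ j) (q : Fin 4) :
    cj (T.basis.t H i j) (T.basis.r q) = T.cd H (tPoint i j q) := by
  unfold tPoint
  split_ifs with e
  · subst e
    rw [T.cd_xor H, T.cd_xor H, T.cd_rc H, T.cd_rc H, T.cd_one H, T.basis.t_r_self H h]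
  · rw [T.cd_rc H, T.basis.t_r_ne H h e]

theorem Todd.cj_t (T : Todd H) {i j : Fin 4} (h : i ≠ j) (x : ℕ) :
    cj (T.basis.t H i j) (T.cd H x) = T.cd H (linC (tImg i j) x) := by
  refine T.cj_cd H _ _ (fun k => ?_) x
  fin_cases k
  exacts [(cj_eq_self (T.basis.t_cz H i j)).trans (T.cd_one H).symm, T.cj_t_point H h 0, T.cj_t_point H h 1,
    T.cj_t_point H h 2, T.cj_t_point H h 3, T.cj_t_line H h 0, T.cj_t_line H h 1, T.cj_t_line H h 2,
    T.cj_t_line H h 3, T.cj_t_line H h 4, T.cj_t_line H h 5]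

theorem Todd.cj_m_line (T : Todd H) (k : Fin 4) (s : Fin 6) :
    cj (T.basis.m k) (T.gl H (lineFst s) (lineSnd s)) = T.cd H (mLine k s) := by
  obtain ⟨-, -, -, nab, -⟩ := canon_distinct s
  generalize ha : lineFst s = a at nab
  generalize hb : lineSnd s = b at nab
  have hz := T.basis.m_cz H k
  have hswap : ∀ (p q : G) (e : ZMod 2), q ∈ T.basis.A H → p * q * bpow z e = p * bpow z e * q := fun p q e hq => by
    rw [mul_assoc, T.comm_A H hq (T.bpow_mem_A H e), ← mul_assoc]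
  simp only [mLine, ha, hb]
  split_ifs with h1 h2
  · subst h1
    rw [T.cd_xor H, T.cd_xor H, T.cd_lc H nab, T.cd_rc H, T.cd_one H, Todd.gl, cj_mul, cj_bpow hz,
      T.basis.m_line H nab, hswap _ _ _ (mul_mem (T.basis.r_mem_A H _) (T.basis.z_mem_A H))]
  · subst h2
    rw [T.cd_xor H, T.cd_xor H, T.cd_lc H nab, T.cd_rc H, T.cd_one H, Todd.gl, cj_mul, cj_bpow hz,
      T.basis.line_symm H a, T.basis.m_line H nab.symm,
      hswap _ _ _ (mul_mem (T.basis.r_mem_A H _) (T.basis.z_mem_A H))]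
  · rw [T.cd_lc H nab, Todd.gl, cj_mul, cj_bpow hz, T.basis.m_line_off H nab h1 h2]

theorem Todd.cj_m_point (T : Todd H) (k q : Fin 4) :
    cj (T.basis.m k) (T.basis.r q) = T.cd H (mPoint k q) := by
  unfold mPoint
  split_ifs with e
  · subst e
    rw [T.cd_xor H, T.cd_rc H, T.cd_one H, T.basis.m_r H, bV_comm, ee_ff, if_pos rfl, bpow_one]
  · rw [T.cd_rc H, T.basis.m_r H, ff_ee_ne (Ne.symm e), bpow_zero, mul_one]

theorem Todd.cj_m (T : Todd H) (q : Fin 4) (x : ℕ) :
    cj (T.basis.m q) (T.cd H x) = T.cd H (linC (mImg q) x) := by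
  refine T.cj_cd H _ _ (fun k => ?_) x
  fin_cases k
  exacts [(cj_eq_self (T.basis.m_cz H q)).trans (T.cd_one H).symm, T.cj_m_point H q 0, T.cj_m_point H q 1,
    T.cj_m_point H q 2, T.cj_m_point H q 3, T.cj_m_line H q 0, T.cj_m_line H q 1, T.cj_m_line H q 2,
    T.cj_m_line H q 3, T.cj_m_line H q 4, T.cj_m_line H q 5]

theorem Todd.exists_cd (T : Todd H) {a : G} (ha : a ∈ T.basis.A H) : ∃ n < 2048, T.cd H n = a := by
  obtain ⟨x, rfl⟩ := T.basis.exists_coord H ha
  have hgen : ∀ k, ∃ n < 2048, T.cd H n = T.basis.gen H k := by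
    have hg : ∀ s : Fin 6, ∃ n < 2048, T.cd H n = T.basis.L H s := fun s => by
      obtain ⟨-, -, -, nab, -, -, hs⟩ := canon_distinct s
      refine ⟨lc (lineFst s) (lineSnd s) ^^^ bc (T.gauge H s), ?_, ?_⟩
      · refine Nat.xor_lt_two_pow (n := 11) ?_ ?_
        · rw [lc, hs]; revert s; decide
        · unfold bc; split <;> norm_num
      · rw [T.cd_xor H, T.cd_lc H nab, T.cd_bc H, Todd.gl, Basis.line, hs, mul_assoc, bpow_mul (zz' H),
          (by decide : ∀ u : ZMod 2, u + u = 0), bpow_zero, mul_one]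
    intro k
    fin_cases k
    exacts [⟨1, by norm_num, T.cd_one H⟩, ⟨_, by decide, T.cd_rc H 0⟩, ⟨_, by decide, T.cd_rc H 1⟩,
      ⟨_, by decide, T.cd_rc H 2⟩, ⟨_, by decide, T.cd_rc H 3⟩, hg 0, hg 1, hg 2, hg 3, hg 4, hg 5]
  rw [Basis.Phi, Basis.gprod]
  induction List.finRange 11 with
  | nil => exact ⟨0, by norm_num, T.cd_zero H⟩
  | cons k t ih =>
    obtain ⟨n, hn, e⟩ := ih
    obtain ⟨m, hm, e'⟩ : ∃ m < 2048, T.cd H m = bpow (T.basis.gen H k) (x k) := by
      rcases bpow_cases (T.basis.gen H k) (x k) with u | u <;> rw [u]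
      exacts [⟨0, by norm_num, T.cd_zero H⟩, hgen k]
    refine ⟨m ^^^ n, Nat.xor_lt_two_pow (n := 11) hm hn, ?_⟩
    rw [List.map_cons, List.prod_cons, T.cd_xor H, e, e']

theorem Todd.cd_inj (T : Todd H) {a b : ℕ} (ha : a < 2048) (hb : b < 2048) (h : T.cd H a = T.cd H b) : a = b := by
  haveI : Finite (T.basis.A H) := inferInstance
  have hs : Function.Surjective (fun n : Fin 2048 => (⟨T.cd H n, T.cd_mem H n⟩ : T.basis.A H)) := fun y => by
    obtain ⟨n, hn, e⟩ := T.exists_cd H y.2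
    exact ⟨⟨n, hn⟩, Subtype.ext e⟩
  have hbij := (Nat.bijective_iff_surjective_and_card _).2 ⟨hs, by rw [T.card_A H, Nat.card_eq_fintype_card, Fintype.card_fin]; rfl⟩
  exact congrArg Fin.val (hbij.injective (a₁ := ⟨a, ha⟩) (a₂ := ⟨b, hb⟩) (Subtype.ext h))

end Cfsg.Agent.Lib.Co1Todd15
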