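import Cfsg.Agent.Lib.Co1Todd15.Lifts

/-!
The eleven lifts commute pairwise and give coordinates on the centraliser.
-/

set_option autoImplicit false

namespace Cfsg.Agent.Lib.Co1Todd15

open Co1Type47 LargeExtra

theorem indep_ee : ∀ a b c d : ZMod 2, a • ee 0 + b • ee 1 + c • ee 2 + d • ee 3 = 0 →
    a = 0 ∧ b = 0 ∧ c = 0 ∧ d = 0 := by
  decide +kernel

theorem perp_perp {u v : V8} (hu : ∀ k, bV u (ee k) = 0) (hv : ∀ k, bV v (ee k) = 0) : bV u v = 0 := by
  rw [perp_decomp v hv]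
  rcases zmod_cases (bV v (ff 0)) with e | e <;> rcases zmod_cases (bV v (ff 1)) with e' | e' <;>
    rcases zmod_cases (bV v (ff 2)) with e'' | e'' <;> rcases zmod_cases (bV v (ff 3)) with e''' | e''' <;>
    simp [e, e', e'', e''', bV_add_right, hu, bV_zero_right]

variable {G : Type*} [Group G] [Finite G] {z : G} {Qf : G → Subgroup G}
variable (H : Hyp z Qf)
include H

/-- Every permutation of the four points is induced in `C(z)`. -/
theorem Basis.exists_perm_elt (B : Basis z Qf) (σ : Equiv.Perm (Fin 4)) :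
    ∃ g, g * z = z * g ∧ ∀ k, B.D.act g (ee k) = ee (σ k) ∧ B.D.act g (ff k) = ff (σ k) := by
  induction σ using Equiv.Perm.swap_induction_on with
  | one => exact ⟨1, by rw [one_mul, mul_one], fun k => ⟨B.D.act_one H.good _, B.D.act_one H.good _⟩⟩
  | swap_mul f a b hab ih =>
    obtain ⟨g, hg, hga⟩ := ih
    obtain ⟨t, ht⟩ := B.exists_levi H hab
    obtain ⟨t', ht'⟩ := B.exists_levi H hab.symm
    obtain ⟨c1, a1⟩ := act_mul₂ H B.D ht'.fst.cz ht.fst.cz ht'.fst.act ht.fst.act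
    obtain ⟨c2, a2⟩ := act_mul₂ H B.D ht.fst.cz c1 ht.fst.act a1
    obtain ⟨c3, a3⟩ := act_mul₂ H B.D c2 hg a2 (g := fun x => B.D.act g x) fun x => rfl
    refine ⟨_, c3, fun k => ?_⟩
    rw [a3, a3, (hga k).1, (hga k).2, B.phi_r, B.phi_r, B.phi_m, B.phi_m, Equiv.Perm.mul_apply]
    exact planeSwap_apply a b hab (f k)

omit H [Finite G] in
theorem line_cases : ∀ s s' : Fin 6, s = s' ∨
    (∃ i, (lineFst s = i ∨ lineSnd s = i) ∧ (lineFst s' = i ∨ lineSnd s' = i)) ∨
    (lineFst s ≠ lineSnd s ∧ lineFst s ≠ lineFst s' ∧ lineFst s ≠ lineSnd s' ∧ lineSnd s ≠ lineFst s' ∧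
      lineSnd s ≠ lineSnd s' ∧ lineFst s' ≠ lineSnd s') := by
  decide

theorem Basis.L_at (B : Basis z Qf) {s : Fin 6} {i : Fin 4} (h : lineFst s = i ∨ lineSnd s = i) :
    ∃ j, In B.D (B.r i) (ee j) (B.L H s) := by
  rcases h with rfl | rfl
  · exact ⟨lineSnd s, B.phi_r (lineSnd s) ▸ (B.L_spec H s).fst⟩
  · exact ⟨lineFst s, B.phi_r (lineFst s) ▸ (B.L_spec H s).snd⟩

theorem Todd.comm_L (T : Todd H) (s s' : Fin 6) : Commute (T.basis.L H s) (T.basis.L H s') := by
  set B := T.basis with hB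
  rcases line_cases s s' with rfl | ⟨i, h, h'⟩ | ⟨n0, n1, n2, n3, n4, n5⟩
  · exact Commute.refl _
  · obtain ⟨j, hj⟩ := B.L_at H h
    obtain ⟨j', hj'⟩ := B.L_at H h'
    have e := hj.conj H B.D hj'
    rw [ee_ee, bpow_zero, mul_one] at e
    exact (conj_eq_iff_comm.1 e : Commute _ _).symm
  · obtain ⟨c, Y, hc, hY, hcY⟩ := T.base
    obtain ⟨σ, s0, s3, s1, s2⟩ := exists_perm _ _ _ _ n0 n1 n2 n3 n4 n5
    obtain ⟨g, hg, hga⟩ := B.exists_perm_elt H σ
    have hp : ∀ k, B.D.phi (g * B.r k * g⁻¹) = ee (σ k) := fun k => by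
      rw [B.D.act_phi g hg _ (B.r_mem k), B.phi_r, (hga k).1]
    have hY' : In2 B.D (g * B.r 1 * g⁻¹) (g * B.r 2 * g⁻¹) (g * Y * g⁻¹) := hY.conj_of H B.D hg
    have hc' : In2 B.D (g * B.r 0 * g⁻¹) (g * B.r 3 * g⁻¹) (g * c * g⁻¹) := hc.conj_of H B.D hg
    have hbit : g * c * g⁻¹ * (g * Y * g⁻¹) * (g * c * g⁻¹)⁻¹ = g * Y * g⁻¹ * bpow z 0 := by
      rw [bpow_zero, mul_one,
        show g * c * g⁻¹ * (g * Y * g⁻¹) * (g * c * g⁻¹)⁻¹ = g * (c * Y * c⁻¹) * g⁻¹ by group, hcY]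
    have e := bit_same H hY' (B.L_spec H s') (by rw [hp, B.phi_r, s1]) (by rw [hp, B.phi_r, s2]) hc'
      (B.L_spec H s) (by rw [hp, B.phi_r, s0]) (by rw [hp, B.phi_r, s3])
      (by rw [hp, hp]; exact ee_ee _ _) (by rw [hp, hp]; exact ee_ee _ _)
      (by rw [hp, hp]; exact ee_ee _ _) (by rw [hp, hp]; exact ee_ee _ _) hbit
    rw [bpow_zero, mul_one] at e
    exact conj_eq_iff_comm.1 e

theorem Basis.gen_mem (B : Basis z Qf) (k : Fin 11) : B.gen H k ∈ B.A H := by
  refine Subgroup.mem_centralizer_iff.2 fun a ha => ?_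
  have hz : Commute a z := H.good.le_cent a ha.1
  have hr : ∀ i, Commute a (B.r i) := fun i =>
    (B.D.comm_iff a ha.1 _ (B.r_mem i)).2 (by rw [B.phi_r]; exact ha.2 i)
  have hL : ∀ s, Commute a (B.L H s) := fun s => ((B.L_spec H s).fst.comm_core H B.D ha.1
    (by rw [B.phi_r]; exact ha.2 _) (by rw [B.phi_r]; exact ha.2 _) : Commute _ _).symm
  fin_cases k
  exacts [hz, hr 0, hr 1, hr 2, hr 3, hL 0, hL 1, hL 2, hL 3, hL 4, hL 5]

theorem Todd.gen_comm (T : Todd H) (k l : Fin 11) : Commute (T.basis.gen H k) (T.basis.gen H l) := by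
  set B := T.basis with hB
  have hz : ∀ j, Commute z (B.gen H j) := fun j => (B.cz_of_mem H (B.gen_mem H j) : Commute _ _).symm
  have hr : ∀ (i : Fin 4) j, Commute (B.r i) (B.gen H j) := fun i j =>
    Subgroup.mem_centralizer_iff.1 (B.gen_mem H j) _ (B.r_pre H i)
  have hLr : ∀ s i, Commute (B.L H s) (B.r i) := fun s i => (B.L_spec H s).fst.comm_core H B.D (B.r_mem i)
    (by rw [B.phi_r, B.phi_r]; exact ee_ee _ _) (by rw [B.phi_r, B.phi_r]; exact ee_ee _ _)
  have hL : ∀ s j, Commute (B.L H s) (B.gen H j) := fun s j => by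
    fin_cases j
    exacts [((B.L_spec H s).fst.cz : Commute _ _), hLr s 0, hLr s 1, hLr s 2, hLr s 3, T.comm_L H s 0, T.comm_L H s 1, T.comm_L H s 2,
      T.comm_L H s 3, T.comm_L H s 4, T.comm_L H s 5]
  fin_cases k
  exacts [hz l, hr 0 l, hr 1 l, hr 2 l, hr 3 l, hL 0 l, hL 1 l, hL 2 l, hL 3 l, hL 4 l, hL 5 l]

theorem Basis.gen_sq (B : Basis z Qf) (k : Fin 11) : B.gen H k * B.gen H k = 1 := by
  have hr : ∀ i, B.r i * B.r i = 1 := fun i => (B.D.sq_iff _ (B.r_mem i)).2 (B.point_r H i).1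
  have hL : ∀ s, B.L H s * B.L H s = 1 := fun s => (B.L_spec H s).sq H B.D
  fin_cases k
  exacts [H.good.x_sq, hr 0, hr 1, hr 2, hr 3, hL 0, hL 1, hL 2, hL 3, hL 4, hL 5]

theorem Todd.gprod_add (T : Todd H) (l : List (Fin 11)) (x y : Fin 11 → ZMod 2) :
    T.basis.gprod H l (x + y) = T.basis.gprod H l x * T.basis.gprod H l y := by
  induction l with
  | nil => simp [Basis.gprod]
  | cons g t ih =>
    have hc : Commute (bpow (T.basis.gen H g) (y g)) (T.basis.gprod H t x) := by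
      refine Commute.list_prod_right _ _ fun u hu => ?_
      obtain ⟨k, -, rfl⟩ := List.mem_map.1 hu
      rcases bpow_cases (T.basis.gen H g) (y g) with e | e <;> rw [e]
      · exact Commute.one_left _
      rcases bpow_cases (T.basis.gen H k) (x k) with e' | e' <;> rw [e']
      · exact Commute.one_right _
      exact T.gen_comm H g k
    simp only [Basis.gprod, List.map_cons, List.prod_cons] at ih hc ⊢
    rw [Pi.add_apply, ← bpow_mul (T.basis.gen_sq H g), ih, mul_assoc, mul_assoc,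
      ← mul_assoc (bpow _ (y g)), hc.eq, mul_assoc]

theorem Todd.Phi_add (T : Todd H) (x y : Fin 11 → ZMod 2) :
    T.basis.Phi H (x + y) = T.basis.Phi H x * T.basis.Phi H y :=
  T.gprod_add H _ x y

theorem Basis.Phi_zero (B : Basis z Qf) : B.Phi H 0 = 1 := by
  refine List.prod_eq_one fun u hu => ?_
  obtain ⟨k, -, rfl⟩ := List.mem_map.1 hu
  exact bpow_zero _

theorem Basis.Phi_mem (B : Basis z Qf) (x : Fin 11 → ZMod 2) : B.Phi H x ∈ B.A H := by
  refine Subgroup.list_prod_mem _ fun u hu => ?_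
  obtain ⟨k, -, rfl⟩ := List.mem_map.1 hu
  exact bpow_mem (B.gen_mem H k) _

/-- The coordinates are unique. -/
theorem Basis.Phi_eq_one (B : Basis z Qf) {x : Fin 11 → ZMod 2} (hx : B.Phi H x = 1) : x = 0 := by
  obtain ⟨hq, hqp⟩ := B.qPart_spec H x
  obtain ⟨hlz, hla⟩ := B.lPart_spec H x
  rw [B.phi_split] at hx
  have hl : B.gprod H [5, 6, 7, 8, 9, 10] x ∈ Qf z := by
    rw [eq_inv_of_mul_eq_one_right hx]; exact inv_mem hq
  have hb : lineBits x = 0 := radProd_inj _ fun k => by rw [← hla]; exact B.D.act_of_mem H.good hl _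
  have hx5 : ∀ s, lineBits x s = 0 := fun s => by rw [hb]; rfl
  have h0 := hx5 0; have h1 := hx5 1; have h2 := hx5 2
  have h3 := hx5 3; have h4 := hx5 4; have h5 := hx5 5
  simp only [lineBits, Matrix.cons_val, Fin.isValue] at h0 h1 h2 h3 h4 h5
  have hl1 : B.gprod H [5, 6, 7, 8, 9, 10] x = 1 := by
    simp [Basis.gprod, h0, h1, h2, h3, h4, h5, bpow_zero]
  rw [hl1, mul_one] at hx
  rw [hx, B.D.phi_one H.good] at hqp
  obtain ⟨e1, e2, e3, e4⟩ := indep_ee _ _ _ _ hqp.symm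
  have e0 : x 0 = 0 := by
    simp only [Basis.gprod, List.map_cons, List.map_nil, List.prod_cons, List.prod_nil, e1, e2, e3, e4,
      bpow_zero, mul_one] at hx
    exact (bpow_eq_one H.good.x_ne).1 hx
  funext k
  fin_cases k <;> assumption

theorem Todd.Phi_inj (T : Todd H) : Function.Injective (T.basis.Phi H) := fun x y e => by
  have h : T.basis.Phi H (x + y) = 1 := by
    rw [T.Phi_add H, e, ← T.Phi_add H, show y + y = 0 from funext fun k => (by decide : ∀ t : ZMod 2, t + t = 0) _,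
      T.basis.Phi_zero H]
  exact funext fun k => (by decide : ∀ s t : ZMod 2, s + t = 0 → s = t) _ _ (congrFun (T.basis.Phi_eq_one H h) k)

theorem Todd.card_A (T : Todd H) : Nat.card (T.basis.A H) = 2 ^ 11 := by
  refine le_antisymm (T.basis.card_A_le H) ?_
  have h := Nat.card_le_card_of_injective (fun x => (⟨T.basis.Phi H x, T.basis.Phi_mem H x⟩ : T.basis.A H))
    fun x y e => T.Phi_inj H (congrArg Subtype.val e)
  simpa [Nat.card_eq_fintype_card] using h

theorem Todd.comm_A (T : Todd H) {a b : G} (ha : a ∈ T.basis.A H) (hb : b ∈ T.basis.A H) : a * b = b * a := by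
  obtain ⟨x, rfl⟩ := T.basis.exists_coord H ha
  obtain ⟨y, rfl⟩ := T.basis.exists_coord H hb
  rw [← T.Phi_add H, ← T.Phi_add H, add_comm]

theorem Todd.sq_A (T : Todd H) {a : G} (ha : a ∈ T.basis.A H) : a * a = 1 := by
  obtain ⟨x, rfl⟩ := T.basis.exists_coord H ha
  rw [← T.Phi_add H, show x + x = 0 from funext fun k => (by decide : ∀ t : ZMod 2, t + t = 0) _,
    T.basis.Phi_zero H]

theorem Basis.pre_le (B : Basis z Qf) {y : G}
    (hy : ∀ a ∈ B.A H, y * a = a * y) : y ∈ B.A H := by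
  refine Subgroup.mem_centralizer_iff.2 fun a ha => (hy a ?_).symm
  refine Subgroup.mem_centralizer_iff.2 fun b hb => ?_
  exact (B.D.comm_iff b hb.1 a ha.1).2 (perp_perp hb.2 ha.2)

/-- The centraliser is its own centraliser. -/
theorem Todd.self_cent (T : Todd H) {y : G} (hy : ∀ a ∈ T.basis.A H, y * a = a * y) : y ∈ T.basis.A H :=
  T.basis.pre_le H hy

end Cfsg.Agent.Lib.Co1Todd15
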