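import Cfsg.Agent.Lib.Co1Todd15.Model

/-!
Coordinates in which the lifts of the roots of the lines of one totally singular four-space commute.
-/

set_option autoImplicit false

namespace Cfsg.Agent.Lib.Co1Todd15

open Co1Type47 LargeExtra

variable {G : Type*} [Group G] [Finite G] {z : G} {Qf : G → Subgroup G}

omit [Finite G] in
theorem In.recoord {D : Data z (Qf z)} {r c : G} {v : V8} (h : In D r v c) (g : Iso) :
    In (D.recoord g) r (g.map v) c := by
  refine ⟨h.hr, ⟨?_, ?_, ?_⟩, h.mem, h.cz, fun x => ?_⟩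
  · rw [Data.recoord_phi, g.iso]; exact h.point.1
  · rw [Data.recoord_phi, ne_eq, AddEquiv.map_eq_zero_iff]; exact h.point.2.1
  · rw [Data.recoord_phi, g.bil]; exact h.point.2.2
  · show g.map (D.act c (g.map.symm x)) = _
    rw [h.act, root_map, AddEquiv.apply_symm_apply]; rfl

omit [Finite G] in
theorem In2.recoord {D : Data z (Qf z)} {r r' c : G} (h : In2 D r r' c) (g : Iso) :
    In2 (D.recoord g) r r' c :=
  ⟨h.fst.recoord g, h.snd.recoord g, fun e => h.ne (g.map.injective e)⟩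

/-- Two lifts of the same root differ by an element of `⟨z, a, b⟩`. -/
theorem In2.same (H : Hyp z Qf) {D : Data z (Qf z)} {a b c a' b' c' : G} (h : In2 D a b c)
    (h' : In2 D a' b' c') (ha : D.phi a' = D.phi a) (hb : D.phi b' = D.phi b) :
    ∀ {x : G}, x * z = z * x → x * a = a * x → x * b = b * x → x * (c⁻¹ * c') = c⁻¹ * c' * x := by
  intro x hxz hxa hxb
  have hci : c⁻¹ * z = z * c⁻¹ := (Commute.inv_left h.fst.cz :)
  have hk : c⁻¹ * c' ∈ Qf z := D.act_eq_id _ ((Commute.mul_left hci h'.fst.cz) :) fun y => by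
    rw [D.act_mul H.good hci h'.fst.cz, h'.fst.act, ha, hb, ← h.fst.act, D.act_inv_act H.good h.fst.cz]
  obtain ⟨i, j, hij⟩ : ∃ i j : ZMod 2, D.phi (c⁻¹ * c') = i • D.phi a + j • D.phi b := by
    refine span_of_perp h.fst.point.2.1 h.snd.point.2.1 h.ne fun y h1 h2 => ?_
    obtain ⟨d, hd, rfl⟩ := D.phi_surj y
    rw [bV_comm] at h1 h2
    have e := h.fst.comm_core H D hd h1 h2
    have e' := h'.fst.comm_core H D hd (by rw [ha]; exact h1) (by rw [hb]; exact h2)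
    exact (D.comm_iff _ hk d hd).1 (Commute.mul_left (Commute.inv_left e) e' :)
  have hia : bpow a i ∈ Qf z := bpow_mem h.fst.hr i
  have hjb : bpow b j ∈ Qf z := bpow_mem h.snd.hr j
  have hx : Commute x (bpow a i * bpow b j) := by
    refine Commute.mul_right ?_ ?_
    · rcases bpow_cases a i with e | e <;> rw [e]
      exacts [Commute.one_right _, hxa]
    · rcases bpow_cases b j with e | e <;> rw [e]
      exacts [Commute.one_right _, hxb]
  rcases D.eq_or_of_phi_eq H.good hk (mul_mem hia hjb)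
    (by rw [D.phi_mul _ hia _ hjb, phi_bpow' H D h.fst.hr, phi_bpow' H D h.snd.hr, hij]) with e | e <;> rw [e]
  exacts [hx.eq, (Commute.mul_right hx hxz).eq]

/-- The commutator bit of two lifted roots does not depend on the lifts. -/
theorem bit_same (H : Hyp z Qf) {D : Data z (Qf z)} {a b c a' b' c' p q d p' q' d' : G}
    (h : In2 D a b c) (h' : In2 D a' b' c') (ha : D.phi a' = D.phi a) (hb : D.phi b' = D.phi b)
    (k : In2 D p q d) (k' : In2 D p' q' d') (hp : D.phi p' = D.phi p) (hq : D.phi q' = D.phi q)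
    (o1 : bV (D.phi a) (D.phi p) = 0) (o2 : bV (D.phi a) (D.phi q) = 0) (o3 : bV (D.phi b) (D.phi p) = 0)
    (o4 : bV (D.phi b) (D.phi q) = 0) {e : ZMod 2} (hbit : d * c * d⁻¹ = c * bpow z e) :
    d' * c' * d'⁻¹ = c' * bpow z e := by
  obtain ⟨x, rfl⟩ : ∃ x, c' = c * x := ⟨c⁻¹ * c', by group⟩
  obtain ⟨y, rfl⟩ : ∃ y, d' = d * y := ⟨d⁻¹ * d', by group⟩
  have hsame : ∀ {w : G}, w * z = z * w → w * p = p * w → w * q = q * w → Commute w y := fun h1 h2 h3 => by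
    have := k.same H k' hp hq h1 h2 h3
    rwa [inv_mul_cancel_left] at this
  have hc : Commute c y := hsame h.fst.cz
    (h.fst.comm_core H D k.fst.hr (by rw [bV_comm]; exact o1) (by rw [bV_comm]; exact o3))
    (h.fst.comm_core H D k.snd.hr (by rw [bV_comm]; exact o2) (by rw [bV_comm]; exact o4))
  have hd : Commute d x := by
    have := h.same H h' ha hb k.fst.cz (k.fst.comm_core H D h.fst.hr o1 o2)
      (k.fst.comm_core H D h.snd.hr o3 o4)
    rwa [inv_mul_cancel_left] at this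
  have hyx : Commute y x := by
    have := h.same H h' ha hb (x := d * y) k'.fst.cz (k'.fst.comm_core H D h.fst.hr (by rw [hp]; exact o1)
      (by rw [hq]; exact o2)) (k'.fst.comm_core H D h.snd.hr (by rw [hp]; exact o3) (by rw [hq]; exact o4))
    rw [inv_mul_cancel_left] at this
    simpa using (Commute.mul_left (Commute.inv_left hd) this : Commute (d⁻¹ * (d * y)) x)
  calc d * y * (c * x) * (d * y)⁻¹ = d * (y * c * y⁻¹ * (y * x * y⁻¹)) * d⁻¹ := by group
    _ = d * c * d⁻¹ * (d * x * d⁻¹) := by rw [hc.symm.eq, hyx.eq]; group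
    _ = c * bpow z e * x := by rw [hbit, hd.eq]; group
    _ = c * x * bpow z e := by
      rcases bpow_cases z e with u | u <;> rw [u]
      · group
      · have hxz : Commute z x := by
          have hcx := h'.fst.cz
          have : Commute (c⁻¹ * (c * x)) z := Commute.mul_left (Commute.inv_left h.fst.cz) hcx
          rw [inv_mul_cancel_left] at this
          exact this.symm
        rw [mul_assoc, hxz.eq, ← mul_assoc]

/-- Coordinates with lifts of both bases and the commuting condition. -/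
structure Todd (H : Hyp z Qf) where
  D : Data z (Qf z)
  r : Fin 4 → G
  m : Fin 4 → G
  r_mem : ∀ i, r i ∈ Qf z
  m_mem : ∀ i, m i ∈ Qf z
  phi_r : ∀ i, D.phi (r i) = ee i
  phi_m : ∀ i, D.phi (m i) = ff i
  base : ∃ c Y, In2 D (r 0) (r 3) c ∧ In2 D (r 1) (r 2) Y ∧ c * Y * c⁻¹ = Y

theorem exists_todd (H : Hyp z Qf) : Nonempty (Todd H) := by
  obtain ⟨D⟩ := H.data
  have key : ∀ D : Data z (Qf z), ∀ (r₀ r₁ r₂ r₃ c Y : G), r₀ ∈ Qf z → r₁ ∈ Qf z → r₂ ∈ Qf z → r₃ ∈ Qf z →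
      D.phi r₀ = e₀ → D.phi r₁ = emb w₁ → D.phi r₂ = emb w₂ → D.phi r₃ = emb w₃ →
      In2 D r₀ r₃ c → In2 D r₁ r₂ Y → c * Y * c⁻¹ = Y → Nonempty (Todd H) := by
    intro D r₀ r₁ r₂ r₃ c Y h0 h1 h2 h3 p0 p1 p2 p3 hc hY hcomm
    choose m hm hmp using fun i => D.phi_surj (ff i)
    refine ⟨⟨D, ![r₀, r₁, r₂, r₃], m, fun i => ?_, hm, fun i => ?_, hmp, ⟨c, Y, hc, hY, hcomm⟩⟩⟩
    · fin_cases i <;> assumption
    · fin_cases i <;> assumption
  obtain ⟨r₀, h0, p0⟩ := D.phi_surj e₀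
  obtain ⟨r₁, h1, p1⟩ := D.phi_surj (emb w₁)
  obtain ⟨r₂, h2, p2⟩ := D.phi_surj (emb w₂)
  obtain ⟨r₃, h3, p3⟩ := D.phi_surj (emb w₃)
  obtain ⟨t₃, h3', p3'⟩ := D.phi_surj (emb g₃)
  have P : ∀ i : Fin 4, ∀ {r : G}, D.phi r = ee i → qV (D.phi r) = 0 ∧ D.phi r ≠ 0 := fun i r e => by
    rw [e]; exact ⟨ee_q i, ee_ne i⟩
  obtain ⟨q0, n0⟩ := P 0 p0
  obtain ⟨q1, n1⟩ := P 1 p1
  obtain ⟨q2, n2⟩ := P 2 p2
  obtain ⟨q3, n3⟩ := P 3 p3
  obtain ⟨c, hc⟩ := exists_in2 H D h0 q0 n0 h3 q3 n3 (by rw [p0, p3]; exact ee_inj (by decide : (0 : Fin 4) ≠ 3))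
    (by rw [p0, p3]; exact ee_ee 0 3)
  obtain ⟨c', hc'⟩ := exists_in2 H D h0 q0 n0 h3' (by rw [p3']; exact ff_q 3) (by rw [p3']; exact ff_ne 3)
    (by rw [p0, p3']; exact ee_ne_ff 0 3) (by rw [p0, p3']; exact ee_ff_ne (by decide : (0 : Fin 4) ≠ 3))
  obtain ⟨Y, hY⟩ := exists_in2 H D h1 q1 n1 h2 q2 n2 (by rw [p1, p2]; exact ee_inj (by decide : (1 : Fin 4) ≠ 2))
    (by rw [p1, p2]; exact ee_ee 1 2)
  have hcomm : ∀ {c : G} {v : V8} {k : Fin 4}, In D r₀ v c → bV (ee k) v = 0 → ∀ {r : G}, r ∈ Qf z →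
      D.phi r = ee k → c * r = r * c := fun hc hv r hr hp =>
    hc.comm_core H D hr (by rw [hp, p0]; exact ee_ee _ 0) (by rw [hp]; exact hv)
  obtain ⟨a, ha⟩ := hY.bit H D hc.fst.cz (hcomm (k := 1) hc.fst (by rw [p3]; exact ee_ee 1 3) h1 p1)
    (hcomm (k := 2) hc.fst (by rw [p3]; exact ee_ee 2 3) h2 p2)
  obtain ⟨b, hb⟩ := hY.bit H D hc'.fst.cz
    (hcomm (k := 1) hc'.fst (by rw [p3']; exact ee_ff_ne (by decide : (1 : Fin 4) ≠ 3)) h1 p1)
    (hcomm (k := 2) hc'.fst (by rw [p3']; exact ee_ff_ne (by decide : (2 : Fin 4) ≠ 3)) h2 p2)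
  have hs := sign H D p0 p1 p2 (p3 ▸ hc.fst) (p3' ▸ hc'.fst) hY ha hb
  rcases zmod_cases a with rfl | rfl
  · exact key D r₀ r₁ r₂ r₃ c Y h0 h1 h2 h3 p0 p1 p2 p3 hc hY (by rw [ha, bpow_zero, mul_one])
  · have hb0 : b = 0 := (by decide : ∀ x : ZMod 2, 1 + x = 1 → x = 0) b hs
    obtain ⟨v0, v1, v2, v3, -⟩ := swap3_values
    exact key (D.recoord swap3Iso) r₀ r₁ r₂ t₃ c' Y h0 h1 h2 h3' (by rw [Data.recoord_phi, p0]; exact v0)
      (by rw [Data.recoord_phi, p1]; exact v1) (by rw [Data.recoord_phi, p2]; exact v2)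
      (by rw [Data.recoord_phi, p3']; exact v3) (hc'.recoord swap3Iso) (hY.recoord swap3Iso)
      (by rw [hb, hb0, bpow_zero, mul_one])

end Cfsg.Agent.Lib.Co1Todd15
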