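import Cfsg.Agent.Lib.Co1Todd15.Bound
import Cfsg.Agent.Lib.Golay.Transitive

/-!
The group induced on the centraliser is `M24`, acting as on the code modulo the whole set.
-/

set_option autoImplicit false

namespace Cfsg.Agent.Lib.Co1Todd15

open Co1Type47 LargeExtra Cfsg.Agent.Lib.Golay
open scoped symmDiff Pointwise

/-- The code words of the basis. -/
def wordRows : List ℕ :=
  [7028470, 2106966, 2168036, 4202192, 4785798, 2225919, 7618271, 7170014, 7430140, 8230638, 4825055]

/-- The code word of a code. -/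
def wN (n : ℕ) : ℕ := combine wordRows n

/-- The class of a size. -/
def wcl (c : ℕ) : ℕ := if c = 0 ∨ c = 24 then 0 else if c = 8 ∨ c = 16 then 1 else 2

theorem wN_check : ((List.range 2048).all fun n =>
    isCodeMask (wN n) && (wcl (popCount (wN n)) == clM setBig n)) = true := by decide +kernel

theorem wN_cover : (List.range 2048).foldl
    (fun m n => m ||| 2 ^ (wN n % 4096) ||| 2 ^ ((wN n ^^^ (2 ^ 24 - 1)) % 4096)) 0 = 2 ^ 4096 - 1 := by
  decide +kernel

/-- The masks of the octads. -/
def octMasks : List ℕ := codeMasks.filter fun m => popCount m == 8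

theorem octMasks_sep : ((List.range 24).all fun i =>
    (octMasks.filter fun m => m.testBit i).foldl (fun a m => a &&& m) (2 ^ 24 - 1) == 2 ^ i) = true := by
  decide +kernel

theorem ptsOf_full : ptsOf (2 ^ 24 - 1) = Finset.univ := by decide +kernel

theorem isCodeMask_full : isCodeMask (2 ^ 24 - 1) = true := by decide +kernel

theorem clM_mix : clM setBig 40 = 2 := by decide +kernel

/-- Equal or complementary. -/
def EqvSet (s t : Finset GolayPt) : Prop := s ∆ t = ∅ ∨ s ∆ t = Finset.univ

theorem eqv_refl (s : Finset GolayPt) : EqvSet s s := Or.inl (symmDiff_self s)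

theorem eqv_symm {s t : Finset GolayPt} (h : EqvSet s t) : EqvSet t s := by rwa [EqvSet, symmDiff_comm]

theorem eqv_trans {s t u : Finset GolayPt} (h : EqvSet s t) (h' : EqvSet t u) : EqvSet s u := by
  have e : s ∆ u = (s ∆ t) ∆ (t ∆ u) := by
    rw [symmDiff_assoc, ← symmDiff_assoc t t u, symmDiff_self, bot_symmDiff]
  unfold EqvSet at *
  rw [e]
  rcases h with h | h <;> rcases h' with h' | h' <;> rw [h, h'] <;> simp

theorem eqv_symmDiff {s t s' t' : Finset GolayPt} (h : EqvSet s t) (h' : EqvSet s' t') :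
    EqvSet (s ∆ s') (t ∆ t') := by
  unfold EqvSet at *
  rw [symmDiff_symmDiff_symmDiff_comm]
  rcases h with h | h <;> rcases h' with h' | h' <;> rw [h, h'] <;> simp

theorem eqv_smul (g : Equiv.Perm GolayPt) {s t : Finset GolayPt} (h : EqvSet s t) : EqvSet (g • s) (g • t) := by
  unfold EqvSet at *
  rw [← smul_symmDiff_finset]
  rcases h with h | h <;> rw [h]
  · exact Or.inl (Finset.smul_finset_empty g)
  · exact Or.inr (Finset.eq_univ_of_card _ (by rw [Finset.card_smul_finset, Finset.card_univ]))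

theorem eqv_cases {s t : Finset GolayPt} (h : EqvSet s t) : s = t ∨ s = tᶜ := by
  rcases h with h | h
  · exact Or.inl (symmDiff_eq_bot.1 h)
  · right
    ext p
    have := Finset.ext_iff.1 h p
    simp only [Finset.mem_symmDiff, Finset.mem_univ, iff_true] at this
    rw [Finset.mem_compl]
    tauto

theorem wcl_compl : ∀ c, c ≤ 24 → wcl (24 - c) = wcl c := by decide

theorem eqv_wcl {s t : Finset GolayPt} (h : EqvSet s t) : wcl s.card = wcl t.card := by
  rcases eqv_cases h with rfl | rfl
  · rfl
  · rw [Finset.card_compl, card_golayPt]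
    exact wcl_compl _ (card_golayPt ▸ t.card_le_univ)

theorem wN_spec {n : ℕ} (hn : n < 2048) :
    IsCodeSet (ptsOf (wN n)) ∧ wcl (ptsOf (wN n)).card = clM setBig n := by
  have h := List.all_eq_true.1 wN_check n (List.mem_range.2 hn)
  simp only [Bool.and_eq_true, beq_iff_eq] at h
  exact ⟨isCodeSet_of_isCodeMask h.1, by rw [card_ptsOf]; exact h.2⟩

theorem exists_wN {s : Finset GolayPt} (hs : IsCodeSet s) : ∃ n < 2048, EqvSet s (ptsOf (wN n)) := by
  obtain ⟨x, hx, rfl⟩ := hs.exists_eq
  have key : ∀ (l : List ℕ) (m : ℕ),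
      (l.foldl (fun m n => m ||| 2 ^ (wN n % 4096) ||| 2 ^ ((wN n ^^^ (2 ^ 24 - 1)) % 4096)) m).testBit x = true →
      m.testBit x = true ∨ ∃ n ∈ l, wN n % 4096 = x ∨ (wN n ^^^ (2 ^ 24 - 1)) % 4096 = x := by
    intro l
    induction l with
    | nil => exact fun m h => Or.inl h
    | cons a t ih =>
      intro m h
      rcases ih _ h with h | ⟨n, hn, h⟩
      · simp only [Nat.testBit_or, Bool.or_eq_true, Nat.testBit_two_pow, decide_eq_true_eq] at h
        rcases h with (h | h) | h
        exacts [Or.inl h, Or.inr ⟨a, List.mem_cons_self, Or.inl h⟩, Or.inr ⟨a, List.mem_cons_self, Or.inr h⟩]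
      · exact Or.inr ⟨n, List.mem_cons_of_mem a hn, h⟩
  have h := key (List.range 2048) 0 (by rw [wN_cover, Nat.testBit_two_pow_sub_one]; simpa using hx)
  obtain ⟨n, hn, h⟩ := h.resolve_left (by simp)
  rw [List.mem_range] at hn
  refine ⟨n, hn, ?_⟩
  have hc : isCodeMask (wN n) = true := by
    have := List.all_eq_true.1 wN_check n (List.mem_range.2 hn)
    simp only [Bool.and_eq_true] at this
    exact this.1
  rcases h with h | h
  · rw [← h, beq_iff_eq.1 hc]; exact eqv_refl _
  · have e : encode x = wN n ^^^ (2 ^ 24 - 1) := by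
      rw [← h, Nat.xor_mod_two_pow (n := 12), encode_xor, beq_iff_eq.1 hc, beq_iff_eq.1 isCodeMask_full]
    rw [e, EqvSet, ptsOf_xor, ptsOf_full]
    exact Or.inr (by rw [symmDiff_comm (ptsOf (wN n)), symmDiff_assoc, symmDiff_self, symmDiff_bot])

variable {G : Type*} [Group G] [Finite G] {z : G} {Qf : G → Subgroup G}
variable (H : Hyp z Qf)
include H

/-- The code word of an element. -/
noncomputable def Todd.wset (T : Todd H) (y : ↥(T.basis.A H)) : Finset GolayPt := ptsOf (wN (T.co H y))

theorem Todd.wset_mul (T : Todd H) (x y : ↥(T.basis.A H)) : T.wset H (x * y) = T.wset H x ∆ T.wset H y := by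
  rw [Todd.wset, T.co_mul H, wN, combine_xor, ptsOf_xor]
  rfl

theorem Todd.wset_code (T : Todd H) (y : ↥(T.basis.A H)) : IsCodeSet (T.wset H y) := (wN_spec (T.co_lt H y)).1

theorem Todd.wset_cl (T : Todd H) (y : ↥(T.basis.A H)) :
    wcl (T.wset H y).card = clM setBig (T.co H y) := (wN_spec (T.co_lt H y)).2

theorem Todd.wset_inj (T : Todd H) {x y : ↥(T.basis.A H)} (h : EqvSet (T.wset H x) (T.wset H y)) : x = y := by
  have h0 : clM setBig (T.co H (x * y)) = 0 := by
    rw [← T.wset_cl H, T.wset_mul H]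
    rcases h with h | h <;> rw [h]
    · rfl
    · rw [Finset.card_univ, card_golayPt]; rfl
  have h1 : T.co H (x * y) = 0 := by
    by_contra hne
    simp only [clM, hne, if_false] at h0
    split at h0 <;> omega
  have h2 : x * y = 1 := by rw [← T.el_co H (x * y), h1, T.el_zero H]
  have hy : y * y = 1 := Subtype.ext (T.sq_A H y.2)
  calc x = x * (y * y) := by rw [hy, mul_one]
    _ = y := by rw [← mul_assoc, h2, one_mul]

theorem Todd.exists_image (T : Todd H) (g : ↥M24) (y : ↥(T.basis.A H)) :
    ∃ y', EqvSet ((g : Equiv.Perm GolayPt) • T.wset H y) (T.wset H y') := by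
  obtain ⟨n, hn, h⟩ := exists_wN (M24_isCodeSet g.2 (T.wset_code H y))
  exact ⟨T.el H n, by rw [Todd.wset, Todd.wset, T.co_el H hn] at *; exact h⟩

/-- The image of an element. -/
noncomputable def Todd.gmap (T : Todd H) (g : ↥M24) (y : ↥(T.basis.A H)) : ↥(T.basis.A H) :=
  (T.exists_image H g y).choose

theorem Todd.gmap_spec (T : Todd H) (g : ↥M24) (y : ↥(T.basis.A H)) :
    EqvSet ((g : Equiv.Perm GolayPt) • T.wset H y) (T.wset H (T.gmap H g y)) :=
  (T.exists_image H g y).choose_spec

theorem Todd.gmap_eq (T : Todd H) {g : ↥M24} {y y' : ↥(T.basis.A H)}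
    (h : EqvSet ((g : Equiv.Perm GolayPt) • T.wset H y) (T.wset H y')) : T.gmap H g y = y' :=
  T.wset_inj H (eqv_trans (eqv_symm (T.gmap_spec H g y)) h)

theorem Todd.gmap_one (T : Todd H) (y : ↥(T.basis.A H)) : T.gmap H 1 y = y :=
  T.gmap_eq H (by rw [OneMemClass.coe_one, one_smul]; exact eqv_refl _)

theorem Todd.gmap_comp (T : Todd H) (g h : ↥M24) (y : ↥(T.basis.A H)) :
    T.gmap H (g * h) y = T.gmap H g (T.gmap H h y) := by
  refine T.gmap_eq H ?_
  rw [Subgroup.coe_mul, mul_smul]
  exact eqv_trans (eqv_smul _ (T.gmap_spec H h y)) (T.gmap_spec H g _)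

/-- The automorphism of an element of the group of the code. -/
noncomputable def Todd.gHom (T : Todd H) : ↥M24 →* MulAut ↥(T.basis.A H) where
  toFun g :=
    { toFun := T.gmap H g
      invFun := T.gmap H g⁻¹
      left_inv := fun y => by rw [← T.gmap_comp H, inv_mul_cancel, T.gmap_one H]
      right_inv := fun y => by rw [← T.gmap_comp H, mul_inv_cancel, T.gmap_one H]
      map_mul' := fun x y => T.gmap_eq H (by
        rw [T.wset_mul H, T.wset_mul H, smul_symmDiff_finset]
        exact eqv_symmDiff (T.gmap_spec H g x) (T.gmap_spec H g y)) }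
  map_one' := MulEquiv.ext fun y => T.gmap_one H y
  map_mul' g h := MulEquiv.ext fun y => T.gmap_comp H g h y

theorem Todd.gHom_mem (T : Todd H) (g : ↥M24) : T.gHom H g ∈ T.autGrp H := by
  rw [(T.autGrp_eq H).2.2]
  intro y
  show clM setBig (T.co H (T.gmap H g y)) = _
  rw [← T.wset_cl H, ← T.wset_cl H, ← eqv_wcl (T.gmap_spec H g y), Finset.card_smul_finset]

theorem Todd.gHom_inj (T : Todd H) : Function.Injective (T.gHom H) := by
  rw [injective_iff_map_eq_one]
  intro g hg
  have hfix : ∀ s : Finset GolayPt, IsCodeSet s → EqvSet ((g : Equiv.Perm GolayPt) • s) s := by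
    intro s hs
    obtain ⟨n, hn, h⟩ := exists_wN hs
    have h' : EqvSet s (T.wset H (T.el H n)) := by rw [Todd.wset, T.co_el H hn]; exact h
    have e : T.gmap H g (T.el H n) = T.el H n := congrArg (fun σ : MulAut ↥(T.basis.A H) => σ (T.el H n)) hg
    have h'' := T.gmap_spec H g (T.el H n)
    rw [e] at h''
    exact eqv_trans (eqv_trans (eqv_smul _ h') h'') (eqv_symm h')
  refine Subtype.ext (Equiv.ext fun p => ?_)
  have key : ∀ (l : List ℕ) (a j : ℕ), (∀ m ∈ l, m.testBit j = true) → a.testBit j = true →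
      (l.foldl (fun a m => a &&& m) a).testBit j = true := by
    intro l
    induction l with
    | nil => exact fun a j _ h => h
    | cons m t ih =>
      intro a j hm ha
      exact ih _ j (fun u hu => hm u (List.mem_cons_of_mem m hu))
        (by rw [Nat.testBit_land, ha, hm m List.mem_cons_self]; rfl)
  have hsep := List.all_eq_true.1 octMasks_sep (idx p).val (List.mem_range.2 (idx p).isLt)
  rw [beq_iff_eq] at hsep
  have hj := key (octMasks.filter fun m => m.testBit (idx p).val) (2 ^ 24 - 1) (idx ((g : Equiv.Perm GolayPt) p)).val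
    (fun m hm => by
      rw [List.mem_filter] at hm
      obtain ⟨hm8, hmp⟩ := hm
      rw [octMasks, List.mem_filter] at hm8
      obtain ⟨hmc, hm8⟩ := hm8
      rw [beq_iff_eq] at hm8
      have hs : IsCodeSet (ptsOf m) := isCodeSet_iff_mem.2 ⟨m, hmc, rfl⟩
      rcases eqv_cases (hfix _ hs) with e | e
      · rw [← mem_ptsOf, ← e]
        exact Finset.smul_mem_smul_finset (mem_ptsOf.2 hmp)
      · have := congrArg Finset.card e
        rw [Finset.card_smul_finset, Finset.card_compl, card_golayPt, card_ptsOf, hm8] at this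
        omega)
    (by rw [Nat.testBit_two_pow_sub_one]; simpa using (idx ((g : Equiv.Perm GolayPt) p)).isLt)
  rw [hsep, Nat.testBit_two_pow, decide_eq_true_eq] at hj
  rw [OneMemClass.coe_one, Equiv.Perm.one_apply, ← pt_idx ((g : Equiv.Perm GolayPt) p), ← Fin.ext hj, pt_idx]

/-- The induced group is the group of the code. -/
theorem Todd.autGrp_iso (T : Todd H) : Nonempty (↥(T.autGrp H) ≃* ↥M24) := by
  let f : ↥M24 →* ↥(T.autGrp H) := (T.gHom H).codRestrict _ (T.gHom_mem H)
  have hf : Function.Injective f := fun a b e => T.gHom_inj H (congrArg Subtype.val e)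
  have hcard : Nat.card ↥M24 = Nat.card ↥(T.autGrp H) := by rw [card_M24, (T.autGrp_eq H).2.1]
  exact ⟨(MulEquiv.ofBijective f ((Nat.bijective_iff_injective_and_card f).2 ⟨hf, hcard⟩)).symm⟩

theorem Todd.two_orbits (T : Todd H) (y : ↥(T.basis.A H)) (hy : y ≠ 1) :
    ∃ σ ∈ T.autGrp H, σ y = T.el H 1 ∨ σ y = T.el H 40 := by
  obtain ⟨hM, -, -⟩ := T.autGrp_eq H
  by_cases hb : setBig.testBit (T.co H y) = true
  · rw [← hM, T.orbMask_spec H (T.co_lt H y)] at hb
    obtain ⟨σ, hσ, e⟩ := T.rel_symm H hb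
    exact ⟨σ, hσ, Or.inl (by rw [T.el_co H] at e; exact e)⟩
  · have hne : T.co H y ≠ 0 := fun e => hy (by rw [← T.el_co H y, e, T.el_zero H])
    have h12 : ∀ w, clM setBig (T.co H w) = 2 → T.wset H w ∈ dodecads := fun w hw => by
      refine mem_dodecads_iff.2 ⟨T.wset_code H w, ?_⟩
      have := T.wset_cl H w
      rw [hw] at this
      rcases card_isCodeSet (T.wset_code H w) with e | e | e | e | e <;> rw [e] at this <;>
        first | exact e | exact absurd this (by decide)
    have h2 : clM setBig (T.co H y) = 2 := by simp [clM, hne, hb]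
    have h40 : clM setBig (T.co H (T.el H 40)) = 2 := by
      rw [T.co_el H (by norm_num)]; exact clM_mix
    obtain ⟨g, hg, e⟩ := dodecads_transitive (h12 y h2) (h12 _ h40)
    exact ⟨T.gHom H ⟨g, hg⟩, T.gHom_mem H _, Or.inr (T.gmap_eq H (by rw [e]; exact eqv_refl _))⟩

end Cfsg.Agent.Lib.Co1Todd15
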