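import Cfsg.Agent.Lib.Co1Todd15.Norm
import Cfsg.Agent.Lib.Co1Todd15.Cert

/-!
Checking the trees: the masks of six orbits of the sixteen maps, and of three stabilisers.
-/

set_option autoImplicit false

namespace Cfsg.Agent.Lib.Co1Todd15

/-- The mask reached by a list of packed edges `(child, parent, map)`, when it is valid. -/
def grow (ok : ℕ → Bool) : List ℕ → ℕ → Option ℕ
  | [], m => some m
  | e :: t, m =>
    let g := e % 16
    let p := e / 16 % 2048
    let c := e / 32768
    if ok g && m.testBit p && decide (c < 2048) && (linC (gimg g) p == c) then grow ok t (m ||| 2 ^ c) else none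

/-- All maps. -/
def okAll : ℕ → Bool := fun _ => true

/-- The maps fixing the first `k` points. -/
def okFix (k : ℕ) : ℕ → Bool := fun g =>
  (List.range k).all fun i => linC (gimg g) (2 <<< i) == 2 <<< i

theorem grow_pt : grow okAll treePt (2 ^ 2) = some maskPt := by decide +kernel
theorem grow_ln : grow okAll treeLn (2 ^ 32) = some maskLn := by decide +kernel
theorem grow_mix : grow okAll treeMix (2 ^ 40) = some maskMix := by decide +kernel
theorem grow_big : grow okAll treeBig (2 ^ 384) = some maskBig := by decide +kernel
theorem grow_alt : grow okAll treeAlt (2 ^ 385) = some maskAlt := by decide +kernel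
theorem grow_two : grow (okFix 1) treeTwo (2 ^ 4) = some maskTwo := by decide +kernel
theorem grow_three : grow (okFix 2) treeThree (2 ^ 8) = some maskThree := by decide +kernel
theorem grow_four : grow (okFix 3) treeFour (2 ^ 16) = some maskFour := by decide +kernel

theorem gimg_one : ∀ g < 16, linC (gimg g) 1 = 1 := by decide +kernel

theorem cover : (2 ^ 1 ||| maskPt ||| maskLn ||| maskMix ||| maskBig ||| maskAlt) = 2 ^ 2048 - 2 := by
  decide +kernel

theorem bits : maskPt.testBit 2 = true ∧ maskPt.testBit 3 = true ∧ maskLn.testBit 32 = true ∧
    maskLn.testBit 35 = true ∧ maskMix.testBit 40 = true ∧ maskBig.testBit 384 = true ∧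
    maskAlt.testBit 385 = true := by decide +kernel

/-- The members of a mask. -/
def members (m : ℕ) : List ℕ := (List.range 2048).filter m.testBit

theorem mem_members {m n : ℕ} : n ∈ members m ↔ n < 2048 ∧ m.testBit n = true := by
  rw [members, List.mem_filter, List.mem_range]

theorem members_nodup (m : ℕ) : (members m).Nodup := List.nodup_range.filter _

theorem lengths : (members maskPt).length = 30 ∧ (members maskTwo).length = 28 ∧
    (members maskThree).length = 24 ∧ (members maskFour).length = 16 := by decide +kernel

end Cfsg.Agent.Lib.Co1Todd15
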