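import Cfsg.Agent.Lib.Co1Todd15.Comm

/-!
The Levi lifts `t i j` and the elements `m k` acting on the four points and the six lines.
-/

set_option autoImplicit false

namespace Cfsg.Agent.Lib.Co1Todd15

open Co1Type47 LargeExtra

/-- Two roots over one point. -/
theorem root_add_right {u v v' : V8} (hv : qV v = 0) (hv' : qV v' = 0) (huv : bV u v = 0)
    (huv' : bV u v' = 0) (hvv : bV v v' = 0) (x : V8) :
    root u (v + v') x = root u v (root u v' x) := by
  have hsm : ∀ (k : ZMod 2) (p q : V8), bV (k • p) q = k * bV p q := fun k p q => by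
    rcases zmod_cases k with rfl | rfl <;> simp [bV_zero_left]
  simp only [root, qV_add, hv, hv', hvv, add_zero, zero_mul, zero_smul, bV_add_right, bV_add_left, hsm,
    bV_self, huv, huv', bV_comm v' u, bV_comm v' v, mul_zero, add_smul, smul_add]
  abel

/-- The index of a line. -/
def lineIdx : Fin 4 → Fin 4 → Fin 6 := ![![0, 0, 1, 2], ![0, 0, 3, 4], ![1, 3, 0, 5], ![2, 4, 5, 0]]

theorem lineIdx_spec : ∀ i j : Fin 4, i ≠ j →
    ((lineFst (lineIdx i j) = i ∧ lineSnd (lineIdx i j) = j) ∨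
      (lineFst (lineIdx i j) = j ∧ lineSnd (lineIdx i j) = i)) ∧ lineIdx i j = lineIdx j i := by
  decide

/-- Conjugation. -/
def cj {G : Type*} [Group G] (g a : G) : G := g * a * g⁻¹

section cjLemmas

variable {G : Type*} [Group G]

theorem cj_mul (g a b : G) : cj g (a * b) = cj g a * cj g b := by simp only [cj]; group

theorem cj_cj (g h a : G) : cj g (cj h a) = cj (g * h) a := by simp only [cj]; group

theorem cj_inj {g a b : G} (h : cj g a = cj g b) : a = b := mul_left_cancel (mul_right_cancel h)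

theorem cj_bpow {g z : G} (h : g * z = z * g) (e : ZMod 2) : cj g (bpow z e) = bpow z e := by
  rcases bpow_cases z e with u | u <;> rw [u]
  · simp [cj]
  · exact conj_eq_iff_comm.2 h

theorem cj_eq_self {g a : G} (h : g * a = a * g) : cj g a = a := conj_eq_iff_comm.2 h

end cjLemmas

variable {G : Type*} [Group G] [Finite G] {z : G} {Qf : G → Subgroup G}
variable (H : Hyp z Qf)
include H

omit [Finite G] in
theorem Basis.mz_mem (B : Basis z Qf) (i : Fin 4) : B.m i * z ∈ Qf z := mul_mem (B.m_mem i) H.good.x_mem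

omit [Finite G] in
theorem Basis.phi_mz (B : Basis z Qf) (i : Fin 4) : B.D.phi (B.m i * z) = ff i := by
  rw [B.D.phi_mul_z H.good (B.m_mem i), B.phi_m]

theorem Basis.exists_t (B : Basis z Qf) {i j : Fin 4} (h : i ≠ j) : ∃ c, In2 B.D (B.r j) (B.m i * z) c :=
  exists_in2 H B.D (B.r_mem j) (B.point_r H j).1 (B.point_r H j).2 (B.mz_mem H i)
    (by rw [B.phi_mz H]; exact ff_q i) (by rw [B.phi_mz H]; exact ff_ne i)
    (by rw [B.phi_r, B.phi_mz H]; exact ee_ne_ff j i) (by rw [B.phi_r, B.phi_mz H]; exact ee_ff_ne h.symm)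

/-- The Levi lift sending the point `i` to the sum of the points `i` and `j`. -/
noncomputable def Basis.t (B : Basis z Qf) (i j : Fin 4) : G :=
  if h : i ≠ j then (B.exists_t H h).choose else 1

theorem Basis.t_spec (B : Basis z Qf) {i j : Fin 4} (h : i ≠ j) : In2 B.D (B.r j) (B.m i * z) (B.t H i j) := by
  rw [Basis.t, dif_pos h]
  exact (B.exists_t H h).choose_spec

theorem Basis.t_cz (B : Basis z Qf) (i j : Fin 4) : B.t H i j * z = z * B.t H i j := by
  by_cases h : i ≠ j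
  · exact (B.t_spec H h).fst.cz
  · rw [Basis.t, dif_neg h, one_mul, mul_one]

theorem Basis.t_act (B : Basis z Qf) {i j : Fin 4} (h : i ≠ j) (x : V8) :
    B.D.act (B.t H i j) x = root (ee j) (ff i) x := by
  rw [(B.t_spec H h).fst.act, B.phi_r, B.phi_mz H]

theorem Basis.t_r (B : Basis z Qf) {i j : Fin 4} (h : i ≠ j) (k : Fin 4) :
    cj (B.t H i j) (B.r k) = B.r k * bpow (B.r j * z) (bV (ee k) (ff i)) := by
  rw [cj, (B.t_spec H h).fst.conj_core H B.D (B.r_mem k) (by rw [B.phi_r, B.phi_r]; exact ee_ee k j),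
    B.phi_r, B.phi_mz H]

theorem Basis.t_r_ne (B : Basis z Qf) {i j k : Fin 4} (h : i ≠ j) (hk : k ≠ i) :
    cj (B.t H i j) (B.r k) = B.r k := by
  rw [B.t_r H h, ee_ff_ne hk, bpow_zero, mul_one]

theorem Basis.t_r_self (B : Basis z Qf) {i j : Fin 4} (h : i ≠ j) :
    cj (B.t H i j) (B.r i) = B.r i * (B.r j * z) := by
  rw [B.t_r H h, ee_ff, if_pos rfl, bpow_one]

theorem Basis.t_m_ne (B : Basis z Qf) {i j k : Fin 4} (h : i ≠ j) (hk : k ≠ j) :
    cj (B.t H i j) (B.m k) = B.m k :=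
  cj_eq_self ((B.t_spec H h).snd.comm_core H B.D (B.m_mem k) (by rw [B.phi_m, B.phi_mz H]; exact ff_ff k i)
    (by rw [B.phi_m, B.phi_r]; exact ff_ee_ne hk))

theorem Basis.t_m_self (B : Basis z Qf) {i j : Fin 4} (h : i ≠ j) :
    cj (B.t H i j) (B.m j) = B.m j * B.m i := by
  rw [cj, (B.t_spec H h).snd.conj_core H B.D (B.m_mem j) (by rw [B.phi_m, B.phi_mz H]; exact ff_ff j i),
    B.phi_m, B.phi_r, bV_comm, ee_ff, if_pos rfl, bpow_one, mul_assoc (B.m i), zz' H, mul_one]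

/-- The lift of the line through two points. -/
noncomputable def Basis.line (B : Basis z Qf) (i j : Fin 4) : G := B.L H (lineIdx i j)

theorem Basis.line_symm (B : Basis z Qf) (i j : Fin 4) : B.line H i j = B.line H j i := by
  by_cases h : i = j
  · rw [h]
  · rw [Basis.line, Basis.line, (lineIdx_spec i j h).2]

theorem Basis.line_spec (B : Basis z Qf) {i j : Fin 4} (h : i ≠ j) :
    In2 B.D (B.r i) (B.r j) (B.line H i j) := by
  rcases (lineIdx_spec i j h).1 with ⟨a, b⟩ | ⟨a, b⟩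
  · have := B.L_spec H (lineIdx i j)
    rwa [a, b] at this
  · have := (B.L_spec H (lineIdx i j)).symm
    rwa [a, b] at this

theorem Basis.line_mem (B : Basis z Qf) (i j : Fin 4) : B.line H i j ∈ B.A H := by
  rw [Basis.line]
  generalize lineIdx i j = s
  fin_cases s
  exacts [B.gen_mem H 5, B.gen_mem H 6, B.gen_mem H 7, B.gen_mem H 8, B.gen_mem H 9, B.gen_mem H 10]

theorem Basis.t_line_keep (B : Basis z Qf) {i j l : Fin 4} (h : i ≠ j) (hl : l ≠ j) (hli : l ≠ i) :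
    cj (B.t H i j) (B.line H j l) = B.line H j l := by
  rw [cj, (B.line_spec H hl.symm).fst.conj H B.D (B.t_spec H h).fst, B.phi_r, B.phi_mz H,
    ff_ee_ne hli.symm, bpow_zero, mul_one]

theorem Basis.t_line_own (B : Basis z Qf) {i j : Fin 4} (h : i ≠ j) :
    cj (B.t H i j) (B.line H i j) = B.line H i j * B.r j := by
  rw [cj, (B.line_spec H h).snd.conj H B.D (B.t_spec H h).fst, B.phi_r, B.phi_mz H, bV_comm, ee_ff,
    if_pos rfl, bpow_one]

theorem Todd.t_line_off (T : Todd H) {i j k l : Fin 4} (n1 : j ≠ i) (n2 : j ≠ k) (n3 : j ≠ l) (n4 : i ≠ k)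
    (n5 : i ≠ l) (n6 : k ≠ l) :
    cj (T.basis.t H i j) (T.basis.line H k l) = T.basis.line H k l * z := by
  set B := T.basis with hB
  obtain ⟨c, Y, hc, hY, hcY⟩ := T.base
  have hc' := B.t_spec H (by decide : (3 : Fin 4) ≠ 0)
  set c' := B.t H 3 0 with hc'def
  have hcr : ∀ {w : G} {v : V8}, In B.D (B.r 0) v w → ∀ q : Fin 4, bV (ee q) v = 0 → w * B.r q = B.r q * w :=
    fun hw q hq => hw.comm_core H B.D (B.r_mem q) (by rw [B.phi_r, B.phi_r]; exact ee_ee _ _)
      (by rw [B.phi_r]; exact hq)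
  have hin : In B.D (B.r 0) (emb g₃) c' := by
    have := hc'.fst; rw [B.phi_mz H] at this; exact this
  have hin0 : In B.D (B.r 0) (emb w₃) c := by
    have := hc.fst; rw [show T.D.phi (T.r 3) = ee 3 from T.phi_r 3] at this; exact this
  obtain ⟨b, hb⟩ := In2.bit H B.D (hY : In2 B.D (B.r 1) (B.r 2) Y) hc'.fst.cz
    (hcr hin 1 (ee_ff_ne (by decide : (1 : Fin 4) ≠ 3))) (hcr hin 2 (ee_ff_ne (by decide : (2 : Fin 4) ≠ 3)))
  have hs := sign H B.D (B.phi_r 0) (B.phi_r 1) (B.phi_r 2) hin0 hin hY (a := 0)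
    (by rw [bpow_zero, mul_one]; exact hcY) hb
  rw [zero_add] at hs
  subst hs
  obtain ⟨σ, s0, s3, s1, s2⟩ := exists_perm j i k l n1 n2 n3 n4 n5 n6
  obtain ⟨g, hg, hga⟩ := B.exists_perm_elt H σ
  have hpr : ∀ q, B.D.phi (g * B.r q * g⁻¹) = ee (σ q) := fun q => by
    rw [B.D.act_phi g hg _ (B.r_mem q), B.phi_r, (hga q).1]
  have hpm : B.D.phi (g * (B.m 3 * z) * g⁻¹) = ff i := by
    rw [B.D.act_phi g hg _ (B.mz_mem H 3), B.phi_mz H, (hga 3).2, s3]
  have hY' : In2 B.D (g * B.r 1 * g⁻¹) (g * B.r 2 * g⁻¹) (g * Y * g⁻¹) := hY.conj_of H B.D hg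
  have hcc : In2 B.D (g * B.r 0 * g⁻¹) (g * (B.m 3 * z) * g⁻¹) (g * c' * g⁻¹) := hc'.conj_of H B.D hg
  have hbit : g * c' * g⁻¹ * (g * Y * g⁻¹) * (g * c' * g⁻¹)⁻¹ = g * Y * g⁻¹ * bpow z 1 := by
    rw [show g * c' * g⁻¹ * (g * Y * g⁻¹) * (g * c' * g⁻¹)⁻¹ = g * (c' * Y * c'⁻¹) * g⁻¹ by group, hb,
      show g * (Y * bpow z 1) * g⁻¹ = g * Y * g⁻¹ * cj g (bpow z 1) by simp only [cj]; group, cj_bpow hg]
  have e := bit_same H hY' (B.line_spec H n6) (by rw [hpr, B.phi_r, s1]) (by rw [hpr, B.phi_r, s2]) hcc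
    (B.t_spec H n1.symm) (by rw [hpr, B.phi_r, s0]) (by rw [hpm, B.phi_mz H])
    (by rw [hpr, hpr]; exact ee_ee _ _) (by rw [hpr, hpm, s1]; exact ee_ff_ne n4.symm)
    (by rw [hpr, hpr]; exact ee_ee _ _) (by rw [hpr, hpm, s2]; exact ee_ff_ne n5.symm) hbit
  rw [bpow_one] at e
  exact e

theorem Basis.m_r (B : Basis z Qf) (k l : Fin 4) :
    cj (B.m k) (B.r l) = B.r l * bpow z (bV (ff k) (ee l)) := by
  rw [cj, B.D.conj_eq H.good (B.r_mem l) (B.m_mem k), B.phi_m, B.phi_r]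

omit [Finite G] in
theorem Basis.m_sq (B : Basis z Qf) (k : Fin 4) : B.m k * B.m k = 1 :=
  (B.D.sq_iff _ (B.m_mem k)).2 (B.point_m H k).1

theorem Basis.m_cz (B : Basis z Qf) (k : Fin 4) : B.m k * z = z * B.m k := H.good.le_cent _ (B.m_mem k)

theorem Basis.m_line_off (B : Basis z Qf) {i j k : Fin 4} (h : i ≠ j) (hi : k ≠ i) (hj : k ≠ j) :
    cj (B.m k) (B.line H i j) = B.line H i j :=
  cj_eq_self ((B.line_spec H h).fst.comm_core H B.D (B.m_mem k) (by rw [B.phi_m, B.phi_r]; exact ff_ee_ne hi)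
    (by rw [B.phi_m, B.phi_r]; exact ff_ee_ne hj)).symm

theorem Basis.m_line (B : Basis z Qf) {k l : Fin 4} (h : k ≠ l) :
    cj (B.m k) (B.line H k l) = B.line H k l * (B.r l * z) := by
  have hL := B.line_spec H h
  have e := hL.snd.conj_core H B.D (B.m_mem k) (by rw [B.phi_m, B.phi_r]; exact ff_ee_ne h)
  rw [B.phi_m, B.phi_r, bV_comm, ee_ff, if_pos rfl, bpow_one] at e
  have hm : (B.m k)⁻¹ = B.m k := inv_eq_of_mul_eq_one_right (B.m_sq H k)
  have hc : Commute (B.r l * z) (B.line H k l) :=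
    Commute.mul_left (hL.snd.comm_point H B.D : Commute _ _).symm (hL.fst.cz : Commute _ _).symm
  have e' : B.line H k l * B.m k = B.m k * (B.r l * z) * B.line H k l :=
    mul_inv_eq_iff_eq_mul.1 e
  rw [cj, hm, mul_assoc, e', ← mul_assoc, ← mul_assoc, B.m_sq H, one_mul, hc.eq]

theorem Basis.r_mem_A (B : Basis z Qf) (i : Fin 4) : B.r i ∈ B.A H := by
  fin_cases i
  exacts [B.gen_mem H 1, B.gen_mem H 2, B.gen_mem H 3, B.gen_mem H 4]

theorem Basis.z_mem_A (B : Basis z Qf) : z ∈ B.A H := B.gen_mem H 0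

/-- An element of `C(z)` keeping the four-space normalises the centraliser. -/
theorem Basis.norm_A (B : Basis z Qf) {x : G} (hxz : x * z = z * x)
    (h : ∀ q v, (∀ k, bV v (ee k) = 0) → bV v (B.D.act x (ee q)) = 0) {a : G} (ha : a ∈ B.A H) :
    cj x a ∈ B.A H := by
  refine Subgroup.mem_centralizer_iff.2 fun b hb => ?_
  have hxi : x⁻¹ * z = z * x⁻¹ := (Commute.inv_left hxz :)
  have hb' : cj x⁻¹ b ∈ B.pre H := ⟨H.good.norm _ hxi b hb.1, fun q => by
    rw [cj, B.D.act_phi _ hxi b hb.1, ← B.D.act_bil H.good hxz, ← B.D.act_mul H.good hxz hxi,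
      mul_inv_cancel, B.D.act_one H.good]
    exact h q _ hb.2⟩
  have := congrArg (cj x) (Subgroup.mem_centralizer_iff.1 ha _ hb')
  rw [cj_mul, cj_mul, cj_cj, mul_inv_cancel, show cj (1 : G) b = b by simp [cj]] at this
  exact this

theorem Basis.m_norm (B : Basis z Qf) (k : Fin 4) {a : G} (ha : a ∈ B.A H) : cj (B.m k) a ∈ B.A H :=
  B.norm_A H (B.m_cz H k) (fun q v hv => by rw [B.D.act_of_mem H.good (B.m_mem k)]; exact hv q) ha

theorem Basis.t_norm (B : Basis z Qf) {i j : Fin 4} (h : i ≠ j) {a : G} (ha : a ∈ B.A H) :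
    cj (B.t H i j) a ∈ B.A H := by
  refine B.norm_A H (B.t_cz H i j) (fun q v hv => ?_) ha
  rw [B.t_act H h, root]
  simp only [bV_add_right, hv q]
  rcases zmod_cases (bV (ee q) (ff i)) with e | e <;> simp [e, ee_ee, hv, bV_zero_right]

theorem Todd.comm4 (T : Todd H) {a b c d : G} (hb : b ∈ T.basis.A H) (hc : c ∈ T.basis.A H) :
    a * b * (c * d) = a * c * (b * d) := by
  rw [mul_assoc, ← mul_assoc b, T.comm_A H hb hc, mul_assoc, ← mul_assoc]

theorem Todd.t_line_move (T : Todd H) {i j l : Fin 4} (n1 : i ≠ j) (n2 : i ≠ l) (n3 : j ≠ l) :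
    ∃ β : ZMod 2, cj (T.basis.t H i j) (T.basis.line H i l) =
      T.basis.line H i l * T.basis.line H j l * bpow z β := by
  set B := T.basis with hB
  set x := B.t H i j with hx
  have hxz : x * z = z * x := B.t_cz H i j
  set u := B.line H i l * B.line H j l with hu
  have hi := B.line_spec H n2
  have hj := B.line_spec H n3
  have hu' := act_mul₂ H B.D hi.fst.cz hj.fst.cz hi.snd.act hj.snd.act
  have hL' := hi.conj_of H B.D hxz
  have hrl : x * B.r l * x⁻¹ = B.r l := B.t_r_ne H n1 n2.symm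
  have hri : x * B.r i * x⁻¹ = B.r i * (B.r j * z) := B.t_r_self H n1
  rw [hrl, hri] at hL'
  set L' := x * B.line H i l * x⁻¹ with hL'def
  have hphi : B.D.phi (B.r i * (B.r j * z)) = ee i + ee j := by
    rw [B.D.phi_mul _ (B.r_mem i) _ (mul_mem (B.r_mem j) H.good.x_mem), B.D.phi_mul_z H.good (B.r_mem j),
      B.phi_r, B.phi_r]
  have hui : u⁻¹ * z = z * u⁻¹ := (Commute.inv_left hu'.1 :)
  have hk : u⁻¹ * L' ∈ Qf z := B.D.act_eq_id _ ((Commute.mul_left hui hL'.fst.cz) :) fun y => by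
    rw [B.D.act_mul H.good hui hL'.fst.cz, hL'.snd.act, hphi, B.phi_r,
      root_add_right (ee_q i) (ee_q j) (ee_ee l i) (ee_ee l j) (ee_ee i j)]
    conv_lhs => arg 3; rw [← B.phi_r l, ← B.phi_r i, ← B.phi_r j]
    rw [← hu'.2, B.D.act_inv_act H.good hu'.1]
  have hkA : u⁻¹ * L' ∈ B.A H :=
    mul_mem (inv_mem (mul_mem (B.line_mem H i l) (B.line_mem H j l))) (B.t_norm H n1 (B.line_mem H i l))
  have hk' : u⁻¹ * L' ∈ Qf (B.r l) := mul_mem (inv_mem (mul_mem hi.snd.mem hj.snd.mem)) hL'.snd.mem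
  have hp := inP_of_mem H B.D (B.r_mem l) (B.point_r H l).1 (B.point_r H l).2 hk hk'
  -- conjugation by `m l`
  have hm : cj (B.m l) (u⁻¹ * L') = u⁻¹ * L' := by
    have h1 : cj (B.m l) (B.line H i l) = B.line H i l * (B.r i * z) := by
      rw [B.line_symm H i l]; exact B.m_line H n2.symm
    have h2 : cj (B.m l) (B.line H j l) = B.line H j l * (B.r j * z) := by
      rw [B.line_symm H j l]; exact B.m_line H n3.symm
    have hxm : cj x (B.m l) = B.m l := B.t_m_ne H n1 n3.symm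
    have h3 : cj (B.m l) L' = L' * (B.r i * (B.r j * z) * z) := by
      have e := congrArg (cj x) h1
      rw [cj_mul, cj_mul, cj_eq_self (g := x) (a := z) hxz, B.t_r_self H n1] at e
      rw [show L' = cj x (B.line H i l) from rfl, ← e, cj_cj, cj_cj, show B.m l * x = x * B.m l from
        (conj_eq_iff_comm.1 hxm).symm]
    have h4 : cj (B.m l) u = u * (B.r i * (B.r j * z) * z) := by
      rw [hu, cj_mul, h1, h2, T.comm4 H (mul_mem (B.r_mem_A H i) (B.z_mem_A H)) (B.line_mem H j l),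
        mul_assoc (B.r i) z, ← T.comm_A H (mul_mem (B.r_mem_A H j) (B.z_mem_A H)) (B.z_mem_A H),
        ← mul_assoc (B.r i)]
    have h5 : L' = u * (u⁻¹ * L') := by group
    rw [h5, cj_mul, h4] at h3
    have c2 : (B.r i * (B.r j * z) * z) * (u⁻¹ * L') = u⁻¹ * L' * (B.r i * (B.r j * z) * z) :=
      T.comm_A H (mul_mem (mul_mem (B.r_mem_A H i) (mul_mem (B.r_mem_A H j) (B.z_mem_A H))) (B.z_mem_A H)) hkA
    have h6 : u * (B.r i * (B.r j * z) * z) * cj (B.m l) (u⁻¹ * L') =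
        u * (B.r i * (B.r j * z) * z) * (u⁻¹ * L') := by
      rw [h3, mul_assoc u, ← c2, ← mul_assoc u]
    exact mul_left_cancel h6
  have hz1 : ∀ (v : G), (v = B.r l ∨ v = B.r l * z) → cj (B.m l) v ≠ v := by
    intro v hv e
    have : cj (B.m l) (B.r l) = B.r l := by
      rcases hv with rfl | rfl
      · exact e
      · rw [cj_mul, cj_eq_self (g := B.m l) (a := z) (B.m_cz H l)] at e
        exact mul_right_cancel e
    rw [B.m_r H, bV_comm, ee_ff, if_pos rfl, bpow_one] at this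
    exact H.good.x_ne (mul_eq_left.1 this)
  rcases hp with e | e | e | e
  · exact ⟨0, by rw [bpow_zero, mul_one, cj, ← hL'def, ← inv_mul_eq_one.1 e]⟩
  · exact ⟨1, by rw [bpow_one, cj, ← hL'def, ← e, mul_inv_cancel_left]⟩
  · exact absurd hm (hz1 _ (Or.inl e))
  · exact absurd hm (hz1 _ (Or.inr e))

end Cfsg.Agent.Lib.Co1Todd15
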