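import Cfsg.Agent.Lib.Co1Todd15.Frame

/-!
The eleven lifts spanning the centraliser of the preimage of a totally singular four-space.
-/

set_option autoImplicit false

namespace Cfsg.Agent.Lib.Co1Todd15

open Co1Type47 LargeExtra

variable {G : Type*} [Group G] [Finite G] {z : G} {Qf : G → Subgroup G}

/-- Coordinates with lifts of both bases. -/
structure Basis (z : G) (Qf : G → Subgroup G) where
  D : Data z (Qf z)
  r : Fin 4 → G
  m : Fin 4 → G
  r_mem : ∀ i, r i ∈ Qf z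
  m_mem : ∀ i, m i ∈ Qf z
  phi_r : ∀ i, D.phi (r i) = ee i
  phi_m : ∀ i, D.phi (m i) = ff i

omit [Finite G] in
/-- A basis over given coordinates. -/
theorem exists_basis (D : Data z (Qf z)) : ∃ B : Basis z Qf, B.D = D := by
  choose r hr hrp using fun i => D.phi_surj (ee i)
  choose m hm hmp using fun i => D.phi_surj (ff i)
  exact ⟨⟨D, r, m, hr, hm, hrp, hmp⟩, rfl⟩

/-- The underlying basis. -/
def Todd.basis {H : Hyp z Qf} (T : Todd H) : Basis z Qf :=
  ⟨T.D, T.r, T.m, T.r_mem, T.m_mem, T.phi_r, T.phi_m⟩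

variable (H : Hyp z Qf) (B : Basis z Qf)
include H

omit [Finite G] in
theorem Basis.point_r (i : Fin 4) : qV (B.D.phi (B.r i)) = 0 ∧ B.D.phi (B.r i) ≠ 0 := by
  rw [B.phi_r]; exact ⟨ee_q i, ee_ne i⟩

omit [Finite G] in
theorem Basis.point_m (i : Fin 4) : qV (B.D.phi (B.m i)) = 0 ∧ B.D.phi (B.m i) ≠ 0 := by
  rw [B.phi_m]; exact ⟨ff_q i, ff_ne i⟩

theorem Basis.exists_line {i j : Fin 4} (h : i ≠ j) : ∃ c, In2 B.D (B.r i) (B.r j) c :=
  exists_in2 H B.D (B.r_mem i) (B.point_r H i).1 (B.point_r H i).2 (B.r_mem j) (B.point_r H j).1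
    (B.point_r H j).2 (by rw [B.phi_r, B.phi_r]; exact ee_inj h) (by rw [B.phi_r, B.phi_r]; exact ee_ee i j)

theorem Basis.exists_levi {i j : Fin 4} (h : i ≠ j) : ∃ c, In2 B.D (B.r j) (B.m i) c :=
  exists_in2 H B.D (B.r_mem j) (B.point_r H j).1 (B.point_r H j).2 (B.m_mem i) (B.point_m H i).1
    (B.point_m H i).2 (by rw [B.phi_r, B.phi_m]; exact ee_ne_ff j i)
    (by rw [B.phi_r, B.phi_m]; exact ee_ff_ne h.symm)

omit H [Finite G] in
theorem line_ne : ∀ s : Fin 6, lineFst s ≠ lineSnd s := by decide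

/-- The six lifts. -/
noncomputable def Basis.L (s : Fin 6) : G := (B.exists_line H (line_ne s)).choose

theorem Basis.L_spec (s : Fin 6) : In2 B.D (B.r (lineFst s)) (B.r (lineSnd s)) (B.L H s) :=
  (B.exists_line H (line_ne s)).choose_spec

/-- The preimage of the four-space. -/
def Basis.pre : Subgroup G where
  carrier := {a | a ∈ Qf z ∧ ∀ k, bV (B.D.phi a) (ee k) = 0}
  one_mem' := ⟨one_mem _, fun k => by rw [B.D.phi_one H.good, bV_zero_left]⟩
  mul_mem' := fun {a b} ha hb => ⟨mul_mem ha.1 hb.1, fun k => by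
    rw [B.D.phi_mul a ha.1 b hb.1, bV_add_left, ha.2, hb.2, add_zero]⟩
  inv_mem' := fun {a} ha => ⟨inv_mem ha.1, fun k => by rw [B.D.phi_inv H.good ha.1]; exact ha.2 k⟩

/-- Its centraliser. -/
def Basis.A : Subgroup G := Subgroup.centralizer (B.pre H : Set G)

omit [Finite G] in
theorem Basis.r_pre (i : Fin 4) : B.r i ∈ B.pre H :=
  ⟨B.r_mem i, fun k => by rw [B.phi_r]; exact ee_ee i k⟩

omit [Finite G] in
theorem Basis.z_pre : z ∈ B.pre H :=
  ⟨H.good.x_mem, fun k => by rw [B.D.phi_z H.good, bV_zero_left]⟩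

omit [Finite G] in
theorem Basis.cz_of_mem {y : G} (hy : y ∈ B.A H) : y * z = z * y :=
  (Subgroup.mem_centralizer_iff.1 hy z (B.z_pre H)).symm

/-- The generators, as a family. -/
noncomputable def Basis.gen : Fin 11 → G :=
  ![z, B.r 0, B.r 1, B.r 2, B.r 3, B.L H 0, B.L H 1, B.L H 2, B.L H 3, B.L H 4, B.L H 5]

/-- Ordered products. -/
noncomputable def Basis.gprod (l : List (Fin 11)) (x : Fin 11 → ZMod 2) : G :=
  (l.map fun k => bpow (B.gen H k) (x k)).prod

/-- The element with coordinates `x`. -/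
noncomputable def Basis.Phi (x : Fin 11 → ZMod 2) : G := B.gprod H (List.finRange 11) x

theorem Basis.phi_split (x : Fin 11 → ZMod 2) : B.Phi H x =
    B.gprod H [0, 1, 2, 3, 4] x * B.gprod H [5, 6, 7, 8, 9, 10] x := by
  rw [Basis.gprod, Basis.gprod, ← List.prod_append, ← List.map_append]
  rfl

theorem Basis.qPart_spec (x : Fin 11 → ZMod 2) : B.gprod H [0, 1, 2, 3, 4] x ∈ Qf z ∧
    B.D.phi (B.gprod H [0, 1, 2, 3, 4] x) = x 1 • ee 0 + x 2 • ee 1 + x 3 • ee 2 + x 4 • ee 3 := by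
  have hz : bpow z (x 0) ∈ Qf z := bpow_mem H.good.x_mem _
  have hr : ∀ i k, bpow (B.r i) (x k) ∈ Qf z := fun i k => bpow_mem (B.r_mem i) _
  have e : B.gprod H [0, 1, 2, 3, 4] x = bpow z (x 0) * (bpow (B.r 0) (x 1) *
      (bpow (B.r 1) (x 2) * (bpow (B.r 2) (x 3) * bpow (B.r 3) (x 4)))) := by
    simp only [Basis.gprod, List.map_cons, List.map_nil, List.prod_cons, List.prod_nil, mul_one]
    rfl
  have h3 := mul_mem (hr 2 3) (hr 3 4)
  have h2 := mul_mem (hr 1 2) h3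
  have h1 := mul_mem (hr 0 1) h2
  rw [e]
  refine ⟨mul_mem hz h1, ?_⟩
  rw [B.D.phi_mul _ hz _ h1, B.D.phi_mul _ (hr 0 1) _ h2, B.D.phi_mul _ (hr 1 2) _ h3,
    B.D.phi_mul _ (hr 2 3) _ (hr 3 4), phi_bpow' H B.D H.good.x_mem, B.D.phi_z H.good, smul_zero, zero_add,
    phi_bpow' H B.D (B.r_mem 0), phi_bpow' H B.D (B.r_mem 1), phi_bpow' H B.D (B.r_mem 2),
    phi_bpow' H B.D (B.r_mem 3), B.phi_r, B.phi_r, B.phi_r, B.phi_r]
  abel

theorem Basis.act_bpow_L (s : Fin 6) (b : ZMod 2) :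
    bpow (B.L H s) b * z = z * bpow (B.L H s) b ∧
      ∀ v, B.D.act (bpow (B.L H s) b) v = rootPow b (ee (lineFst s)) (ee (lineSnd s)) v := by
  rcases zmod_cases b with rfl | rfl
  · exact ⟨by rw [bpow_zero, one_mul, mul_one], fun v => by
      rw [bpow_zero, B.D.act_one H.good]; rfl⟩
  · refine ⟨by rw [bpow_one]; exact (B.L_spec H s).fst.cz, fun v => ?_⟩
    rw [bpow_one, (B.L_spec H s).fst.act, B.phi_r, B.phi_r]
    rfl

/-- The bits of the six lines. -/
def lineBits (x : Fin 11 → ZMod 2) : Fin 6 → ZMod 2 := ![x 5, x 6, x 7, x 8, x 9, x 10]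

theorem Basis.lPart_spec (x : Fin 11 → ZMod 2) :
    B.gprod H [5, 6, 7, 8, 9, 10] x * z = z * B.gprod H [5, 6, 7, 8, 9, 10] x ∧
      ∀ v, B.D.act (B.gprod H [5, 6, 7, 8, 9, 10] x) v = radProd (lineBits x) v := by
  have e : B.gprod H [5, 6, 7, 8, 9, 10] x = bpow (B.L H 0) (x 5) * (bpow (B.L H 1) (x 6) *
      (bpow (B.L H 2) (x 7) * (bpow (B.L H 3) (x 8) * (bpow (B.L H 4) (x 9) * bpow (B.L H 5) (x 10))))) := by
    simp only [Basis.gprod, List.map_cons, List.map_nil, List.prod_cons, List.prod_nil, mul_one]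
    rfl
  obtain ⟨c5, a5⟩ := B.act_bpow_L H 5 (x 10)
  obtain ⟨c4, a4⟩ := B.act_bpow_L H 4 (x 9)
  obtain ⟨c3, a3⟩ := B.act_bpow_L H 3 (x 8)
  obtain ⟨c2, a2⟩ := B.act_bpow_L H 2 (x 7)
  obtain ⟨c1, a1⟩ := B.act_bpow_L H 1 (x 6)
  obtain ⟨c0, a0⟩ := B.act_bpow_L H 0 (x 5)
  obtain ⟨d4, b4⟩ := act_mul₂ H B.D c4 c5 a4 a5
  obtain ⟨d3, b3⟩ := act_mul₂ H B.D c3 d4 a3 b4
  obtain ⟨d2, b2⟩ := act_mul₂ H B.D c2 d3 a2 b3
  obtain ⟨d1, b1⟩ := act_mul₂ H B.D c1 d2 a1 b2
  obtain ⟨d0, b0⟩ := act_mul₂ H B.D c0 d1 a0 b1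
  rw [e]
  exact ⟨d0, fun v => by rw [b0]; rfl⟩

/-- Every element of the centraliser has coordinates. -/
theorem Basis.exists_coord {y : G} (hy : y ∈ B.A H) : ∃ x, y = B.Phi H x := by
  have hyz := B.cz_of_mem H hy
  have hadd := B.D.act_add hyz (fun a ha => H.good.norm y hyz a ha)
  have he : ∀ k, B.D.act y (ee k) = ee k := fun k => by
    rw [← B.phi_r, ← B.D.act_phi y hyz _ (B.r_mem k),
      conj_eq_iff_comm.2 ((Subgroup.mem_centralizer_iff.1 hy _ (B.r_pre H k)).symm)]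
  set a : Fin 4 → V8 := fun k => B.D.act y (ff k) + ff k with ha
  have hyf : ∀ k, B.D.act y (ff k) = ff k + a k := fun k => by
    rw [ha]
    show B.D.act y (ff k) = ff k + (B.D.act y (ff k) + ff k)
    rw [add_comm (B.D.act y (ff k)), ← add_assoc, add_self, zero_add]
  have hperp : ∀ k l, bV (a k) (ee l) = 0 := fun k l => by
    have h := B.D.act_bil H.good hyz (ff k) (ee l)
    rw [he] at h
    rw [ha]
    show bV (B.D.act y (ff k) + ff k) (ee l) = 0
    rw [bV_add_left, h]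
    exact (by decide : ∀ t : ZMod 2, t + t = 0) _
  set S : Fin 4 → Fin 4 → ZMod 2 := fun k l => bV (a k) (ff l) with hS
  have hdec : ∀ k, a k = S k 0 • ee 0 + S k 1 • ee 1 + S k 2 • ee 2 + S k 3 • ee 3 :=
    fun k => perp_decomp _ (hperp k)
  have haa : ∀ k l, bV (a k) (a l) = 0 := fun k l => by
    have hsm : ∀ (t : ZMod 2) (p q : V8), bV p (t • q) = t * bV p q := fun t p q => by
      rcases zmod_cases t with rfl | rfl <;> simp [bV_zero_right]
    conv_lhs => rw [hdec l]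
    simp only [bV_add_right, hsm, hperp, mul_zero, add_zero]
  have hdiag : ∀ k, S k k = 0 := fun k => by
    have h := B.D.act_iso y hyz (ff k)
    rw [hyf, qV_add, ff_q, zero_add] at h
    have hq : qV (a k) = 0 := by
      rw [hdec k]
      exact span_q _ _ _ _
    rw [hq, zero_add, bV_comm] at h
    exact h
  have hsymm : ∀ k l, S k l = S l k := fun k l => by
    have h := B.D.act_bil H.good hyz (ff k) (ff l)
    rw [hyf k, hyf l, ff_ff, bV_add_left (ff k) (a k), bV_add_right (ff k), bV_add_right (a k), ff_ff,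
      haa, add_zero, zero_add, bV_comm (ff k) (a l)] at h
    exact ((by decide : ∀ p q : ZMod 2, q + p = 0 → p = q) _ _ h)
  set b : Fin 6 → ZMod 2 := ![S 0 1, S 0 2, S 0 3, S 1 2, S 1 3, S 2 3] with hb
  have hact : ∀ v, B.D.act y v = radProd b v := by
    refine lin_ext hadd (radProd_add b) (fun k => by rw [he, radProd_ee]) fun k => ?_
    obtain ⟨r0, r1, r2, r3⟩ := radProd_ff b
    rw [hyf, hdec k]
    rw [hb] at r0 r1 r2 r3 ⊢
    fin_cases k <;>
      simp only [Fin.isValue, Fin.zero_eta, Fin.mk_one, Fin.reduceFinMk, r0, r1, r2, r3, hdiag,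
        hsymm 1 0, hsymm 2 0, hsymm 2 1, hsymm 3 0, hsymm 3 1, hsymm 3 2, zero_smul, zero_add, add_zero,
        Matrix.cons_val] <;> abel
  set x₀ : Fin 11 → ZMod 2 := ![0, 0, 0, 0, 0, b 0, b 1, b 2, b 3, b 4, b 5] with hx₀
  obtain ⟨hlz, hla⟩ := B.lPart_spec H x₀
  set l := B.gprod H [5, 6, 7, 8, 9, 10] x₀ with hl
  have hlb : lineBits x₀ = b := by
    funext s
    fin_cases s <;> rfl
  have hli : l⁻¹ * z = z * l⁻¹ := (Commute.inv_left hlz :)
  have hu : y * l⁻¹ ∈ Qf z := B.D.act_eq_id _ ((Commute.mul_left hyz hli) :) fun v => by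
    have hl' : ∀ w, B.D.act l w = B.D.act y w := fun w => by rw [hla, hlb, hact]
    rw [B.D.act_mul H.good hyz hli, ← hl', ← B.D.act_mul H.good hlz hli, mul_inv_cancel, B.D.act_one H.good]
  have hlr : ∀ k, Commute l (B.r k) := fun k => by
    have hgen : ∀ (l' : List (Fin 11)) (w : Fin 11 → ZMod 2) (_ : ∀ g ∈ l', 5 ≤ g.val),
        Commute (B.gprod H l' w) (B.r k) := by
      intro l' w
      induction l' with
      | nil => intro _; exact Commute.one_left _
      | cons g t ih =>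
        intro hg
        refine Commute.mul_left ?_ (ih fun i hi => hg i (List.mem_cons_of_mem g hi))
        have h5 := hg g List.mem_cons_self
        have hL : ∀ s, Commute (B.L H s) (B.r k) := fun s => (B.L_spec H s).fst.comm_core H B.D (B.r_mem k)
          (by rw [B.phi_r, B.phi_r]; exact ee_ee _ _) (by rw [B.phi_r, B.phi_r]; exact ee_ee _ _)
        show Commute (bpow (B.gen H g) (w g)) (B.r k)
        rcases bpow_cases (B.gen H g) (w g) with u | u <;> rw [u]
        · exact Commute.one_left _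
        · fin_cases g <;> first | exact absurd h5 (by decide) | exact hL _
    exact hgen _ x₀ (by decide)
  have hperp' : ∀ k, bV (B.D.phi (y * l⁻¹)) (ee k) = 0 := fun k => by
    rw [← B.phi_r k]
    exact (B.D.comm_iff _ hu _ (B.r_mem k)).1
      (Commute.mul_left (Subgroup.mem_centralizer_iff.1 hy _ (B.r_pre H k)).symm (hlr k).inv_left :)
  set c := fun k => bV (B.D.phi (y * l⁻¹)) (ff k) with hc
  obtain ⟨e, he'⟩ : ∃ e : ZMod 2, y * l⁻¹ =
      B.gprod H [0, 1, 2, 3, 4] ![e, c 0, c 1, c 2, c 3, b 0, b 1, b 2, b 3, b 4, b 5] := by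
    obtain ⟨q0, q1⟩ := B.qPart_spec H ![0, c 0, c 1, c 2, c 3, b 0, b 1, b 2, b 3, b 4, b 5]
    rcases B.D.eq_or_of_phi_eq H.good hu q0 ((perp_decomp _ hperp').trans q1.symm) with u | u
    · exact ⟨0, u⟩
    · refine ⟨1, u.trans ?_⟩
      have hzq : Commute z (B.gprod H [0, 1, 2, 3, 4] ![0, c 0, c 1, c 2, c 3, b 0, b 1, b 2, b 3, b 4, b 5]) :=
        (H.good.le_cent _ q0).symm
      rw [← hzq.eq]
      simp only [Basis.gprod, List.map_cons, List.map_nil, List.prod_cons, List.prod_nil, mul_one]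
      show z * (1 * _) = z * _
      rw [one_mul]
      rfl
  refine ⟨![e, c 0, c 1, c 2, c 3, b 0, b 1, b 2, b 3, b 4, b 5], ?_⟩
  rw [B.phi_split, ← he']
  calc y = y * l⁻¹ * l := by group
    _ = _ := rfl
where
  span_q : ∀ p q r s : ZMod 2, qV (p • ee 0 + q • ee 1 + r • ee 2 + s • ee 3) = 0 := by decide +kernel

/-- The centraliser has at most `2¹¹` elements. -/
theorem Basis.card_A_le : Nat.card (B.A H) ≤ 2 ^ 11 := by
  classical
  haveI : Finite (B.A H) := inferInstance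
  choose f hf using fun y : B.A H => B.exists_coord H y.2
  have h := Nat.card_le_card_of_injective f fun a b e => Subtype.ext (by rw [hf a, hf b, e])
  simpa [Nat.card_eq_fintype_card] using h

end Cfsg.Agent.Lib.Co1Todd15
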