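import Cfsg.Agent.Lib.Co1Todd15.Sign

/-!
The hyperbolic basis `ee`, `ff` of the eight-space and finite facts about the root elements on it.
-/

set_option autoImplicit false
set_option synthInstance.maxSize 1024
set_option synthInstance.maxHeartbeats 200000

namespace Cfsg.Agent.Lib.Co1Todd15

open Co1Type47

/-- The basis of the totally singular four-space. -/
def ee : Fin 4 → V8 := ![e₀, emb w₁, emb w₂, emb w₃]

/-- The dual basis. -/
def ff : Fin 4 → V8 := ![f₀, emb g₁, emb g₂, emb g₃]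

/-- The six lines of the basis. -/
def lineFst : Fin 6 → Fin 4 := ![0, 0, 0, 1, 1, 2]

/-- Their second points. -/
def lineSnd : Fin 6 → Fin 4 := ![1, 2, 3, 2, 3, 3]

/-- A root raised to a bit. -/
def rootPow (b : ZMod 2) (u v x : V8) : V8 := if b = 0 then x else root u v x

/-- The product of the six roots with given exponents. -/
def radProd (b : Fin 6 → ZMod 2) (x : V8) : V8 :=
  rootPow (b 0) (ee 0) (ee 1) (rootPow (b 1) (ee 0) (ee 2) (rootPow (b 2) (ee 0) (ee 3)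
    (rootPow (b 3) (ee 1) (ee 2) (rootPow (b 4) (ee 1) (ee 3) (rootPow (b 5) (ee 2) (ee 3) x)))))

theorem basis_facts : ∀ i j : Fin 4, qV (ee i) = 0 ∧ qV (ff i) = 0 ∧ bV (ee i) (ee j) = 0 ∧
    bV (ff i) (ff j) = 0 ∧ bV (ee i) (ff j) = (if i = j then 1 else 0) ∧ ee i ≠ 0 ∧ ff i ≠ 0 ∧
    ee i ≠ ff j ∧ (ee i = ee j ↔ i = j) ∧ (ff i = ff j ↔ i = j) := by
  decide +kernel

theorem ee_q (i : Fin 4) : qV (ee i) = 0 := (basis_facts i i).1
theorem ff_q (i : Fin 4) : qV (ff i) = 0 := (basis_facts i i).2.1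
theorem ee_ee (i j : Fin 4) : bV (ee i) (ee j) = 0 := (basis_facts i j).2.2.1
theorem ff_ff (i j : Fin 4) : bV (ff i) (ff j) = 0 := (basis_facts i j).2.2.2.1
theorem ee_ff (i j : Fin 4) : bV (ee i) (ff j) = if i = j then 1 else 0 := (basis_facts i j).2.2.2.2.1
theorem ee_ff_ne {i j : Fin 4} (h : i ≠ j) : bV (ee i) (ff j) = 0 := by rw [ee_ff, if_neg h]
theorem ff_ee_ne {i j : Fin 4} (h : i ≠ j) : bV (ff i) (ee j) = 0 := by rw [bV_comm, ee_ff_ne h.symm]
theorem ee_ne (i : Fin 4) : ee i ≠ 0 := (basis_facts i i).2.2.2.2.2.1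
theorem ff_ne (i : Fin 4) : ff i ≠ 0 := (basis_facts i i).2.2.2.2.2.2.1
theorem ee_ne_ff (i j : Fin 4) : ee i ≠ ff j := (basis_facts i j).2.2.2.2.2.2.2.1
theorem ee_inj {i j : Fin 4} (h : i ≠ j) : ee i ≠ ee j := fun e => h ((basis_facts i j).2.2.2.2.2.2.2.2.1.1 e)

theorem v8_decomp : ∀ v : V8, v = v.1 • ee 0 + v.2.1 • ff 0 + v.2.2.1.1 • ee 1 + v.2.2.1.2 • ff 1
    + v.2.2.2.1.1 • ee 2 + v.2.2.2.1.2 • ff 2 + v.2.2.2.2.1 • ee 3 + v.2.2.2.2.2 • ff 3 := by
  decide +kernel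

/-- Additive maps agreeing on the basis are equal. -/
theorem lin_ext {F F' : V8 → V8} (hF : ∀ u v, F (u + v) = F u + F v) (hF' : ∀ u v, F' (u + v) = F' u + F' v)
    (he : ∀ k, F (ee k) = F' (ee k)) (hf : ∀ k, F (ff k) = F' (ff k)) : ∀ v, F v = F' v := by
  have hs : ∀ {F : V8 → V8}, (∀ u v, F (u + v) = F u + F v) → ∀ (k : ZMod 2) u, F (k • u) = k • F u := by
    intro F hF k u
    rcases zmod_cases k with rfl | rfl
    · rw [zero_smul, zero_smul]
      have := hF 0 0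
      rw [add_zero] at this
      exact left_eq_add.1 this
    · rw [one_smul, one_smul]
  intro v
  rw [v8_decomp v]
  simp only [hF, hF', hs hF, hs hF', he, hf]

theorem root_add (u v x y : V8) : root u v (x + y) = root u v x + root u v y := by
  simp only [root, bV_add_left, mul_add, add_smul]
  abel

theorem rootPow_add (b : ZMod 2) (u v x y : V8) :
    rootPow b u v (x + y) = rootPow b u v x + rootPow b u v y := by
  unfold rootPow
  split_ifs
  · rfl
  · exact root_add u v x y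

theorem radProd_add (b : Fin 6 → ZMod 2) (x y : V8) : radProd b (x + y) = radProd b x + radProd b y := by
  simp only [radProd, rootPow_add]

theorem radProd_ee : ∀ (b : Fin 6 → ZMod 2) (k : Fin 4), radProd b (ee k) = ee k := by decide +kernel

theorem radProd_ff : ∀ (b : Fin 6 → ZMod 2),
    radProd b (ff 0) = ff 0 + b 0 • ee 1 + b 1 • ee 2 + b 2 • ee 3 ∧
    radProd b (ff 1) = ff 1 + b 0 • ee 0 + b 3 • ee 2 + b 4 • ee 3 ∧
    radProd b (ff 2) = ff 2 + b 1 • ee 0 + b 3 • ee 1 + b 5 • ee 3 ∧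
    radProd b (ff 3) = ff 3 + b 2 • ee 0 + b 4 • ee 1 + b 5 • ee 2 := by
  decide +kernel

theorem radProd_inj : ∀ b : Fin 6 → ZMod 2, (∀ k, radProd b (ff k) = ff k) → b = 0 := by decide +kernel

theorem perp_decomp : ∀ v : V8, (∀ k, bV v (ee k) = 0) →
    v = bV v (ff 0) • ee 0 + bV v (ff 1) • ee 1 + bV v (ff 2) • ee 2 + bV v (ff 3) • ee 3 := by
  decide +kernel

/-- The isometry exchanging the two points of the third plane. -/
def swap3 (v : V8) : V8 := (v.1, v.2.1, (v.2.2.1, v.2.2.2.1, (v.2.2.2.2.2, v.2.2.2.2.1)))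

/-- It, bundled. -/
def swap3Iso : Iso where
  map := { toFun := swap3, invFun := swap3, left_inv := fun _ => rfl, right_inv := fun _ => rfl,
           map_add' := fun _ _ => rfl }
  iso v := by
    show qV (swap3 v) = qV v
    simp only [swap3, qV, qW, qH]
    ring

theorem swap3_values : swap3 e₀ = e₀ ∧ swap3 (emb w₁) = emb w₁ ∧ swap3 (emb w₂) = emb w₂ ∧
    swap3 (emb g₃) = emb w₃ ∧ swap3 (emb w₃) = emb g₃ := by decide +kernel

/-- A transposition of the planes. -/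
def planeSwap (a b : Fin 4) (x : V8) : V8 :=
  root (ee b) (ff a) (root (ee a) (ff b) (root (ee b) (ff a) x))

theorem planeSwap_apply : ∀ a b : Fin 4, a ≠ b → ∀ k : Fin 4,
    planeSwap a b (ee k) = ee (Equiv.swap a b k) ∧ planeSwap a b (ff k) = ff (Equiv.swap a b k) := by
  decide +kernel

theorem exists_perm : ∀ i j k l : Fin 4, i ≠ j → i ≠ k → i ≠ l → j ≠ k → j ≠ l → k ≠ l →
    ∃ σ : Equiv.Perm (Fin 4), σ 0 = i ∧ σ 3 = j ∧ σ 1 = k ∧ σ 2 = l := by
  intro i j k l h1 h2 h3 h4 h5 h6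
  have hinj : Function.Injective ![i, k, l, j] := by
    intro a b
    fin_cases a <;> fin_cases b <;> simp [h1, h2, h3, h4, h5, h6, h1.symm, h2.symm, h3.symm, h4.symm, h5.symm, h6.symm]
  exact ⟨Equiv.ofBijective _ (Finite.injective_iff_bijective.1 hinj), rfl, rfl, rfl, rfl⟩

end Cfsg.Agent.Lib.Co1Todd15
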