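import Cfsg.Agent.Lib.Co1Todd15.Code

/-!
The automorphisms induced on the centraliser: the sixteen maps on codes, and two further elements coming
from coordinates at a second centre.
-/

set_option autoImplicit false

namespace Cfsg.Agent.Lib.Co1Todd15

open Co1Type47 LargeExtra

theorem indep_code : ∀ a b c d : ZMod 2,
    (bc a ^^^ (bc b * 32 ^^^ (bc c * 64 ^^^ bc d * 128)) = 0 ∨
      bc a ^^^ (bc b * 32 ^^^ (bc c * 64 ^^^ bc d * 128)) = 2) → a = 0 ∧ b = 0 ∧ c = 0 ∧ d = 0 := by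
  decide +kernel

theorem indep_code_lt : ∀ a b c d : ZMod 2, bc a ^^^ (bc b * 32 ^^^ (bc c * 64 ^^^ bc d * 128)) < 2048 := by
  decide +kernel

/-- The pairs of the twelve Levi lifts. -/
def tPair : ℕ → Fin 4 × Fin 4 := fun n =>
  [(0, 1), (0, 2), (0, 3), (1, 0), (1, 2), (1, 3), (2, 0), (2, 1), (2, 3), (3, 0), (3, 1), (3, 2)].getD n (0, 1)

/-- The sixteen maps. -/
def gimg (n : ℕ) : Fin 11 → ℕ :=
  if n < 12 then tImg (tPair n).1 (tPair n).2 else mImg ⟨(n - 12) % 4, Nat.mod_lt _ (by decide)⟩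

theorem tPair_ne : ∀ n, n < 12 → (tPair n).1 ≠ (tPair n).2 := by decide

variable {G : Type*} [Group G] [Finite G] {z : G} {Qf : G → Subgroup G}

/-- The hypotheses at another centre. -/
theorem Hyp.at_conj (H : Hyp z Qf) {s : G} (hs : IsConj z s) : Hyp s Qf := by
  obtain ⟨g, rfl⟩ := isConj_iff.1 hs
  refine ⟨H.coreMap, H.goodAt g, H.dataAt g, ?_, fun x hx => ?_⟩
  · obtain ⟨g', h1, h2⟩ := H.witness
    refine ⟨g * g' * g⁻¹, ?_, fun e => h2 ?_⟩
    · rw [H.mem_conj_iff]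
      convert h1 using 1
      group
    · calc g' * z * g'⁻¹ = g⁻¹ * (g * g' * g⁻¹ * (g * z * g⁻¹) * (g * g' * g⁻¹)⁻¹) * g := by group
        _ = z := by rw [e]; group
  · obtain ⟨g₀, h⟩ := H.into_cent x hx
    refine ⟨g * g₀, ?_⟩
    calc g * g₀ * x * (g * g₀)⁻¹ * (g * z * g⁻¹) = g * (g₀ * x * g₀⁻¹ * z) * g⁻¹ := by group
      _ = g * (z * (g₀ * x * g₀⁻¹)) * g⁻¹ := by rw [h]
      _ = _ := by group

variable (H : Hyp z Qf)
include H

/-- The normaliser. -/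
def Todd.nA (T : Todd H) : Subgroup G := Subgroup.normalizer (T.basis.A H : Set G)

/-- The automorphisms induced on the centraliser. -/
def Todd.autGrp (T : Todd H) : Subgroup (MulAut ↥(T.basis.A H)) := (T.basis.A H).normalizerMonoidHom.range

theorem Todd.mem_nA (T : Todd H) {g : G} (h : ∀ a ∈ T.basis.A H, cj g a ∈ T.basis.A H) : g ∈ T.nA H := by
  rw [Todd.nA, Subgroup.mem_normalizer_iff]
  refine fun a => ⟨fun ha => h a ha, fun ha => ?_⟩
  have hinj : Function.Injective (fun x : ↥(T.basis.A H) => (⟨cj g x, h x x.2⟩ : ↥(T.basis.A H))) :=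
    fun x y e => Subtype.ext (cj_inj (congrArg Subtype.val e))
  obtain ⟨x, hx⟩ := Finite.surjective_of_injective hinj ⟨_, ha⟩
  rw [← cj_inj (congrArg Subtype.val hx)]
  exact x.2

/-- The element with a given code, in the centraliser. -/
noncomputable def Todd.el (T : Todd H) (n : ℕ) : ↥(T.basis.A H) := ⟨T.cd H n, T.cd_mem H n⟩

theorem Todd.el_xor (T : Todd H) (a b : ℕ) : T.el H (a ^^^ b) = T.el H a * T.el H b :=
  Subtype.ext (T.cd_xor H a b)

theorem Todd.el_inj (T : Todd H) {a b : ℕ} (ha : a < 2048) (hb : b < 2048) (h : T.el H a = T.el H b) : a = b :=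
  T.cd_inj H ha hb (congrArg Subtype.val h)

theorem Todd.el_surj (T : Todd H) (y : ↥(T.basis.A H)) : ∃ n < 2048, T.el H n = y := by
  obtain ⟨n, hn, e⟩ := T.exists_cd H y.2
  exact ⟨n, hn, Subtype.ext e⟩

/-- The sixteen elements. -/
noncomputable def Todd.gel (T : Todd H) (n : ℕ) : G :=
  if n < 12 then T.basis.t H (tPair n).1 (tPair n).2 else T.basis.m ⟨(n - 12) % 4, Nat.mod_lt _ (by decide)⟩

theorem Todd.gel_cj (T : Todd H) (n x : ℕ) : cj (T.gel H n) (T.cd H x) = T.cd H (linC (gimg n) x) := by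
  unfold Todd.gel gimg
  split
  · next h => exact T.cj_t H (tPair_ne n h) x
  · exact T.cj_m H _ x

theorem Todd.gel_mem (T : Todd H) (n : ℕ) : T.gel H n ∈ T.nA H := by
  refine T.mem_nA H fun a ha => ?_
  obtain ⟨x, -, rfl⟩ := T.exists_cd H ha
  rw [T.gel_cj H]
  exact T.cd_mem H _

/-- The sixteen automorphisms. -/
noncomputable def Todd.gAut (T : Todd H) (n : ℕ) : MulAut ↥(T.basis.A H) :=
  (T.basis.A H).normalizerMonoidHom ⟨T.gel H n, T.gel_mem H n⟩

theorem Todd.gAut_mem (T : Todd H) (n : ℕ) : T.gAut H n ∈ T.autGrp H := MonoidHom.mem_range.2 ⟨_, rfl⟩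

theorem Todd.gAut_el (T : Todd H) (n x : ℕ) : T.gAut H n (T.el H x) = T.el H (linC (gimg n) x) :=
  Subtype.ext (T.gel_cj H n x)

/-- Coordinates at the second centre in which the same group is the centraliser. -/
theorem Todd.exists_frame_two (T : Todd H) :
    ∃ (Hs : Hyp (T.basis.r 0) Qf) (B' : Basis (T.basis.r 0) Qf), B'.A Hs = T.basis.A H ∧
      B'.r 0 = z ∧ B'.r 1 = T.gl H 0 1 := by
  set B := T.basis with hB
  set s := B.r 0 with hs
  have hss : s * s = 1 := (B.D.sq_iff s (B.r_mem 0)).2 (B.point_r H 0).1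
  have hzs : IsConj z s := H.isConj_of_mem (IsConj.refl z) (B.r_mem 0) hss
    (r_ne B.D H (B.point_r H 0).2).1
  have Hs : Hyp s Qf := Hyp.at_conj H hzs
  obtain ⟨D⟩ := Hs.data
  set v : Fin 4 → G := ![z, T.gl H 0 1, T.gl H 0 2, T.gl H 0 3] with hv
  have hzQ : z ∈ Qf s := H.coreMap.orth_symm Hs.good H.good (B.r_mem 0)
  have hgl : ∀ j : Fin 4, j ≠ 0 → T.gl H 0 j ∈ Qf s := fun j hj =>
    mul_mem (B.line_spec H hj.symm).fst.mem (bpow_mem hzQ _)
  have hvQ : ∀ i, v i ∈ Qf s := by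
    intro i
    fin_cases i
    exacts [hzQ, hgl 1 (by decide), hgl 2 (by decide), hgl 3 (by decide)]
  have hvA : ∀ i, v i ∈ B.A H := by
    intro i
    fin_cases i
    exacts [B.z_mem_A H, T.gl_mem H 0 1, T.gl_mem H 0 2, T.gl_mem H 0 3]
  have hsum : ∀ c : Fin 4 → ZMod 2, ∃ p ∈ Qf s, p ∈ B.A H ∧
      D.phi p = c 0 • D.phi (v 0) + c 1 • D.phi (v 1) + c 2 • D.phi (v 2) + c 3 • D.phi (v 3) ∧
      p = T.cd H (bc (c 0) ^^^ (bc (c 1) * 32 ^^^ (bc (c 2) * 64 ^^^ bc (c 3) * 128))) := by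
    intro c
    have hb : ∀ i k, bpow (v i) k ∈ Qf s := fun i k => bpow_mem (hvQ i) k
    have hA : ∀ i k, bpow (v i) k ∈ B.A H := fun i k => bpow_mem (hvA i) k
    refine ⟨bpow (v 0) (c 0) * (bpow (v 1) (c 1) * (bpow (v 2) (c 2) * bpow (v 3) (c 3))),
      mul_mem (hb _ _) (mul_mem (hb _ _) (mul_mem (hb _ _) (hb _ _))),
      mul_mem (hA _ _) (mul_mem (hA _ _) (mul_mem (hA _ _) (hA _ _))), ?_, ?_⟩
    · rw [D.phi_mul _ (hb _ _) _ (mul_mem (hb _ _) (mul_mem (hb _ _) (hb _ _))),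
        D.phi_mul _ (hb _ _) _ (mul_mem (hb _ _) (hb _ _)), D.phi_mul _ (hb _ _) _ (hb _ _),
        phi_bpow' Hs D (hvQ 0), phi_bpow' Hs D (hvQ 1), phi_bpow' Hs D (hvQ 2), phi_bpow' Hs D (hvQ 3)]
      abel
    · have e : ∀ (k : ZMod 2) (w : ℕ), T.cd H (bc k * w) = bpow (T.cd H w) k := fun k w => by
        rcases zmod_cases k with rfl | rfl
        · simp [bc, T.cd_zero H, bpow_zero]
        · simp [bc, bpow_one]
      rw [T.cd_xor H, T.cd_xor H, T.cd_xor H, T.cd_bc H, e, e, e,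
        show T.cd H 32 = T.gl H 0 1 from T.cd_pow H 5, show T.cd H 64 = T.gl H 0 2 from T.cd_pow H 6,
        show T.cd H 128 = T.gl H 0 3 from T.cd_pow H 7]
      rfl
  have hind : LinearIndependent (ZMod 2) (fun i => D.phi (v i)) := by
    rw [Fintype.linearIndependent_iff]
    intro c hc
    rw [Fin.sum_univ_four] at hc
    obtain ⟨p, hp, -, hpp, hpc⟩ := hsum c
    rw [← hpp, D.phi_eq_zero p hp] at hc
    have hlt := indep_code_lt (c 0) (c 1) (c 2) (c 3)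
    have hcase : bc (c 0) ^^^ (bc (c 1) * 32 ^^^ (bc (c 2) * 64 ^^^ bc (c 3) * 128)) = 0 ∨
        bc (c 0) ^^^ (bc (c 1) * 32 ^^^ (bc (c 2) * 64 ^^^ bc (c 3) * 128)) = 2 := by
      rcases hc with e | e
      · exact Or.inl (T.cd_inj H hlt (by norm_num) (by rw [← hpc, e, T.cd_zero H]))
      · exact Or.inr (T.cd_inj H hlt (by norm_num) (by rw [← hpc, e, hs]; exact (T.cd_rc H 0).symm))
    obtain ⟨h0, h1, h2, h3⟩ := indep_code _ _ _ _ hcase
    intro i
    fin_cases i <;> assumption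
  have hee : LinearIndependent (ZMod 2) ee := by
    rw [Fintype.linearIndependent_iff]
    intro c hc
    rw [Fin.sum_univ_four] at hc
    obtain ⟨h0, h1, h2, h3⟩ := indep_ee _ _ _ _ hc
    intro i
    fin_cases i <;> assumption
  obtain ⟨g, hg⟩ := witt (fun i => D.phi (v i)) ee hind hee
    (fun i => ((D.sq_iff _ (hvQ i)).1 (T.sq_A H (hvA i))).trans (ee_q i).symm)
    (fun i j => ((D.comm_iff _ (hvQ i) _ (hvQ j)).1 (T.comm_A H (hvA i) (hvA j))).trans (ee_ee i j).symm)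
  choose m hm hmp using fun i => (D.recoord g).phi_surj (ff i)
  let B' : Basis s Qf := ⟨D.recoord g, v, m, hvQ, hm, fun i => hg i, hmp⟩
  refine ⟨Hs, B', ?_, rfl, rfl⟩
  have hle : B.A H ≤ B'.A Hs := by
    intro a ha
    refine Subgroup.mem_centralizer_iff.2 fun b hb => ?_
    obtain ⟨hbQ, hbp⟩ := hb
    obtain ⟨p, hp, hpA, hpp, -⟩ := hsum fun k => bV ((D.recoord g).phi b) (ff k)
    have hphi : D.phi b = D.phi p := by
      apply g.map.injective
      show (D.recoord g).phi b = _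
      rw [perp_decomp _ hbp, hpp]
      simp only [g.map.map_add, iso_smul, hg]
      rfl
    rcases D.eq_or_of_phi_eq Hs.good hbQ hp hphi with e | e <;> rw [e]
    · exact T.comm_A H hpA ha
    · exact T.comm_A H (mul_mem hpA (B.r_mem_A H 0)) ha
  exact (Subgroup.eq_of_le_of_card_ge hle ((B'.card_A_le Hs).trans_eq (T.card_A H).symm)).symm

/-- The automorphism sending `z` to the product with the second centre, and one leaving `C(z)`. -/
theorem Todd.exists_moves (T : Todd H) :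
    (∃ σ ∈ T.autGrp H, σ (T.el H 1) = T.el H 3) ∧ ∃ σ ∈ T.autGrp H, σ (T.el H 1) = T.el H 35 := by
  obtain ⟨Hs, B', hA, hz, hl⟩ := T.exists_frame_two H
  have hm : B'.m 0 ∈ T.nA H := T.mem_nA H fun a ha => by rw [← hA] at ha ⊢; exact B'.m_norm Hs 0 ha
  have ht : B'.t Hs 0 1 ∈ T.nA H := T.mem_nA H fun a ha => by
    rw [← hA] at ha ⊢; exact B'.t_norm Hs (by decide) ha
  refine ⟨⟨_, MonoidHom.mem_range.2 ⟨⟨_, hm⟩, rfl⟩, Subtype.ext ?_⟩,
    ⟨_, MonoidHom.mem_range.2 ⟨⟨_, ht⟩, rfl⟩, Subtype.ext ?_⟩⟩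
  · show cj (B'.m 0) (T.cd H 1) = T.cd H (1 ^^^ 2)
    have e : cj (B'.m 0) (B'.r 0) = B'.r 0 * T.basis.r 0 := by
      rw [B'.m_r Hs, bV_comm, ee_ff, if_pos rfl, bpow_one]
    rw [T.cd_one H, T.cd_xor H, T.cd_one H, show T.cd H 2 = T.basis.r 0 from T.cd_rc H 0]
    exact (congrArg (cj (B'.m 0)) hz).symm.trans (e.trans (congrArg (· * T.basis.r 0) hz))
  · show cj (B'.t Hs 0 1) (T.cd H 1) = T.cd H (1 ^^^ (32 ^^^ 2))
    have e : cj (B'.t Hs 0 1) (B'.r 0) = B'.r 0 * (B'.r 1 * T.basis.r 0) := B'.t_r_self Hs (by decide)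
    rw [T.cd_one H, T.cd_xor H, T.cd_xor H, T.cd_one H, show T.cd H 32 = T.gl H 0 1 from T.cd_pow H 5,
      show T.cd H 2 = T.basis.r 0 from T.cd_rc H 0, ← hl]
    exact (congrArg (cj (B'.t Hs 0 1)) hz).symm.trans (e.trans (congrArg (· * (B'.r 1 * T.basis.r 0)) hz))

end Cfsg.Agent.Lib.Co1Todd15
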