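import Cfsg.Agent.Lib.Co1Todd15.Grow
import Cfsg.Agent.Lib.CoType29.DistinctTyped

/-!
The orbit of `z` on the centraliser has 759 elements, and is one of two explicit sets.
-/

set_option autoImplicit false

namespace Cfsg.Agent.Lib.Co1Todd15

open Co1Type47 LargeExtra

/-- The identity isometry. -/
def idIso : Iso where
  map := AddEquiv.refl V8
  iso _ := rfl

theorem two_pow_mod : ∀ k < 11, 2 ^ k % 311 ≠ 2048 % 311 ∧ 2 ^ k % 71 ≠ 2048 % 71 := by decide

variable {G : Type*} [Group G] [Finite G] {z : G} {Qf : G → Subgroup G}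
variable (H : Hyp z Qf)
include H

/-- Codes moved to one another. -/
def Todd.Rel (T : Todd H) (S : Subgroup (MulAut ↥(T.basis.A H))) (a b : ℕ) : Prop :=
  ∃ σ ∈ S, σ (T.el H a) = T.el H b

theorem Todd.rel_refl (T : Todd H) (S : Subgroup (MulAut ↥(T.basis.A H))) (a : ℕ) : T.Rel H S a a :=
  ⟨1, one_mem _, rfl⟩

theorem Todd.rel_symm (T : Todd H) {S : Subgroup (MulAut ↥(T.basis.A H))} {a b : ℕ} (h : T.Rel H S a b) :
    T.Rel H S b a := by
  obtain ⟨σ, hσ, e⟩ := h
  exact ⟨σ⁻¹, inv_mem hσ, by rw [← e]; exact σ.symm_apply_apply _⟩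

theorem Todd.rel_trans (T : Todd H) {S : Subgroup (MulAut ↥(T.basis.A H))} {a b c : ℕ} (h : T.Rel H S a b)
    (h' : T.Rel H S b c) : T.Rel H S a c := by
  obtain ⟨σ, hσ, e⟩ := h
  obtain ⟨τ, hτ, e'⟩ := h'
  exact ⟨τ * σ, mul_mem hτ hσ, by rw [MulAut.mul_apply, e, e']⟩

theorem Todd.rel_grow (T : Todd H) {S : Subgroup (MulAut ↥(T.basis.A H))} {root : ℕ} {ok : ℕ → Bool}
    (hS : ∀ g < 16, ok g = true → T.gAut H g ∈ S) :
    ∀ (l : List ℕ) (m M : ℕ), grow ok l m = some M → (∀ n, m.testBit n = true → T.Rel H S root n) →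
      ∀ n, M.testBit n = true → T.Rel H S root n := by
  intro l
  induction l with
  | nil => intro m M h hm; rw [grow, Option.some.injEq] at h; subst h; exact hm
  | cons e t ih =>
    intro m M h hm
    simp only [grow] at h
    split at h
    · next hc =>
      simp only [Bool.and_eq_true, decide_eq_true_eq, beq_iff_eq] at hc
      obtain ⟨⟨⟨h1, h2⟩, h3⟩, h4⟩ := hc
      refine ih _ _ h fun n hn => ?_
      rw [Nat.testBit_or, Bool.or_eq_true, Nat.testBit_two_pow, decide_eq_true_eq] at hn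
      rcases hn with hn | hn
      · exact hm n hn
      · subst hn
        exact T.rel_trans H (hm _ h2) ⟨_, hS _ (Nat.mod_lt _ (by decide)) h1, by rw [T.gAut_el H, h4]⟩
    · cases h

theorem Todd.rel_mask (T : Todd H) {root M : ℕ} {l : List ℕ} (h : grow okAll l (2 ^ root) = some M) {n : ℕ}
    (hn : M.testBit n = true) : T.Rel H (T.autGrp H) root n :=
  T.rel_grow H (fun g _ _ => T.gAut_mem H g) l _ M h (fun k hk => by
    rw [Nat.testBit_two_pow, decide_eq_true_eq] at hk
    rw [← hk]; exact T.rel_refl H _ _) n hn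

/-- The orbit of `z`. -/
def Todd.InOrbit (T : Todd H) (n : ℕ) : Prop := T.Rel H (T.autGrp H) 1 n

theorem Todd.inOrbit_of_mask (T : Todd H) {root M : ℕ} {l : List ℕ} (h : grow okAll l (2 ^ root) = some M)
    {n : ℕ} (hn : M.testBit n = true) : T.InOrbit H n ↔ T.InOrbit H root :=
  ⟨fun e => T.rel_trans H e (T.rel_symm H (T.rel_mask H h hn)), fun e => T.rel_trans H e (T.rel_mask H h hn)⟩

theorem Todd.inOrbit_one (T : Todd H) : T.InOrbit H 1 := T.rel_refl H _ _

theorem Todd.inOrbit_two (T : Todd H) : T.InOrbit H 2 :=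
  (T.inOrbit_of_mask H grow_pt bits.2.1).1 (T.exists_moves H).1

theorem Todd.inOrbit_ln (T : Todd H) : T.InOrbit H 32 :=
  (T.inOrbit_of_mask H grow_ln bits.2.2.2.1).1 (T.exists_moves H).2

theorem Todd.isConj_of_inOrbit (T : Todd H) {n : ℕ} (h : T.InOrbit H n) : IsConj z (T.cd H n) := by
  obtain ⟨σ, hσ, e⟩ := h
  obtain ⟨g, rfl⟩ := MonoidHom.mem_range.1 hσ
  have e' : cj (g : G) (T.cd H 1) = T.cd H n := congrArg Subtype.val e
  rw [T.cd_one H] at e'
  exact isConj_iff.2 ⟨g, e'⟩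

theorem Todd.not_inOrbit_zero (T : Todd H) : ¬ T.InOrbit H 0 := fun h => by
  obtain ⟨g, hg⟩ := isConj_iff.1 (T.isConj_of_inOrbit H h)
  rw [T.cd_zero H] at hg
  exact H.good.x_ne (conj_eq_one_iff.1 hg)

theorem Todd.not_inOrbit_mix (T : Todd H) : ¬ T.InOrbit H 40 := fun h => by
  set B := T.basis with hB
  have h0 : (B.D.recoord idIso).phi (B.r 0) = e₀ := B.phi_r 0
  obtain ⟨-, P, hP⟩ := H.pair_of (IsConj.refl z) (B.D.recoord idIso) (B.r_mem 0) h0
  have hzQ : z ∈ Qf (B.r 0) := (B.line_spec H (by decide : (0 : Fin 4) ≠ 1)).fst.z_mem H B.D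
  set c := T.gl H 0 1 with hc
  have hl := B.line_spec H (by decide : (0 : Fin 4) ≠ 1)
  have hcz : c * z = z * c := B.cz_of_mem H (T.gl_mem H 0 1)
  have hcm : c ∈ Qf (B.r 0) := mul_mem hl.fst.mem (bpow_mem hzQ _)
  have hin : In B.D (B.r 0) (B.D.phi (B.r 1)) c := ⟨hl.fst.hr, hl.fst.point, hcm, hcz, fun x => by
    have hb : bpow z (T.gauge H (lineIdx 0 1)) ∈ Qf z := bpow_mem H.good.x_mem _
    rw [hc, Todd.gl, B.D.act_mul H.good hl.fst.cz (H.good.le_cent _ hb), B.D.act_of_mem H.good hb, hl.fst.act]⟩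
  have ha : P.alpha c = w₁ := by
    rw [hin.alpha B.D (g := idIso) (B.phi_r 0) hP, B.phi_r]; rfl
  have hw : P.wPart (B.r 2) = w₂ := by
    rw [Pair.wPart, hP]
    show (B.D.phi (B.r 2)).2.2 = w₂
    rw [B.phi_r]; rfl
  have hx : T.cd H 40 = c * B.r 2 := by
    rw [show (40 : ℕ) = 32 ^^^ 8 from rfl, T.cd_xor H, show T.cd H 32 = c from T.cd_pow H 5,
      show T.cd H 8 = B.r 2 from T.cd_rc H 2]
  refine CoType29.not_isConj_typed H P (ε := 0) ⟨c, B.r 2, hcm, hcz, B.r_mem 2, ?_, hx, ?_, ?_, ?_, ?_, ?_, ?_⟩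
    (T.isConj_of_inOrbit H h)
  · exact (B.D.comm_iff _ (B.r_mem 2) _ (B.r_mem 0)).2 (by rw [B.phi_r, B.phi_r]; exact ee_ee 2 0)
  all_goals first | rw [ha, hw] | rw [ha] | rw [hw]
  all_goals decide

open Classical in
/-- The orbit as a mask. -/
noncomputable def Todd.orbMask (T : Todd H) : ℕ :=
  2 ^ 1 ||| maskPt ||| maskLn ||| (if T.InOrbit H 384 then maskBig else 0)
    ||| (if T.InOrbit H 385 then maskAlt else 0)

theorem Todd.orbMask_spec (T : Todd H) {n : ℕ} (hn : n < 2048) :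
    (T.orbMask H).testBit n = true ↔ T.InOrbit H n := by
  classical
  by_cases h0 : n = 0
  · subst h0
    refine ⟨fun h => ?_, fun h => absurd h (T.not_inOrbit_zero H)⟩
    unfold Todd.orbMask at h
    have hz : (2 ^ 1).testBit 0 = false ∧ maskPt.testBit 0 = false ∧ maskLn.testBit 0 = false ∧
        maskBig.testBit 0 = false ∧ maskAlt.testBit 0 = false := by decide +kernel
    split_ifs at h <;> simp only [Nat.testBit_or, hz.1, hz.2.1, hz.2.2.1, hz.2.2.2.1, hz.2.2.2.2, Bool.or_self, Nat.zero_testBit, Bool.false_eq_true] at h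
  constructor
  · intro h
    simp only [Todd.orbMask, Nat.testBit_or, Bool.or_eq_true, Nat.testBit_two_pow, decide_eq_true_eq] at h
    rcases h with (((h | h) | h) | h) | h
    · subst h; exact T.inOrbit_one H
    · exact (T.inOrbit_of_mask H grow_pt h).2 (T.inOrbit_two H)
    · exact (T.inOrbit_of_mask H grow_ln h).2 (T.inOrbit_ln H)
    · split at h
      · next hb => exact (T.inOrbit_of_mask H grow_big h).2 hb
      · simp at h
    · split at h
      · next hb => exact (T.inOrbit_of_mask H grow_alt h).2 hb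
      · simp at h
  · intro h
    have hc : (2 ^ 2048 - 2).testBit n = true := by
      rw [show (2 : ℕ) = 1 + 1 from rfl, Nat.testBit_two_pow_sub_succ (by norm_num)]
      rw [decide_eq_true hn, Bool.true_and, Nat.testBit_eq_decide_div_mod_eq]
      simp only [Bool.not_eq_true', decide_eq_false_iff_not]
      rcases Nat.eq_zero_or_pos n with e | e
      · exact absurd e h0
      · rw [Nat.div_eq_of_lt (Nat.one_lt_two_pow (by omega))]; decide
    rw [← cover] at hc
    simp only [Nat.testBit_or, Bool.or_eq_true] at hc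
    simp only [Todd.orbMask, Nat.testBit_or, Bool.or_eq_true]
    rcases hc with ((((hc | hc) | hc) | hc) | hc) | hc
    · exact Or.inl (Or.inl (Or.inl (Or.inl hc)))
    · exact Or.inl (Or.inl (Or.inl (Or.inr hc)))
    · exact Or.inl (Or.inl (Or.inr hc))
    · exact absurd ((T.inOrbit_of_mask H grow_mix hc).1 h) (T.not_inOrbit_mix H)
    · rw [if_pos ((T.inOrbit_of_mask H grow_big hc).1 h)]
      exact Or.inl (Or.inr hc)
    · rw [if_pos ((T.inOrbit_of_mask H grow_alt hc).1 h)]
      exact Or.inr hc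

/-- The orbit of a code, counted. -/
theorem Todd.ncard_orbit (T : Todd H) (S : Subgroup (MulAut ↥(T.basis.A H))) (a : ℕ) :
    Nat.card (MulAction.orbit S (T.el H a)) = Nat.card {n : ℕ // n < 2048 ∧ T.Rel H S a n} := by
  let f : {n : ℕ // n < 2048 ∧ T.Rel H S a n} → MulAction.orbit S (T.el H a) := fun n =>
    ⟨T.el H n.1, by obtain ⟨σ, hσ, e⟩ := n.2.2; exact ⟨⟨σ, hσ⟩, e⟩⟩
  refine (Nat.card_congr (Equiv.ofBijective f ⟨fun x y e => ?_, fun y => ?_⟩)).symm
  · exact Subtype.ext (T.el_inj H x.2.1 y.2.1 (congrArg Subtype.val e))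
  · obtain ⟨n, hn, e⟩ := T.el_surj H (y : ↥(T.basis.A H))
    obtain ⟨σ, hσ⟩ := y.2
    exact ⟨⟨n, hn, σ, σ.2, hσ.trans e.symm⟩, Subtype.ext e⟩

theorem Todd.orbit_dvd (T : Todd H) :
    (members (T.orbMask H)).length ∣ Nat.card (T.autGrp H) := by
  classical
  have e : Nat.card (MulAction.orbit (T.autGrp H) (T.el H 1)) = (members (T.orbMask H)).length := by
    rw [T.ncard_orbit H, Nat.card_congr (Equiv.subtypeEquivRight (q := fun n => n ∈ (members (T.orbMask H)).toFinset)
      fun n => ?_), Nat.card_eq_fintype_card, Fintype.card_coe, List.toFinset_card_of_nodup (members_nodup _)]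
    rw [List.mem_toFinset, mem_members]
    exact and_congr_right fun hn => (T.orbMask_spec H hn).symm
  rw [← e]
  exact ⟨_, (Nat.card_congr (MulAction.orbitProdStabilizerEquivGroup (T.autGrp H) (T.el H 1))).symm.trans
    (Nat.card_prod _ _)⟩

theorem Todd.not_prime_dvd (T : Todd H) {p : ℕ} [hp : Fact p.Prime] (hk : ∀ k < 11, 2 ^ k % p ≠ 2048 % p) :
    ¬ p ∣ Nat.card (T.autGrp H) := by
  intro hd
  classical
  obtain ⟨σ, hσ⟩ := exists_prime_orderOf_dvd_card' p hd
  set P : Subgroup (MulAut ↥(T.basis.A H)) := Subgroup.zpowers (σ : MulAut ↥(T.basis.A H)) with hP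
  have hcard : Nat.card P = p := by rw [hP, Nat.card_zpowers, Subgroup.orderOf_coe, hσ]
  have hpg : IsPGroup p P := IsPGroup.of_card (n := 1) (by rw [hcard, pow_one])
  have hmod := hpg.card_modEq_card_fixedPoints ↥(T.basis.A H)
  let F : Subgroup ↥(T.basis.A H) :=
    { carrier := MulAction.fixedPoints P ↥(T.basis.A H)
      one_mem' := fun g => map_one (g : MulAut ↥(T.basis.A H))
      mul_mem' := fun {a b} ha hb g => by
        show (g : MulAut ↥(T.basis.A H)) (a * b) = a * b
        rw [map_mul]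
        exact congrArg₂ (· * ·) (ha g) (hb g)
      inv_mem' := fun {a} ha g => by
        show (g : MulAut ↥(T.basis.A H)) a⁻¹ = a⁻¹
        rw [map_inv]
        exact congrArg (·⁻¹) (ha g) }
  have hF : Nat.card (MulAction.fixedPoints P ↥(T.basis.A H)) = Nat.card F := rfl
  rw [hF, T.card_A H] at hmod
  have hdvd := F.card_subgroup_dvd_card
  rw [T.card_A H] at hdvd
  obtain ⟨k, hk11, hFk⟩ := (Nat.dvd_prime_pow Nat.prime_two).1 hdvd
  rcases Nat.lt_or_ge k 11 with h | h
  · rw [hFk] at hmod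
    exact hk k h hmod.symm
  · have hk11' : k = 11 := le_antisymm hk11 h
    have htop : F = ⊤ := F.eq_top_of_card_eq (by rw [hFk, hk11', T.card_A H])
    have hone : (σ : MulAut ↥(T.basis.A H)) = 1 := MulEquiv.ext fun a => by
      have ha : a ∈ F := htop ▸ Subgroup.mem_top a
      exact ha ⟨_, Subgroup.mem_zpowers _⟩
    rw [show σ = 1 from Subtype.ext hone, orderOf_one] at hσ
    exact hp.1.ne_one hσ.symm

/-- The orbit of `z` is the union of four of the orbits of the sixteen maps. -/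
theorem Todd.orbMask_cases (T : Todd H) :
    T.orbMask H = (2 ^ 1 ||| maskPt ||| maskLn ||| maskBig) ∨
      T.orbMask H = (2 ^ 1 ||| maskPt ||| maskLn ||| maskAlt) := by
  classical
  have hd := T.orbit_dvd H
  unfold Todd.orbMask at hd ⊢
  by_cases hb : T.InOrbit H 384 <;> by_cases ha : T.InOrbit H 385 <;>
    simp only [hb, ha, if_true, if_false, Nat.or_zero] at hd ⊢
  · exfalso
    haveI : Fact (Nat.Prime 71) := ⟨by norm_num⟩
    rw [show (members (2 ^ 1 ||| maskPt ||| maskLn ||| maskBig ||| maskAlt)).length = 71 * 17 by decide +kernel] at hd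
    exact T.not_prime_dvd H (fun k hk => (two_pow_mod k hk).2) ((dvd_mul_right 71 17).trans hd)
  · exact Or.inl trivial
  · exact Or.inr trivial
  · exfalso
    haveI : Fact (Nat.Prime 311) := ⟨by norm_num⟩
    rw [show (members (2 ^ 1 ||| maskPt ||| maskLn)).length = 311 by decide +kernel] at hd
    exact T.not_prime_dvd H (fun k hk => (two_pow_mod k hk).1) hd

end Cfsg.Agent.Lib.Co1Todd15
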