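import Cfsg.Agent.Lib.Co1Type47.Centres

/-!
Root elements of `Ω⁺₈(2)` lifted into `C(z)`: the elements of `O₂(C(r))` over a point `u` inducing `root u v`,
their action on `O₂(C(z))`, their products, and uniqueness.
-/

set_option autoImplicit false

namespace Cfsg.Agent.Lib.Co1Todd15

open Co1Type47 LargeExtra

/-- The root element of the point `u` with parameter `v`. -/
def root (u v x : V8) : V8 :=
  x + bV x v • u + bV x u • v + (qV v * bV x u) • u

theorem iso_smul (g : Iso) (k : ZMod 2) (x : V8) : g.map (k • x) = k • g.map x := by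
  rcases zmod_cases k with rfl | rfl
  · rw [zero_smul, zero_smul]; exact g.map.map_zero
  · rw [one_smul, one_smul]

theorem root_map (g : Iso) (u v x : V8) : g.map (root u v x) = root (g.map u) (g.map v) (g.map x) := by
  simp only [root, g.map.map_add, iso_smul, g.bil, g.iso]

theorem emb_add (a b : W6) : emb (a + b) = emb a + emb b := by simp [emb, Prod.ext_iff]

theorem root_e₀ {v : V8} (hv : v.2.1 = 0) (x : V8) : root e₀ v x = siegel v.2.2 x := by
  obtain ⟨k, l, a⟩ := v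
  simp only at hv
  subst hv
  simp only [root, siegel, bV, qV, e₀, bW, bH, Prod.ext_iff, Prod.fst_add, Prod.snd_add, Prod.smul_fst,
    Prod.smul_snd, smul_eq_mul]
  refine ⟨?_, ?_, ?_⟩
  · simp only [Prod.fst_zero, Prod.snd_zero, mul_zero, zero_mul, add_zero, zero_add, mul_one, one_mul]
    rcases zmod_cases k with rfl | rfl <;> rcases zmod_cases x.2.1 with h | h <;> rw [h] <;> ring_nf <;>
      simp [(by decide : (2 : ZMod 2) = 0), (by decide : (3 : ZMod 2) = 1)]
  · simp
  · simp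

theorem bV_siegel_eq : ∀ a b : W6, (∀ x : V8, siegel a x = siegel b x) → a = b := fun a b h => by
  have := congrArg (fun v : V8 => v.2.2) (h f₀)
  simpa [siegel, f₀] using this

variable {G : Type*} [Group G] [Finite G] {z : G} {Qf : G → Subgroup G}

/-- A member of `O₂(C(r))` inducing the root element of the point of `r`. -/
structure In (D : Data z (Qf z)) (r : G) (v : V8) (c : G) : Prop where
  hr : r ∈ Qf z
  point : qV (D.phi r) = 0 ∧ D.phi r ≠ 0 ∧ bV (D.phi r) v = 0
  mem : c ∈ Qf r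
  cz : c * z = z * c
  act : ∀ x, D.act c x = root (D.phi r) v x

variable (H : Hyp z Qf) (D : Data z (Qf z))
include H

/-- Coordinates at `z` in which the point of `r` is `e₀`. -/
theorem exists_frame {r : G} (hr : r ∈ Qf z) (hq : qV (D.phi r) = 0) (h0 : D.phi r ≠ 0) :
    ∃ (g : Iso) (P : Pair z r Qf), g.map (D.phi r) = e₀ ∧ P.D = D.recoord g := by
  obtain ⟨g, hg⟩ := witt_one h0 hq
  obtain ⟨-, P, hP⟩ := H.pair_of (IsConj.refl z) (D.recoord g) hr (by rw [Data.recoord_phi, hg])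
  exact ⟨g, P, hg, hP⟩

omit H [Finite G] in
theorem snd_eq_zero {r : G} {g : Iso} (hg : g.map (D.phi r) = e₀) {v : V8} (h : bV (D.phi r) v = 0) :
    (g.map v).2.1 = 0 := by
  rw [← bV_e₀, ← hg, g.bil, h]

omit H [Finite G] in
theorem bW_eq {r : G} {g : Iso} (hg : g.map (D.phi r) = e₀) {v v' : V8} (h : bV (D.phi r) v = 0)
    (h' : bV (D.phi r) v' = 0) : bW (g.map v).2.2 (g.map v').2.2 = bV v v' := by
  conv_rhs => rw [← g.bil]
  simp [bV, snd_eq_zero D hg h, snd_eq_zero D hg h']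

omit H [Finite G] in
theorem In.alpha {r c : G} {v : V8} (h : In D r v c) {g : Iso} {P : Pair z r Qf}
    (hg : g.map (D.phi r) = e₀) (hP : P.D = D.recoord g) : P.alpha c = (g.map v).2.2 := by
  refine bV_siegel_eq _ _ fun x => ?_
  rw [← P.act_eq h.mem h.cz, hP]
  show g.map (D.act c (g.map.symm x)) = _
  rw [h.act, root_map, AddEquiv.apply_symm_apply, hg, root_e₀ (snd_eq_zero D hg h.point.2.2)]

/-- Lifts exist. -/
theorem exists_in {r : G} (hr : r ∈ Qf z) (hq : qV (D.phi r) = 0) (h0 : D.phi r ≠ 0) {v : V8}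
    (hv : bV (D.phi r) v = 0) : ∃ c, In D r v c := by
  obtain ⟨g, P, hg, hP⟩ := exists_frame H D hr hq h0
  refine ⟨P.lift (g.map v).2.2, hr, ⟨hq, h0, hv⟩, P.lift_mem _, P.lift_comm _, fun x => g.map.injective ?_⟩
  have h := P.act_eq (P.lift_mem (g.map v).2.2) (P.lift_comm _) (g.map x)
  rw [P.alpha_lift, hP] at h
  change g.map (D.act _ (g.map.symm (g.map x))) = _ at h
  rw [AddEquiv.symm_apply_apply] at h
  rw [h, root_map, hg, root_e₀ (snd_eq_zero D hg hv)]

/-- The action on the vectors orthogonal to the point. -/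
theorem In.conj_core {r c : G} {v : V8} (h : In D r v c) {d : G} (hd : d ∈ Qf z)
    (ho : bV (D.phi d) (D.phi r) = 0) : c * d * c⁻¹ = d * bpow (r * z) (bV (D.phi d) v) := by
  obtain ⟨g, P, hg, hP⟩ := exists_frame H D h.hr h.point.1 h.point.2.1
  have hdr : d * r = r * d := (D.comm_iff d hd r h.hr).2 ho
  rw [P.comm_BQ h.mem h.cz hd hdr, h.alpha D hg hP,
    show P.wPart d = (g.map (D.phi d)).2.2 from by rw [Pair.wPart, hP]; rfl,
    bW_eq D hg (by rw [bV_comm]; exact ho) h.point.2.2]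

/-- The square. -/
theorem In.sq {r c : G} {v : V8} (h : In D r v c) : c * c = bpow r (qV v) := by
  obtain ⟨g, P, hg, hP⟩ := exists_frame H D h.hr h.point.1 h.point.2.1
  rw [P.sq_B h.mem h.cz, h.alpha D hg hP, ← g.iso v]
  simp [qV, snd_eq_zero D hg h.point.2.2]

/-- Two lifts over one point. -/
theorem In.conj {r c c' : G} {v v' : V8} (h : In D r v c) (h' : In D r v' c') :
    c' * c * c'⁻¹ = c * bpow r (bV v' v) := by
  obtain ⟨g, P, hg, hP⟩ := exists_frame H D h.hr h.point.1 h.point.2.1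
  rw [P.conj_B h.mem h.cz h'.mem h'.cz, h.alpha D hg hP, h'.alpha D hg hP,
    bW_eq D hg h'.point.2.2 h.point.2.2]

/-- An element of both cores lies in `⟨z, r⟩`. -/
theorem inP_of_mem {r d : G} (hr : r ∈ Qf z) (hq : qV (D.phi r) = 0) (h0 : D.phi r ≠ 0)
    (hd : d ∈ Qf z) (hd' : d ∈ Qf r) : InP z r d :=
  (exists_frame H D hr hq h0).elim fun _ ⟨P, _⟩ => P.inP_of_both hd hd'

omit H [Finite G] in
theorem r_ne {r : G} (H : Hyp z Qf) (h0 : D.phi r ≠ 0) : r ≠ 1 ∧ r ≠ z :=
  ⟨fun e => h0 (by rw [e, D.phi_one H.good]), fun e => h0 (by rw [e, D.phi_z H.good])⟩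

/-- Three cores meet in `⟨z⟩`. -/
theorem eq_or_of_three {r r' d : G} (hr : r ∈ Qf z) (hq : qV (D.phi r) = 0) (h0 : D.phi r ≠ 0)
    (hr' : r' ∈ Qf z) (hq' : qV (D.phi r') = 0) (h0' : D.phi r' ≠ 0) (hne : D.phi r ≠ D.phi r')
    (hd : d ∈ Qf z) (hd₁ : d ∈ Qf r) (hd₂ : d ∈ Qf r') : d = 1 ∨ d = z := by
  have key : ∀ {a : G}, a ∈ Qf z → InP z a d → D.phi d = 0 ∨ D.phi d = D.phi a := by
    intro a ha h
    rcases h with e | e | e | e <;> rw [e]
    · exact Or.inl (D.phi_one H.good)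
    · exact Or.inl (D.phi_z H.good)
    · exact Or.inr rfl
    · exact Or.inr (D.phi_mul_z H.good ha)
  rcases key hr (inP_of_mem H D hr hq h0 hd hd₁) with e | e
  · exact (D.phi_eq_zero d hd).1 e
  · rcases key hr' (inP_of_mem H D hr' hq' h0' hd hd₂) with e' | e'
    · exact (D.phi_eq_zero d hd).1 e'
    · exact absurd (e.symm.trans e') hne

end Cfsg.Agent.Lib.Co1Todd15
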