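import Cfsg.Agent.Lib.Co1Todd15.Bit

/-!
For exactly one of the two singular parameters of the third plane, the lifts of the roots of the lines
`⟨e₀, ·⟩` and `⟨w₁, w₂⟩` commute: otherwise the class of involutions of `Ω⁺₈(2)` with sixteen moved vectors,
not all singular, would have lifts of order two and lifts of order four only.
-/

set_option autoImplicit false
set_option synthInstance.maxSize 1024
set_option synthInstance.maxHeartbeats 200000

namespace Cfsg.Agent.Lib.Co1Todd15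

open Co1Type47 LargeExtra

/-- The second point of the second plane. -/
def g₂ : W6 := ((0, 0), (0, 1), (0, 0))

/-- The second point of the third plane. -/
def g₃ : W6 := ((0, 0), (0, 0), (0, 1))

/-- A root of a line times a root of a point with nonsingular parameter. -/
def mixA (x : V8) : V8 := root (emb w₁) (emb w₂) (root e₀ (emb u₃) x)

/-- Two roots with nonsingular parameters. -/
def mixB (x : V8) : V8 := root e₀ (emb u₁) (root (emb w₂) (emb u₃) x)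

/-- The isometry between them. -/
def mixMap (v : V8) : V8 :=
  v.1 • (1, 0, ((1, 0), (0, 0), (0, 0))) + v.2.1 • (0, 1, ((0, 0), (0, 0), (0, 0)))
    + v.2.2.1.1 • (0, 0, ((1, 0), (0, 1), (0, 1))) + v.2.2.1.2 • (0, 0, ((0, 0), (0, 1), (1, 0)))
    + v.2.2.2.1.1 • (0, 0, ((1, 0), (0, 0), (0, 0))) + v.2.2.2.1.2 • (0, 1, ((0, 1), (0, 0), (1, 0)))
    + v.2.2.2.2.1 • (0, 0, ((1, 0), (1, 1), (1, 1))) + v.2.2.2.2.2 • (0, 0, ((0, 0), (0, 1), (0, 0)))

/-- Its inverse. -/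
def mixInv (v : V8) : V8 :=
  v.1 • (1, 0, ((0, 0), (1, 0), (0, 0))) + v.2.1 • (0, 1, ((0, 0), (0, 0), (0, 0)))
    + v.2.2.1.1 • (0, 0, ((0, 0), (1, 0), (0, 0))) + v.2.2.1.2 • (0, 1, ((0, 1), (0, 1), (0, 1)))
    + v.2.2.2.1.1 • (0, 0, ((1, 1), (0, 0), (1, 1))) + v.2.2.2.1.2 • (0, 0, ((0, 0), (0, 0), (0, 1)))
    + v.2.2.2.2.1 • (0, 0, ((0, 1), (0, 0), (0, 1))) + v.2.2.2.2.2 • (0, 0, ((1, 0), (1, 0), (0, 1)))

theorem mix_facts : (∀ v : V8, mixInv (mixMap v) = v ∧ qV (mixMap v) = qV v) ∧ (∀ v : V8, mixMap (mixInv v) = v) ∧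
    (∀ v : V8, mixMap (mixB v) = mixA (mixMap v)) ∧ (∀ v : V8, refl (emb u₁) (mixB v) = mixB (refl (emb u₁) v)) := by
  decide +kernel

theorem mixMap_add (u v : V8) : mixMap (u + v) = mixMap u + mixMap v := by
  simp only [mixMap, Prod.fst_add, Prod.snd_add, add_smul]
  abel

/-- The isometry, bundled. -/
def mixIso : Iso where
  map := { toFun := mixMap, invFun := mixInv, left_inv := fun v => (mix_facts.1 v).1,
           right_inv := mix_facts.2.1, map_add' := mixMap_add }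
  iso v := (mix_facts.1 v).2

theorem mix_solve : ∀ x : V8, mixA x + x = e₀ →
    bV x e₀ = 0 ∧ bV x (emb w₁) = 0 ∧ bV x (emb w₂) = 0 ∧ bV x (emb u₃) = 1 ∧ qV x = 0 := by
  decide +kernel

theorem pair_sum : (∀ x : V8, root e₀ (emb w₃) (root e₀ (emb g₃) x) = root e₀ (emb u₃) x) ∧
    (∀ x : V8, root e₀ (emb w₁) (root e₀ (emb g₁) x) = root e₀ (emb u₁) x) ∧
    (∀ x : V8, root (emb w₂) (emb u₃) x = root (emb w₂) (emb u₃) x) ∧
    root (emb (u₁ + u₃)) (emb u₁) (emb w₁) = emb g₁ ∧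
    root (emb (u₁ + u₃)) (emb u₁) (emb u₃) = emb u₃ ∧ root (emb (u₁ + u₃)) (emb u₁) (emb w₂) = emb w₂ := by
  decide +kernel

theorem mix_values : qV (emb (u₁ + u₃)) = 0 ∧ emb (u₁ + u₃) ≠ 0 ∧ bV (emb (u₁ + u₃)) (emb u₁) = 0 ∧
    bV e₀ (emb (u₁ + u₃)) = 0 ∧ bV e₀ (emb u₁) = 0 ∧ bV (emb w₂) (emb (u₁ + u₃)) = 0 ∧
    bV (emb w₂) (emb u₁) = 0 ∧ qV (emb w₁) = 0 ∧ emb w₁ ≠ 0 ∧ e₀ ≠ emb w₁ ∧ bV e₀ (emb w₁) = 0 ∧
    qV (emb w₂) = 0 ∧ emb w₂ ≠ 0 ∧ bV (emb w₂) (emb u₃) = 0 ∧ bV (emb w₁) (emb w₂) = 0 ∧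
    bV (emb w₁) (emb u₃) = 0 ∧ bV e₀ (emb u₃) = 0 ∧ bV e₀ (emb w₂) = 0 ∧ bV e₀ (emb g₁) = 0 ∧
    bV (emb w₂) (emb g₁) = 0 ∧ bV e₀ (emb g₃) = 0 ∧ bV e₀ (emb w₃) = 0 ∧
    bV (emb w₁) (emb w₃) = 0 ∧ bV (emb w₁) (emb g₃) = 0 ∧ bV (emb w₂) (emb w₃) = 0 ∧
    bV (emb w₂) (emb g₃) = 0 ∧ qV (emb u₁) = 1 ∧ qV (emb u₃) = 1 ∧ qV (emb (w₁ + w₃)) = 0 ∧
    bV (emb (w₁ + w₃)) e₀ = 0 ∧ bV (emb (w₁ + w₃)) (emb u₁) = 1 ∧ bV (emb (w₁ + w₃)) (emb w₂) = 0 ∧
    bV (emb (w₁ + w₃)) (emb u₃) = 1 ∧ emb w₁ ≠ emb w₂ := by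
  decide +kernel

variable {G : Type*} [Group G] [Finite G] {z : G} {Qf : G → Subgroup G}
variable (H : Hyp z Qf) (D : Data z (Qf z))
include H

/-- The two bits differ. -/
theorem sign {r₀ r₁ r₂ c c' Y : G} (h0 : D.phi r₀ = e₀) (h1 : D.phi r₁ = emb w₁) (h2 : D.phi r₂ = emb w₂)
    (hc : In D r₀ (emb w₃) c) (hc' : In D r₀ (emb g₃) c') (hY : In2 D r₁ r₂ Y) {a b : ZMod 2}
    (ha : c * Y * c⁻¹ = Y * bpow z a) (hb : c' * Y * c'⁻¹ = Y * bpow z b) : a + b = 1 := by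
  by_contra hab
  obtain ⟨-, -, -, m1, m2, m3, m4, v1, v2, v3, v4, v5, v6, v7, v8, v9, v10, v11, v12, v13, v14, v15, v16,
    v17, v18, v19, v21, v22, x0, x1, x2, x3, x4, -⟩ := mix_values
  have hzz := zz' H
  have hzc : ∀ {d : G}, d * z = z * d → Commute d z := fun h => h
  -- the first element
  set cu := c * c' with hcu
  obtain ⟨hcuz, hcua⟩ := act_mul₂ H D hc.cz hc'.cz hc.act hc'.act
  have hin : In D r₀ (emb u₃) cu := ⟨hc.hr, ⟨hc.point.1, hc.point.2.1, by rw [h0]; exact v10⟩,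
    mul_mem hc.mem hc'.mem, hcuz, fun x => by rw [hcua, h0, pair_sum.1]⟩
  have hcuY : Commute cu Y := by
    refine conj_eq_iff_comm.1 ?_
    have hzero : a + b = 0 := (zmod_cases _).resolve_right hab
    calc cu * Y * cu⁻¹ = c * (c' * Y * c'⁻¹) * c⁻¹ := by rw [hcu]; group
      _ = (c * Y * c⁻¹) * (c * bpow z b * c⁻¹) := by rw [hb]; group
      _ = Y * (bpow z a * bpow z b) := by
        rw [ha, mul_assoc]
        congr 1
        rcases bpow_cases z b with e | e <;> rw [e]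
        · group
        · rw [(hzc hc.cz).eq]; group
      _ = Y := by rw [bpow_mul hzz, hzero, bpow_zero, mul_one]
  have hcusq : cu * cu = r₀ := by rw [hin.sq H D, v22, bpow_one]
  have hYsq := hY.sq H D
  have hgsq : Y * cu * (Y * cu) = r₀ := by
    calc Y * cu * (Y * cu) = Y * (cu * Y) * cu := by group
      _ = (Y * Y) * (cu * cu) := by rw [hcuY.eq]; group
      _ = r₀ := by rw [hYsq, hcusq, one_mul]
  obtain ⟨hgz, hga⟩ := act_mul₂ H D hY.fst.cz hin.cz hY.fst.act hin.act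
  have hga' : ∀ x, D.act (Y * cu) x = mixA x := fun x => by rw [hga, h0, h1, h2]; rfl
  -- the second element
  obtain ⟨ru, hru, hrup⟩ := D.phi_surj (emb (u₁ + u₃))
  obtain ⟨h', hh'⟩ := exists_in H D hru (by rw [hrup]; exact mix_values.1) (by rw [hrup]; exact mix_values.2.1)
    (v := emb u₁) (by rw [hrup]; exact mix_values.2.2.1)
  have hh0 : Commute h' r₀ := hh'.comm_core H D hc.hr (by rw [h0, hrup]; exact m1) (by rw [h0]; exact m2)
  have hh2 : Commute h' r₂ := hh'.comm_core H D hY.snd.hr (by rw [h2, hrup]; exact m3) (by rw [h2]; exact m4)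
  obtain ⟨cw, hcw⟩ := exists_in2 H D hc.hr hc.point.1 hc.point.2.1 hY.fst.hr hY.fst.point.1 hY.fst.point.2.1
    (by rw [h0, h1]; exact v3) (by rw [h0, h1]; exact v4)
  obtain ⟨R, hR⟩ := exists_in H D hY.snd.hr hY.snd.point.1 hY.snd.point.2.1 (v := emb u₃) (by rw [h2]; exact v7)
  have hR0 : Commute R r₀ := hR.comm_core H D hc.hr (by rw [h0, h2]; exact v11) (by rw [h0]; exact v10)
  have hR1 : Commute R r₁ := hR.comm_core H D hY.fst.hr (by rw [h1, h2]; exact v8) (by rw [h1]; exact v9)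
  obtain ⟨k, hk⟩ := hcw.bit H D hR.cz hR0 hR1
  set cg := h' * cw * h'⁻¹ with hcg
  have ht1 : D.phi (h' * r₁ * h'⁻¹) = emb g₁ := by rw [hh'.norm_core H D hY.fst.hr, hrup, h1, pair_sum.2.2.2.1]
  have hcgin : In D r₀ (emb g₁) cg := by
    have := (hcw.conj_of H D hh'.cz).fst
    rwa [conj_eq_iff_comm.2 hh0, ht1] at this
  have hR' : In D r₂ (emb u₃) (h' * R * h'⁻¹) := by
    have := hR.conj_of H D hh'.cz
    rwa [conj_eq_iff_comm.2 hh2, hh'.act, hrup, pair_sum.2.2.2.2.1] at this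
  have hRi : R⁻¹ * z = z * R⁻¹ := (Commute.inv_left hR.cz :)
  have hp : R⁻¹ * (h' * R * h'⁻¹) ∈ Qf z := D.act_eq_id _ ((Commute.mul_left hRi hR'.cz) :) fun x => by
    rw [D.act_mul H.good hRi hR'.cz, hR'.act, ← hR.act, D.act_inv_act H.good hR.cz]
  have hcg2 : Commute cg r₂ :=
    hcgin.comm_core H D hY.snd.hr (by rw [h2, h0, bV_comm]; exact v11) (by rw [h2]; exact v13)
  have hpcg : Commute (R⁻¹ * (h' * R * h'⁻¹)) cg := by
    have h3 := inP_of_mem H D hY.snd.hr hY.snd.point.1 hY.snd.point.2.1 hp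
      (mul_mem (inv_mem hR.mem) hR'.mem)
    rcases h3 with e | e | e | e <;> rw [e]
    exacts [Commute.one_left _, (hzc hcgin.cz).symm, hcg2.symm, Commute.mul_left hcg2.symm (hzc hcgin.cz).symm]
  have hkg : R * cg * R⁻¹ = cg * bpow z k := by
    have h5 : h' * R * h'⁻¹ * cg * (h' * R * h'⁻¹)⁻¹ = cg * bpow z k := by
      calc h' * R * h'⁻¹ * cg * (h' * R * h'⁻¹)⁻¹ = h' * (R * cw * R⁻¹) * h'⁻¹ := by rw [hcg]; group
        _ = cg * (h' * bpow z k * h'⁻¹) := by rw [hk, hcg]; group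
        _ = _ := by
          congr 1
          rcases bpow_cases z k with e | e <;> rw [e]
          · group
          · rw [(hzc hh'.cz).eq]; group
    have h6 : R * (R⁻¹ * (h' * R * h'⁻¹)) = h' * R * h'⁻¹ := mul_inv_cancel_left _ _
    rw [← h6] at h5
    calc R * cg * R⁻¹ = R * ((R⁻¹ * (h' * R * h'⁻¹)) * cg * (R⁻¹ * (h' * R * h'⁻¹))⁻¹) * R⁻¹ := by
          rw [hpcg.eq]; group
      _ = _ := by rw [← h5]; group
  obtain ⟨hTz, hTa⟩ := act_mul₂ H D hcw.fst.cz hcgin.cz hcw.fst.act hcgin.act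
  set T := cw * cg with hT
  have hTin : In D r₀ (emb u₁) T := ⟨hc.hr, ⟨hc.point.1, hc.point.2.1, by rw [h0]; exact m2⟩,
    mul_mem hcw.fst.mem hcgin.mem, hTz, fun x => by rw [hTa, h0, h1, pair_sum.2.1]⟩
  have hRT : Commute R T := by
    refine conj_eq_iff_comm.1 ?_
    calc R * T * R⁻¹ = (R * cw * R⁻¹) * (R * cg * R⁻¹) := by rw [hT]; group
      _ = cw * (bpow z k * cg) * bpow z k := by rw [hk, hkg]; group
      _ = cw * cg * (bpow z k * bpow z k) := by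
        rcases bpow_cases z k with e | e <;> rw [e]
        · group
        · rw [← (hzc hcgin.cz).eq]; group
      _ = T := by rw [bpow_mul hzz, (by decide : ∀ x : ZMod 2, x + x = 0), bpow_zero, mul_one]
  obtain ⟨q, hq, hqp⟩ := D.phi_surj (emb (w₁ + w₃))
  have hTq : T * q * T⁻¹ = q * (r₀ * z) := by
    rw [hTin.conj_core H D hq (by rw [hqp, h0]; exact x1), hqp, x2, bpow_one]
  have hRq : R * q * R⁻¹ = q * (r₂ * z) := by
    rw [hR.conj_core H D hq (by rw [hqp, h2]; exact x3), hqp, x4, bpow_one]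
  have hT2 : Commute T r₂ := hTin.comm_core H D hY.snd.hr (by rw [h2, h0, bV_comm]; exact v11)
    (by rw [h2]; exact m4)
  have hTsq : T * T = r₀ := by rw [hTin.sq H D, v21, bpow_one]
  have hRsq : R * R = r₂ := by rw [hR.sq H D, v22, bpow_one]
  have hq1 : q * q = 1 := (D.sq_iff q hq).2 (by rw [hqp]; exact x0)
  have hr00 : r₀ * r₀ = 1 := (D.sq_iff r₀ hc.hr).2 hc.point.1
  have hr22 : r₂ * r₂ = 1 := (D.sq_iff r₂ hY.snd.hr).2 hY.snd.point.1
  have hinv : T * R * q * (T * R * q) = 1 := by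
    have hz0 : Commute r₀ z := H.good.le_cent r₀ hc.hr
    have e1 : T * R * q * (T * R)⁻¹ = q * (r₀ * r₂) := by
      calc T * R * q * (T * R)⁻¹ = T * (R * q * R⁻¹) * T⁻¹ := by group
        _ = (T * q * T⁻¹) * (T * (r₂ * z) * T⁻¹) := by rw [hRq]; group
        _ = q * (r₀ * z) * (r₂ * z) := by
          rw [hTq, conj_eq_iff_comm.2 (Commute.mul_right hT2 (hzc hTin.cz) :)]
        _ = q * (r₀ * (z * r₂) * z) := by group
        _ = q * (r₀ * r₂ * (z * z)) := by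
          rw [← (H.good.le_cent r₂ hY.snd.hr)]; group
        _ = _ := by rw [hzz, mul_one]
    have e2 : T * R * (T * R) = r₀ * r₂ := by
      calc T * R * (T * R) = T * (R * T) * R := by group
        _ = (T * T) * (R * R) := by rw [hRT.eq]; group
        _ = _ := by rw [hTsq, hRsq]
    have h02 : Commute r₀ r₂ := (D.comm_iff r₀ hc.hr r₂ hY.snd.hr).2 (by rw [h0, h2]; exact v11)
    calc T * R * q * (T * R * q) = (T * R * q * (T * R)⁻¹) * (T * R * (T * R)) * q := by group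
      _ = q * (r₀ * r₂ * (r₀ * r₂)) * q := by rw [e1, e2]; group
      _ = q * (r₀ * r₀ * (r₂ * r₂)) * q := by
        rw [show r₀ * r₂ * (r₀ * r₂) = r₀ * (r₂ * r₀) * r₂ by group, ← h02.eq]; group
      _ = 1 := by rw [hr00, hr22, one_mul, mul_one, hq1]
  obtain ⟨h, hhz, hha⟩ := exists_realised H D mixIso v21 mix_facts.2.2.2 mix_facts.2.2.1
  obtain ⟨hyz, hya⟩ := act_mul₂ H D (f := mixB) (g := id) (Commute.mul_left hTz hR.cz : _)
    (H.good.le_cent q hq)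
    (fun x => by
      rw [(act_mul₂ H D hTz hR.cz hTin.act hR.act).2, h0, h2]; rfl)
    (fun x => D.act_of_mem H.good hq x)
  set y := h * (T * R * q) * h⁻¹ with hy
  have hhi : h⁻¹ * z = z * h⁻¹ := (Commute.inv_left hhz :)
  have hhy : h * (T * R * q) * z = z * (h * (T * R * q)) := (Commute.mul_left hhz hyz :)
  have hyz' : y * z = z * y := (Commute.mul_left hhy hhi :)
  have hyact : ∀ x, D.act y x = mixA x := fun x => by
    rw [hy, D.act_mul H.good hhy hhi, D.act_mul H.good hhz hyz, hya]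
    show D.act h (mixB (D.act h⁻¹ x)) = _
    rw [hha, ← D.act_mul H.good hhz hhi, mul_inv_cancel, D.act_one H.good]
  have hyy : y * y = 1 := by
    rw [hy, show h * (T * R * q) * h⁻¹ * (h * (T * R * q) * h⁻¹) = h * (T * R * q * (T * R * q)) * h⁻¹ by group,
      hinv]
    group
  -- no involution in the coset of `Y cu`
  have hgi : (Y * cu)⁻¹ * z = z * (Y * cu)⁻¹ := (Commute.inv_left hgz :)
  obtain ⟨p, hp, hyp⟩ : ∃ p ∈ Qf z, y = Y * cu * p :=
    ⟨(Y * cu)⁻¹ * y, D.act_eq_id _ ((Commute.mul_left hgi hyz') :) fun x => by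
      rw [D.act_mul H.good hgi hyz', hyact, ← hga', D.act_inv_act H.good hgz], by group⟩
  have hconj : Y * cu * p * (Y * cu)⁻¹ = p⁻¹ * r₀⁻¹ := by
    have h9 : (Y * cu * p * (Y * cu)⁻¹) * (r₀ * p) = 1 := by
      rw [← hgsq, ← hyy, hyp]; group
    rw [eq_inv_of_mul_eq_one_left h9, mul_inv_rev]
  have hsol : mixA (D.phi p) + D.phi p = e₀ := by
    have hphi := congrArg D.phi hconj
    rw [D.act_phi _ hgz p hp, hga', D.phi_mul _ (inv_mem hp) _ (inv_mem hc.hr), D.phi_inv H.good hp,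
      D.phi_inv H.good hc.hr, h0] at hphi
    rw [hphi, add_right_comm, add_self, zero_add]
  obtain ⟨s1, s2, s3, s4, s5⟩ := mix_solve _ hsol
  have hpY : Commute Y p := hY.fst.comm_core H D hp (by rw [h1]; exact s2) (by rw [h2]; exact s3)
  have hcp : cu * p * cu⁻¹ = p * (r₀ * z) := by rw [hin.conj_core H D hp (by rw [h0]; exact s1), s4, bpow_one]
  have hYr : Commute Y (r₀ * z) := Commute.mul_right (hY.fst.comm_core H D hc.hr (by rw [h0, h1]; exact v4)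
    (by rw [h0, h2]; exact v11)) (hzc hY.fst.cz)
  have hpp : p * p = 1 := (D.sq_iff p hp).2 s5
  rw [show Y * cu * p * (Y * cu)⁻¹ = Y * (cu * p * cu⁻¹) * Y⁻¹ by group, hcp,
    conj_eq_iff_comm.2 (Commute.mul_right hpY hYr :), inv_eq_of_mul_eq_one_right hpp,
    inv_eq_of_mul_eq_one_right hr00] at hconj
  exact H.good.x_ne (by simpa using mul_left_cancel hconj)

end Cfsg.Agent.Lib.Co1Todd15
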