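import Cfsg.Agent.Lib.Co1Todd15.Upper
import Cfsg.Agent.Lib.Co1Todd15.CertUp
import Cfsg.Agent.Lib.Co1Todd15.Bound
import Cfsg.Agent.Lib.Gaschutz

/-!
The normaliser splits over the centraliser.
-/

set_option autoImplicit false

namespace Cfsg.Agent.Lib.Co1Todd15

open Co1Type47 LargeExtra

/-- The maps raising the index, and the maps `m k`, fixing the first `k` points. -/
def okUp (k : ℕ) : ℕ → Bool := fun g =>
  okFix k g && (decide (12 ≤ g) || decide ((tPair g).1 < (tPair g).2))

theorem grow_upA : grow (okUp 0) treeUpA (2 ^ 2) = some maskUpA := by decide +kernel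
theorem grow_upB : grow (okUp 1) treeUpB (2 ^ 4) = some maskUpB := by decide +kernel
theorem grow_upC : grow (okUp 2) treeUpC (2 ^ 8) = some maskUpC := by decide +kernel
theorem grow_upD : grow (okUp 3) treeUpD (2 ^ 16) = some maskUpD := by decide +kernel

theorem up_lengths : (members maskUpA).length = 16 ∧ (members maskUpB).length = 8 ∧
    (members maskUpC).length = 4 ∧ (members maskUpD).length = 2 := by decide +kernel

variable {G : Type*} [Group G] [Finite G] {z : G} {Qf : G → Subgroup G}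
variable (H : Hyp z Qf)
include H

theorem Todd.aut_ker (T : Todd H) :
    (T.basis.A H).normalizerMonoidHom.ker = (T.basis.A H).subgroupOf (T.nA H) := by
  rw [Subgroup.normalizerMonoidHom_ker]
  have h : Subgroup.centralizer ((T.basis.A H : Subgroup G) : Set G) = T.basis.A H := by
    ext y
    rw [Subgroup.mem_centralizer_iff]
    exact ⟨fun h => T.self_cent H fun a ha => (h a ha).symm, fun hy a ha => T.comm_A H ha hy⟩
  rw [h]
  rfl

theorem Todd.card_nA (T : Todd H) : Nat.card (T.nA H) = 2 ^ 11 * 244823040 := by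
  have h := Subgroup.card_mul_index ((T.basis.A H).normalizerMonoidHom.ker)
  rw [Subgroup.index_ker] at h
  show Nat.card (Subgroup.normalizer (T.basis.A H : Set G)) = _
  rw [← h, T.aut_ker H, show Nat.card (T.basis.A H).normalizerMonoidHom.range = 244823040 from (T.autGrp_eq H).2.1]
  congr 1
  exact (Nat.card_congr (Subgroup.subgroupOfEquivOfLe (Subgroup.le_normalizer : T.basis.A H ≤ T.nA H)).toEquiv).trans
    (T.card_A H)

theorem Todd.exists_compl (T : Todd H) :
    ∃ K : Subgroup ↥(T.nA H), ((T.basis.A H).subgroupOf (T.nA H)).IsComplement' K := by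
  have hle : T.basis.A H ≤ T.nA H := Subgroup.le_normalizer
  obtain ⟨U, hU, hm, ht⟩ := T.exists_upper H
  set φ : ↥(T.nA H) →* MulAut ↥(T.basis.A H) := (T.basis.A H).normalizerMonoidHom with hφ
  set W : Subgroup ↥(T.nA H) := U.subgroupOf (T.nA H) with hW
  set S : Subgroup (MulAut ↥(T.basis.A H)) := W.map φ with hS
  have hgS : ∀ g < 16, okUp 0 g = true → T.gAut H g ∈ S := by
    intro g hg hok
    rw [okUp, Bool.and_eq_true, Bool.or_eq_true, decide_eq_true_eq, decide_eq_true_eq] at hok
    rcases Nat.lt_or_ge g 12 with h | h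
    · obtain ⟨e, he⟩ := ht _ _ (hok.2.resolve_left (by omega))
      have hge : T.gel H g = T.basis.t H (tPair g).1 (tPair g).2 := if_pos h
      have hz : bpow z e ∈ (T.basis.A H) := T.bpow_mem_A H e
      have hmem : T.gel H g * bpow z e ∈ (T.nA H) := mul_mem (T.gel_mem H g) (hle hz)
      refine ⟨⟨_, hmem⟩, Subgroup.mem_subgroupOf.2 (show T.gel H g * bpow z e ∈ U by rw [hge]; exact he), MulEquiv.ext fun a => Subtype.ext ?_⟩
      show cj (T.gel H g * bpow z e) (a : G) = cj (T.gel H g) (a : G)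
      rw [← cj_cj, cj_eq_self (g := bpow z e) (a := (a : G)) (T.comm_A H hz a.2)]
    · have hge : T.gel H g = T.basis.m ⟨(g - 12) % 4, Nat.mod_lt _ (by decide)⟩ := if_neg (by omega)
      exact ⟨⟨_, T.gel_mem H g⟩, Subgroup.mem_subgroupOf.2 (show T.gel H g ∈ U by rw [hge]; exact hm _), rfl⟩
  have hsplit : ∀ {k g : ℕ}, okUp k g = true → (∀ i < k, linC (gimg g) (2 <<< i) = 2 <<< i) ∧ okUp 0 g = true := by
    intro k g h
    rw [okUp, Bool.and_eq_true] at h
    refine ⟨fun i hi => ?_, ?_⟩
    · have := List.all_eq_true.1 h.1 i (List.mem_range.2 hi)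
      simpa using this
    · rw [okUp, Bool.and_eq_true]
      exact ⟨rfl, h.2⟩
  have hst : ∀ (g i : ℕ), linC (gimg g) i = i →
      T.gAut H g ∈ MulAction.stabilizer (MulAut ↥(T.basis.A H)) (T.el H i) := fun g i e => by
    show T.gAut H g (T.el H i) = T.el H i
    rw [T.gAut_el H, e]
  set S1 := S ⊓ MulAction.stabilizer (MulAut ↥(T.basis.A H)) (T.el H 2) with hS1
  set S2 := S1 ⊓ MulAction.stabilizer (MulAut ↥(T.basis.A H)) (T.el H 4) with hS2
  set S3 := S2 ⊓ MulAction.stabilizer (MulAut ↥(T.basis.A H)) (T.el H 8) with hS3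
  have m1 : ∀ g < 16, okUp 1 g = true → T.gAut H g ∈ S1 := fun g hg h =>
    ⟨hgS g hg (hsplit h).2, hst g 2 ((hsplit h).1 0 (by norm_num))⟩
  have m2 : ∀ g < 16, okUp 2 g = true → T.gAut H g ∈ S2 := fun g hg h =>
    ⟨⟨hgS g hg (hsplit h).2, hst g 2 ((hsplit h).1 0 (by norm_num))⟩, hst g 4 ((hsplit h).1 1 (by norm_num))⟩
  have m3 : ∀ g < 16, okUp 3 g = true → T.gAut H g ∈ S3 := fun g hg h =>
    ⟨⟨⟨hgS g hg (hsplit h).2, hst g 2 ((hsplit h).1 0 (by norm_num))⟩, hst g 4 ((hsplit h).1 1 (by norm_num))⟩,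
      hst g 8 ((hsplit h).1 2 (by norm_num))⟩
  obtain ⟨l0, l1, l2, l3⟩ := up_lengths
  have e0 := T.chain_step H grow_upA (S := S) hgS l0
  have e1 := T.chain_step H grow_upB (S := S1) m1 l1
  have e2 := T.chain_step H grow_upC (S := S2) m2 l2
  have e3 := T.chain_step H grow_upD (S := S3) m3 l3
  have h4 : 0 < Nat.card ↥(S3 ⊓ MulAction.stabilizer (MulAut ↥(T.basis.A H)) (T.el H 16)) := Nat.card_pos
  rw [← hS1] at e0
  rw [← hS2] at e1
  rw [← hS3] at e2
  have hS1024 : 1024 ≤ Nat.card S := by omega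
  have hWcard : Nat.card W ≤ 1024 := le_trans (Nat.card_le_card_of_injective
    (fun w : W => (⟨((w : ↥(T.nA H)) : G), Subgroup.mem_subgroupOf.1 w.2⟩ : U))
    fun a b e => Subtype.ext (Subtype.ext (congrArg (fun u : U => (u : G)) e))) hU
  -- the restriction of `φ` to `W` is injective
  have hker : φ.ker = (T.basis.A H).subgroupOf (T.nA H) := T.aut_ker H
  set f : ↥W →* MulAut ↥(T.basis.A H) := φ.comp W.subtype with hf
  have hrange : f.range = S := by rw [hf, MonoidHom.range_comp, Subgroup.range_subtype]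
  have hfc := Subgroup.card_mul_index f.ker
  rw [Subgroup.index_ker, hrange] at hfc
  have hk1 : Nat.card f.ker = 1 ∧ Nat.card W = 1024 := by
    have hpos : 0 < Nat.card f.ker := Nat.card_pos
    have : Nat.card f.ker * 1024 ≤ 1024 :=
      le_trans (le_trans (Nat.mul_le_mul_left _ hS1024) hfc.le) hWcard
    have h1 : Nat.card f.ker = 1 := by omega
    refine ⟨h1, ?_⟩
    rw [h1, one_mul] at hfc
    omega
  have hdis : W ⊓ (T.basis.A H).subgroupOf (T.nA H) = ⊥ := by
    rw [eq_bot_iff]
    intro w hw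
    have hb : f.ker = ⊥ := Subgroup.eq_bot_of_card_eq _ hk1.1
    have : (⟨w, hw.1⟩ : W) ∈ f.ker := by
      rw [MonoidHom.mem_ker]
      show φ w = 1
      rw [← MonoidHom.mem_ker, hker]
      exact hw.2
    rw [hb, Subgroup.mem_bot] at this
    exact Subgroup.mem_bot.2 (congrArg Subtype.val this)
  haveI hnormal : ((T.basis.A H).subgroupOf (T.nA H)).Normal := hker ▸ MonoidHom.normal_ker φ
  haveI : IsMulCommutative ((T.basis.A H).subgroupOf (T.nA H)) :=
    ⟨⟨fun a b => Subtype.ext (Subtype.ext (T.comm_A H a.2 b.2))⟩⟩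
  have hcardA : Nat.card ((T.basis.A H).subgroupOf (T.nA H)) = 2 ^ 11 := by
    rw [Nat.card_congr (Subgroup.subgroupOfEquivOfLe hle).toEquiv, T.card_A H]
  -- the index of the product is odd
  set U' := (T.basis.A H).subgroupOf (T.nA H) ⊔ W with hU'
  have hcardU : Nat.card U' = 2 ^ 11 * 1024 := by
    set g : ↥U' →* MulAut ↥(T.basis.A H) := φ.comp U'.subtype with hg
    have hgk : g.ker = ((T.basis.A H).subgroupOf (T.nA H)).subgroupOf U' := by
      ext u
      rw [MonoidHom.mem_ker, Subgroup.mem_subgroupOf, ← hker, MonoidHom.mem_ker]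
      rfl
    have hgr : g.range = S := by
      rw [hg, MonoidHom.range_comp, Subgroup.range_subtype, hU', Subgroup.map_sup, ← hker]
      rw [(Subgroup.map_eq_bot_iff _).2 le_rfl, bot_sup_eq]
    have hgc := Subgroup.card_mul_index g.ker
    rw [Subgroup.index_ker, hgr, hgk,
      Nat.card_congr (Subgroup.subgroupOfEquivOfLe (le_sup_left : (T.basis.A H).subgroupOf (T.nA H) ≤ U')).toEquiv, hcardA] at hgc
    rw [hk1.1, one_mul, hk1.2] at hfc
    rw [hfc] at hgc
    exact hgc.symm
  have hidx : U'.index = 239085 := by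
    have h := U'.card_mul_index
    rw [hcardU, T.card_nA H] at h
    omega
  refine Gaschutz.exists_complement (K := (T.basis.A H).subgroupOf (T.nA H)) (U := U') le_sup_left ?_ W le_sup_right hdis rfl
  rw [hcardA, hidx]
  norm_num

end Cfsg.Agent.Lib.Co1Todd15
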