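import Cfsg.Agent.Lib.Co1Todd15.Code

/-!
The Levi lifts raising the index, normalised so that they and the elements `m k` form a group of order `2¹⁰`.
-/

set_option autoImplicit false
set_option synthInstance.maxSize 1024
set_option synthInstance.maxHeartbeats 200000

namespace Cfsg.Agent.Lib.Co1Todd15

open Co1Type47 LargeExtra

/-- Exchanging `ee a` with `ff c` and `ee c` with `ff a`. -/
def flipMap (a c : Fin 4) (x : V8) : V8 := root (ff a) (ff c) (root (ee a) (ee c) (root (ff a) (ff c) x))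

theorem flipMap_apply : ∀ a c : Fin 4, a ≠ c → flipMap a c (ee c) = ff a ∧ flipMap a c (ee a) = ff c ∧
    ∀ k, k ≠ a → k ≠ c → flipMap a c (ee k) = ee k := by
  decide +kernel

/-- A step in adjoining generators. -/
theorem card_closure_insert {M : Type*} [Group M] [Finite M] (S : List M) (x : M) (hxx : x * x = 1)
    (h : ∀ s ∈ S, cj x s ∈ Subgroup.closure {w | w ∈ S}) :
    Nat.card (Subgroup.closure {w | w ∈ x :: S}) ≤ 2 * Nat.card (Subgroup.closure {w | w ∈ S}) := by
  classical
  set K := Subgroup.closure {w | w ∈ S} with hK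
  have hxi : x⁻¹ = x := inv_eq_of_mul_eq_one_right hxx
  have hnorm : ∀ k ∈ K, cj x k ∈ K := by
    intro k hk
    refine Subgroup.closure_induction (p := fun k _ => cj x k ∈ K) (fun s hs => h s hs) ?_ ?_ ?_ hk
    · simp [cj, one_mem]
    · intro a b _ _ ha hb; rw [cj_mul]; exact mul_mem ha hb
    · intro a _ ha
      have : cj x a⁻¹ = (cj x a)⁻¹ := by simp [cj, mul_assoc]
      rw [this]; exact inv_mem ha
  have hmove : ∀ k ∈ K, x * k = cj x k * x := fun k _ => by simp [cj, mul_assoc]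
  let L : Subgroup M :=
    { carrier := {w | w ∈ K ∨ w * x ∈ K}
      one_mem' := Or.inl (one_mem _)
      mul_mem' := by
        intro a b ha hb
        rcases ha with ha | ha <;> rcases hb with hb | hb
        · exact Or.inl (mul_mem ha hb)
        · exact Or.inr (by rw [mul_assoc]; exact mul_mem ha hb)
        · refine Or.inr ?_
          have e : a * b * x = a * x * cj x b := by
            rw [cj, hxi, mul_assoc a x, ← mul_assoc x, ← mul_assoc x, hxx, one_mul, mul_assoc]
          rw [e]; exact mul_mem ha (hnorm b hb)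
        · refine Or.inl ?_
          have e : a * b = a * x * cj x (b * x) := by
            rw [cj, hxi, mul_assoc a x, ← mul_assoc x, ← mul_assoc x, hxx, one_mul, mul_assoc b x x, hxx, mul_one]
          rw [e]; exact mul_mem ha (hnorm _ hb)
      inv_mem' := by
        intro a ha
        rcases ha with ha | ha
        · exact Or.inl (inv_mem ha)
        · refine Or.inr ?_
          have e : a⁻¹ * x = cj x (a * x)⁻¹ * 1 := by
            simp only [cj, hxi, mul_one, mul_inv_rev]
            rw [← mul_assoc, hxx, one_mul]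
          rw [e, mul_one]
          exact hnorm _ (inv_mem ha) }
  have hle : Subgroup.closure {w | w ∈ x :: S} ≤ L := by
    rw [Subgroup.closure_le]
    intro w hw
    rcases List.mem_cons.1 hw with rfl | hw
    · exact Or.inr (by rw [hxx]; exact one_mem _)
    · exact Or.inl (Subgroup.subset_closure hw)
  have hL : Nat.card L ≤ 2 * Nat.card K := by
    let f : L → Bool × K := fun w => if hw : (w : M) ∈ K then (false, ⟨w, hw⟩)
      else (true, ⟨(w : M) * x, w.2.resolve_left hw⟩)
    have hf : Function.Injective f := by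
      intro a b e
      simp only [f] at e
      by_cases ha : (a : M) ∈ K <;> by_cases hb : (b : M) ∈ K <;>
        simp only [ha, hb, dite_true, dite_false, Prod.mk.injEq, Subtype.mk.injEq, Bool.false_eq_true,
          Bool.true_eq_false, false_and, true_and, mul_left_inj] at e
      · exact Subtype.ext e
      · exact Subtype.ext e
    have := Nat.card_le_card_of_injective f hf
    rwa [Nat.card_prod, Nat.card_eq_fintype_card (α := Bool), Fintype.card_bool] at this
  exact (Nat.card_le_card_of_injective _ (Subgroup.inclusion_injective hle)).trans hL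

variable {G : Type*} [Group G] [Finite G] {z : G} {Qf : G → Subgroup G}
variable (H : Hyp z Qf)
include H

theorem Basis.t_sq (B : Basis z Qf) {i j : Fin 4} (h : i ≠ j) : B.t H i j * B.t H i j = 1 :=
  (B.t_spec H h).sq H B.D

theorem Basis.t_comm_source (B : Basis z Qf) {a b d : Fin 4} (h1 : a ≠ b) (h2 : a ≠ d) :
    Commute (B.t H a b) (B.t H a d) := by
  have e := (B.t_spec H h1).snd.conj H B.D (B.t_spec H h2).snd
  rw [B.phi_r, B.phi_r, ee_ee, bpow_zero, mul_one] at e
  exact (conj_eq_iff_comm.1 e : Commute _ _).symm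

theorem Basis.t_comm_target (B : Basis z Qf) {a b c : Fin 4} (h1 : a ≠ b) (h2 : c ≠ b) :
    Commute (B.t H a b) (B.t H c b) := by
  have e := (B.t_spec H h1).fst.conj H B.D (B.t_spec H h2).fst
  rw [B.phi_mz H, B.phi_mz H, ff_ff, bpow_zero, mul_one] at e
  exact (conj_eq_iff_comm.1 e : Commute _ _).symm

theorem Todd.t_comm_disjoint (T : Todd H) {a b c d : Fin 4} (n1 : a ≠ b) (n2 : a ≠ c) (n3 : a ≠ d)
    (n4 : b ≠ c) (n5 : b ≠ d) (n6 : c ≠ d) : Commute (T.basis.t H a b) (T.basis.t H c d) := by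
  set B := T.basis with hB
  obtain ⟨c₀, Y, hc, hY, hcY⟩ := T.base
  obtain ⟨σ, s0, s3, s1, s2⟩ := exists_perm b c d a n4 n5 n1.symm n6 n2.symm n3.symm
  obtain ⟨g, hg, hga⟩ := B.exists_perm_elt H σ
  obtain ⟨p, hp⟩ := exists_in2 H B.D (B.m_mem a) (B.point_m H a).1 (B.point_m H a).2 (B.m_mem c)
    (B.point_m H c).1 (B.point_m H c).2 (by
      rw [B.phi_m, B.phi_m]; exact fun e => n2 ((basis_facts a c).2.2.2.2.2.2.2.2.2.1 e))
    (by rw [B.phi_m, B.phi_m]; exact ff_ff a c)
  have hq := B.line_spec H n2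
  obtain ⟨c1, a1⟩ := act_mul₂ H B.D hq.fst.cz hp.fst.cz hq.fst.act hp.fst.act
  obtain ⟨c2, a2⟩ := act_mul₂ H B.D hp.fst.cz c1 hp.fst.act a1
  obtain ⟨c3, a3⟩ := act_mul₂ H B.D c2 hg a2 (g := fun x => B.D.act g x) fun x => rfl
  set w := p * (B.line H a c * p) * g with hw
  have hact : ∀ k, B.D.act w (ee k) = flipMap a c (ee (σ k)) := fun k => by
    rw [a3, (hga k).1, B.phi_r, B.phi_r, B.phi_m, B.phi_m]; rfl
  obtain ⟨fc, fa, fk⟩ := flipMap_apply a c n2
  have hphi : ∀ k, B.D.phi (w * B.r k * w⁻¹) = flipMap a c (ee (σ k)) := fun k => by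
    rw [B.D.act_phi w c3 _ (B.r_mem k), B.phi_r, hact]
  have e0 : B.D.phi (w * B.r 0 * w⁻¹) = ee b := by rw [hphi, s0, fk b n1.symm n4]
  have e3 : B.D.phi (w * B.r 3 * w⁻¹) = ff a := by rw [hphi, s3, fc]
  have e1 : B.D.phi (w * B.r 1 * w⁻¹) = ee d := by rw [hphi, s1, fk d n3.symm n6.symm]
  have e2 : B.D.phi (w * B.r 2 * w⁻¹) = ff c := by rw [hphi, s2, fa]
  have hY' : In2 B.D (w * B.r 1 * w⁻¹) (w * B.r 2 * w⁻¹) (w * Y * w⁻¹) := hY.conj_of H B.D c3
  have hc' : In2 B.D (w * B.r 0 * w⁻¹) (w * B.r 3 * w⁻¹) (w * c₀ * w⁻¹) := hc.conj_of H B.D c3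
  have hbit : w * c₀ * w⁻¹ * (w * Y * w⁻¹) * (w * c₀ * w⁻¹)⁻¹ = w * Y * w⁻¹ * bpow z 0 := by
    rw [bpow_zero, mul_one,
      show w * c₀ * w⁻¹ * (w * Y * w⁻¹) * (w * c₀ * w⁻¹)⁻¹ = w * (c₀ * Y * c₀⁻¹) * w⁻¹ by group, hcY]
  have e := bit_same H hY' (B.t_spec H n6) (by rw [e1, B.phi_r]) (by rw [e2, B.phi_mz H]) hc'
    (B.t_spec H n1) (by rw [e0, B.phi_r]) (by rw [e3, B.phi_mz H])
    (by rw [e1, e0]; exact ee_ee d b) (by rw [e1, e3]; exact ee_ff_ne n3.symm)
    (by rw [e2, e0]; exact ff_ee_ne n4.symm) (by rw [e2, e3]; exact ff_ff c a) hbit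
  rw [bpow_zero, mul_one] at e
  exact conj_eq_iff_comm.1 e

theorem Todd.t_chain (T : Todd H) {a b c : Fin 4} (n1 : a ≠ b) (n2 : a ≠ c) (n3 : b ≠ c) :
    ∃ e : ZMod 2, cj (T.basis.t H b a) (T.basis.t H c b) =
      T.basis.t H c b * (T.basis.t H c a * bpow z e) := by
  set B := T.basis with hB
  set x := B.t H b a with hxd
  set y := B.t H c b with hyd
  set t' := B.t H c a with htd
  have hxz : x * z = z * x := B.t_cz H b a
  have hyz : y * z = z * y := B.t_cz H c b
  have htz : t' * z = z * t' := B.t_cz H c a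
  have hy := B.t_spec H n3.symm
  have ht := B.t_spec H n2.symm
  have hxm : x * (B.m c * z) * x⁻¹ = B.m c * z := by
    have := cj_mul x (B.m c) z
    rw [B.t_m_ne H n1.symm n2.symm, cj_eq_self (g := x) (a := z) hxz] at this
    exact this
  have hxr : x * B.r b * x⁻¹ = B.r b * (B.r a * z) := B.t_r_self H n1.symm
  have hy' := hy.conj_of H B.D hxz
  rw [hxr, hxm] at hy'
  have hphi : B.D.phi (B.r b * (B.r a * z)) = ee b + ee a := by
    rw [B.D.phi_mul _ (B.r_mem b) _ (mul_mem (B.r_mem a) H.good.x_mem), B.D.phi_mul_z H.good (B.r_mem a),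
      B.phi_r, B.phi_r]
  obtain ⟨hyt, hyta⟩ := act_mul₂ H B.D hyz htz hy.snd.act ht.snd.act
  have hi : (y * t')⁻¹ * z = z * (y * t')⁻¹ := (Commute.inv_left hyt :)
  set k := (y * t')⁻¹ * (x * y * x⁻¹) with hkd
  have hk : k ∈ Qf z := B.D.act_eq_id _ ((Commute.mul_left hi hy'.fst.cz) :) fun v => by
    rw [B.D.act_mul H.good hi hy'.fst.cz, hy'.snd.act, hphi, B.phi_mz H,
      root_add_right (ee_q b) (ee_q a) (ff_ee_ne n3.symm) (ff_ee_ne n2.symm) (ee_ee b a)]
    conv_lhs => arg 3; rw [← B.phi_mz H c, ← B.phi_r b, ← B.phi_r a]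
    rw [← hyta, B.D.act_inv_act H.good hyt]
  have hk' : k ∈ Qf (B.m c * z) := mul_mem (inv_mem (mul_mem hy.snd.mem ht.snd.mem)) hy'.snd.mem
  have hx2 : x⁻¹ = x := (B.t_spec H n1.symm).inv_eq H B.D
  have hsplit : ∀ w, cj (y * t') (cj k w) = cj x (cj y (cj x w)) := fun w => by
    simp only [cj_cj, hkd, mul_inv_cancel_left, hx2, mul_assoc]
  have hcz : ∀ q, B.r q * z = z * B.r q := fun q => H.good.le_cent _ (B.r_mem q)
  have hkr : cj k (B.r c) = B.r c := by
    refine cj_inj (g := y * t') ?_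
    rw [hsplit, ← cj_cj, B.t_r_ne H n1.symm n3.symm, B.t_r_self H n3.symm, B.t_r_self H n2.symm, cj_mul,
      cj_mul, cj_mul, cj_mul, cj_eq_self (g := x) (a := z) hxz, cj_eq_self (g := y) (a := z) hyz,
      B.t_r_ne H n1.symm n3.symm, B.t_r_self H n1.symm, B.t_r_self H n3.symm, B.t_r_ne H n3.symm n2]
    simp only [mul_assoc]
    rw [← mul_assoc z (B.r a) z, ← hcz a, mul_assoc]
  have key : ∃ e : ZMod 2, k = bpow z e := by
    rcases inP_of_mem H B.D (B.mz_mem H c) (by rw [B.phi_mz H]; exact ff_q c)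
      (by rw [B.phi_mz H]; exact ff_ne c) hk hk' with e | e | e | e
    · exact ⟨0, e.trans (bpow_zero z).symm⟩
    · exact ⟨1, e.trans (bpow_one z).symm⟩
    all_goals
      exfalso
      have h1 : B.D.phi k = ff c := by
        first
          | rw [e, B.phi_mz H]
          | rw [e, B.D.phi_mul_z H.good (B.mz_mem H c), B.phi_mz H]
      have h2 := B.D.conj_eq H.good (B.r_mem c) hk
      rw [h1, B.phi_r, bV_comm, ee_ff, if_pos rfl, bpow_one] at h2
      exact H.good.x_ne (mul_eq_left.1 (h2.symm.trans hkr))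
  obtain ⟨e, he⟩ := key
  refine ⟨e, ?_⟩
  rw [← mul_assoc, cj, ← he, hkd, mul_inv_cancel_left]

/-- The generators of a group of order at most `2¹⁰` whose conjugation on the centraliser is that of the
Levi lifts raising the index and of the elements `m k`. -/
theorem Todd.exists_upper (T : Todd H) : ∃ U : Subgroup G, Nat.card U ≤ 1024 ∧
    (∀ k, T.basis.m k ∈ U) ∧ ∀ i j : Fin 4, i < j → ∃ e : ZMod 2, T.basis.t H i j * bpow z e ∈ U := by
  set B := T.basis with hB
  obtain ⟨e2, h2⟩ := T.t_chain H (a := 2) (b := 1) (c := 0) (by decide) (by decide) (by decide)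
  obtain ⟨e3, h3⟩ := T.t_chain H (a := 3) (b := 2) (c := 1) (by decide) (by decide) (by decide)
  obtain ⟨e4, h4⟩ := T.t_chain H (a := 3) (b := 1) (c := 0) (by decide) (by decide) (by decide)
  set u01 := B.t H 0 1
  set u12 := B.t H 1 2
  set u23 := B.t H 2 3
  set u02 := B.t H 0 2 * bpow z e2
  set u13 := B.t H 1 3 * bpow z e3
  set u03 := B.t H 0 3 * bpow z e4
  -- commutation
  have hz : ∀ i j e, Commute (B.t H i j) (bpow z e) := fun i j e => by
    rcases bpow_cases z e with u | u <;> rw [u]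
    exacts [Commute.one_right _, B.t_cz H i j]
  have hzz' : ∀ e f : ZMod 2, Commute (bpow z e) (bpow z f) := fun e f => by
    rcases zmod_cases e with rfl | rfl <;> rcases zmod_cases f with rfl | rfl <;> simp [bpow_zero, bpow_one]
  have lift : ∀ {i j k l : Fin 4} (e f : ZMod 2), Commute (B.t H i j) (B.t H k l) →
      Commute (B.t H i j * bpow z e) (B.t H k l * bpow z f) := fun e f h =>
    Commute.mul_left (Commute.mul_right h (hz _ _ f)) (Commute.mul_right (hz _ _ e).symm (hzz' e f))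
  have liftr : ∀ {i j k l : Fin 4} (f : ZMod 2), Commute (B.t H i j) (B.t H k l) →
      Commute (B.t H i j) (B.t H k l * bpow z f) := fun f h => Commute.mul_right h (hz _ _ f)
  have sq : ∀ (i j : Fin 4) (e : ZMod 2), i ≠ j → B.t H i j * bpow z e * (B.t H i j * bpow z e) = 1 :=
    fun i j e h => by
      rw [(hz i j e).symm.mul_mul_mul_comm, B.t_sq H h, one_mul, bpow_mul (zz' H),
        (by decide : ∀ u : ZMod 2, u + u = 0), bpow_zero]
  have s01 : u01 * u01 = 1 := B.t_sq H (by decide)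
  have s12 : u12 * u12 = 1 := B.t_sq H (by decide)
  have s23 : u23 * u23 = 1 := B.t_sq H (by decide)
  have s02 : u02 * u02 = 1 := sq 0 2 e2 (by decide)
  have s13 : u13 * u13 = 1 := sq 1 3 e3 (by decide)
  have s03 : u03 * u03 = 1 := sq 0 3 e4 (by decide)
  have c01_02 : Commute u01 u02 := liftr e2 (B.t_comm_source H (by decide) (by decide))
  have c01_03 : Commute u01 u03 := liftr e4 (B.t_comm_source H (by decide) (by decide))
  have c01_23 : Commute u01 u23 :=
    T.t_comm_disjoint H (by decide) (by decide) (by decide) (by decide) (by decide) (by decide)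
  have c02_03 : Commute u02 u03 := lift e2 e4 (B.t_comm_source H (by decide) (by decide))
  have c02_13 : Commute u02 u13 := lift e2 e3
    (T.t_comm_disjoint H (by decide) (by decide) (by decide) (by decide) (by decide) (by decide))
  have c12_02 : Commute u12 u02 := liftr e2 (B.t_comm_target H (by decide) (by decide))
  have c12_03 : Commute u12 u03 := liftr e4
    (T.t_comm_disjoint H (by decide) (by decide) (by decide) (by decide) (by decide) (by decide))
  have c12_13 : Commute u12 u13 := liftr e3 (B.t_comm_source H (by decide) (by decide))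
  have c23_03 : Commute u23 u03 := liftr e4 (B.t_comm_target H (by decide) (by decide))
  have c23_13 : Commute u23 u13 := liftr e3 (B.t_comm_target H (by decide) (by decide))
  have c13_03 : Commute u13 u03 := lift e3 e4 (B.t_comm_target H (by decide) (by decide))
  have i01 : u01⁻¹ = u01 := inv_eq_of_mul_eq_one_right s01
  have i12 : u12⁻¹ = u12 := inv_eq_of_mul_eq_one_right s12
  have i13 : u13⁻¹ = u13 := inv_eq_of_mul_eq_one_right s13
  have i23 : u23⁻¹ = u23 := inv_eq_of_mul_eq_one_right s23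
  have r1 : u12 * u01 * u12 = u01 * u02 := by rw [cj, i12] at h2; exact h2
  have r2 : u23 * u12 * u23 = u12 * u13 := by rw [cj, i23] at h3; exact h3
  have r3 : u13 * u01 * u13 = u01 * u03 := by
    have : B.t H 1 3 * u01 * B.t H 1 3 = u01 * u03 := by
      rw [cj, (B.t_spec H (by decide : (1 : Fin 4) ≠ 3)).inv_eq H B.D] at h4; exact h4
    calc u13 * u01 * u13 = B.t H 1 3 * (bpow z e3 * u01) * (B.t H 1 3 * bpow z e3) := by simp only [u13, mul_assoc]
      _ = B.t H 1 3 * u01 * (bpow z e3 * B.t H 1 3) * bpow z e3 := by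
        rw [← (hz 0 1 e3).eq]; simp only [u01, mul_assoc]
      _ = B.t H 1 3 * u01 * B.t H 1 3 * (bpow z e3 * bpow z e3) := by
        rw [← (hz 1 3 e3).eq]; simp only [mul_assoc]
      _ = _ := by rw [bpow_mul (zz' H), (by decide : ∀ u : ZMod 2, u + u = 0), bpow_zero, mul_one, this]
  have q13 : cj u01 u13 = u03 * u13 := by
    have h5 : u01 * u13 * u01 * u13 = u03 := by
      calc u01 * u13 * u01 * u13 = u01 * (u13 * u01 * u13) := by simp only [mul_assoc]
        _ = u03 := by rw [r3, ← mul_assoc, s01, one_mul]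
    rw [cj, i01]
    calc u01 * u13 * u01 = u01 * u13 * u01 * u13 * u13 := by rw [mul_assoc (u01 * u13 * u01), s13, mul_one]
      _ = _ := by rw [h5]
  have q02 : cj u23 u02 = u02 * u03 := by
    have e02 : u02 = u01 * (u12 * u01 * u12) := by rw [r1, ← mul_assoc, s01, one_mul]
    have f01 : cj u23 u01 = u01 := cj_eq_self c01_23.symm
    have f12 : cj u23 u12 = u12 * u13 := by rw [cj, i23]; exact r2
    have f13 : cj u23 u13 = u13 := cj_eq_self c23_13
    calc cj u23 u02 = u01 * ((u12 * u13) * u01 * (u12 * u13)) := by rw [e02, cj_mul, cj_mul, cj_mul, f01, f12]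
      _ = u01 * (u12 * ((u13 * u01 * u13) * u12)) := by
        rw [c12_13.eq]; simp only [mul_assoc]; rw [← mul_assoc u13 u12, ← c12_13.eq, mul_assoc]
      _ = u01 * ((u12 * u01 * u12) * u03) := by rw [r3, mul_assoc u01, ← c12_03.eq]; simp only [mul_assoc]
      _ = u02 * u03 := by rw [r1, mul_assoc, ← mul_assoc, ← mul_assoc, s01, one_mul]
  -- conjugation of the elements `m k`
  have mrule : ∀ (i j : Fin 4) (e : ZMod 2), i ≠ j → ∀ k, cj (B.t H i j * bpow z e) (B.m k) =
      if k = j then B.m j * B.m i else B.m k := fun i j e h k => by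
    have he : cj (bpow z e) (B.m k) = B.m k := cj_eq_self (by
      rcases bpow_cases z e with u | u <;> rw [u]
      exacts [Commute.one_left _, (B.m_cz H k).symm])
    rw [← cj_cj, he]
    split_ifs with hk
    · subst hk; exact B.t_m_self H h
    · exact B.t_m_ne H h hk
  have mrule0 : ∀ (i j : Fin 4), i ≠ j → ∀ k, cj (B.t H i j) (B.m k) =
      if k = j then B.m j * B.m i else B.m k := fun i j h k => by
    have := mrule i j 0 h k
    rwa [bpow_zero, mul_one] at this
  have hmm : ∀ k l, Commute (B.m k) (B.m l) := fun k l =>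
    (B.D.comm_iff _ (B.m_mem k) _ (B.m_mem l)).2 (by rw [B.phi_m, B.phi_m]; exact ff_ff k l)
  set M4 : List G := [B.m 0, B.m 1, B.m 2, B.m 3] with hM4
  have mem : ∀ {S : List G} {w : G}, w ∈ S → w ∈ Subgroup.closure {v | v ∈ S} := fun h => Subgroup.subset_closure h
  have hMmem : ∀ {S : List G}, (∀ k, B.m k ∈ S) → ∀ (x : G) (i j : Fin 4),
      (∀ k, cj x (B.m k) = if k = j then B.m j * B.m i else B.m k) → ∀ k, cj x (B.m k) ∈ Subgroup.closure {v | v ∈ S} :=
    fun hS x i j hx k => by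
      rw [hx k]
      split_ifs
      · exact mul_mem (mem (hS j)) (mem (hS i))
      · exact mem (hS k)
  have c0 : Nat.card (Subgroup.closure {v | v ∈ ([] : List G)}) = 1 := by simp
  have c1 := card_closure_insert [] (B.m 0) (B.m_sq H 0) (by simp)
  have c2 := card_closure_insert [B.m 0] (B.m 1) (B.m_sq H 1) (by
    intro s hs; rw [cj_eq_self]
    · exact mem hs
    · simp only [List.mem_singleton] at hs; subst hs; exact hmm 1 0)
  have c3 := card_closure_insert [B.m 1, B.m 0] (B.m 2) (B.m_sq H 2) (by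
    intro s hs; rw [cj_eq_self]
    · exact mem hs
    · fin_cases hs <;> exact hmm 2 _)
  have c4 := card_closure_insert [B.m 2, B.m 1, B.m 0] (B.m 3) (B.m_sq H 3) (by
    intro s hs; rw [cj_eq_self]
    · exact mem hs
    · fin_cases hs <;> exact hmm 3 _)
  have m4 : ∀ k, B.m k ∈ [B.m 3, B.m 2, B.m 1, B.m 0] := fun k => by fin_cases k <;> simp
  have c5 := card_closure_insert [B.m 3, B.m 2, B.m 1, B.m 0] u03 s03 (by
    intro s hs
    fin_cases hs <;> exact hMmem m4 _ 0 3 (mrule 0 3 e4 (by decide)) _)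
  have m5 : ∀ k, B.m k ∈ [u03, B.m 3, B.m 2, B.m 1, B.m 0] := fun k => List.mem_cons_of_mem _ (m4 k)
  have c6 := card_closure_insert [u03, B.m 3, B.m 2, B.m 1, B.m 0] u02 s02 (by
    intro s hs
    fin_cases hs
    · rw [cj_eq_self c02_03]; exact mem (by simp)
    all_goals exact hMmem m5 _ 0 2 (mrule 0 2 e2 (by decide)) _)
  have m6 : ∀ k, B.m k ∈ [u02, u03, B.m 3, B.m 2, B.m 1, B.m 0] := fun k => List.mem_cons_of_mem _ (m5 k)
  have c7 := card_closure_insert [u02, u03, B.m 3, B.m 2, B.m 1, B.m 0] u13 s13 (by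
    intro s hs
    fin_cases hs
    · rw [cj_eq_self c02_13.symm]; exact mem (by simp)
    · rw [cj_eq_self c13_03]; exact mem (by simp)
    all_goals exact hMmem m6 _ 1 3 (mrule 1 3 e3 (by decide)) _)
  have m7 : ∀ k, B.m k ∈ [u13, u02, u03, B.m 3, B.m 2, B.m 1, B.m 0] := fun k => List.mem_cons_of_mem _ (m6 k)
  have c8 := card_closure_insert [u13, u02, u03, B.m 3, B.m 2, B.m 1, B.m 0] u01 s01 (by
    intro s hs
    fin_cases hs
    · rw [q13]; exact mul_mem (mem (by simp)) (mem (by simp))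
    · rw [cj_eq_self c01_02]; exact mem (by simp)
    · rw [cj_eq_self c01_03]; exact mem (by simp)
    all_goals exact hMmem m7 _ 0 1 (mrule0 0 1 (by decide)) _)
  have m8 : ∀ k, B.m k ∈ [u01, u13, u02, u03, B.m 3, B.m 2, B.m 1, B.m 0] := fun k => List.mem_cons_of_mem _ (m7 k)
  have c9 := card_closure_insert [u01, u13, u02, u03, B.m 3, B.m 2, B.m 1, B.m 0] u12 s12 (by
    intro s hs
    fin_cases hs
    · rw [show cj u12 u01 = u01 * u02 by rw [cj, i12]; exact r1]; exact mul_mem (mem (by simp)) (mem (by simp))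
    · rw [cj_eq_self c12_13]; exact mem (by simp)
    · rw [cj_eq_self c12_02]; exact mem (by simp)
    · rw [cj_eq_self c12_03]; exact mem (by simp)
    all_goals exact hMmem m8 _ 1 2 (mrule0 1 2 (by decide)) _)
  have m9 : ∀ k, B.m k ∈ [u12, u01, u13, u02, u03, B.m 3, B.m 2, B.m 1, B.m 0] := fun k => List.mem_cons_of_mem _ (m8 k)
  have c10 := card_closure_insert [u12, u01, u13, u02, u03, B.m 3, B.m 2, B.m 1, B.m 0] u23 s23 (by
    intro s hs
    fin_cases hs
    · rw [show cj u23 u12 = u12 * u13 by rw [cj, i23]; exact r2]; exact mul_mem (mem (by simp)) (mem (by simp))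
    · rw [cj_eq_self c01_23.symm]; exact mem (by simp)
    · rw [cj_eq_self c23_13]; exact mem (by simp)
    · rw [q02]; exact mul_mem (mem (by simp)) (mem (by simp))
    · rw [cj_eq_self c23_03]; exact mem (by simp)
    all_goals exact hMmem m9 _ 2 3 (mrule0 2 3 (by decide)) _)
  set S := [u23, u12, u01, u13, u02, u03, B.m 3, B.m 2, B.m 1, B.m 0] with hS
  have k01 : ∃ e : ZMod 2, B.t H 0 1 * bpow z e ∈ Subgroup.closure {v | v ∈ S} :=
    ⟨0, by rw [bpow_zero, mul_one]; exact mem (show u01 ∈ S by simp [hS])⟩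
  have k12 : ∃ e : ZMod 2, B.t H 1 2 * bpow z e ∈ Subgroup.closure {v | v ∈ S} :=
    ⟨0, by rw [bpow_zero, mul_one]; exact mem (show u12 ∈ S by simp [hS])⟩
  have k23 : ∃ e : ZMod 2, B.t H 2 3 * bpow z e ∈ Subgroup.closure {v | v ∈ S} :=
    ⟨0, by rw [bpow_zero, mul_one]; exact mem (show u23 ∈ S by simp [hS])⟩
  have k02 : ∃ e : ZMod 2, B.t H 0 2 * bpow z e ∈ Subgroup.closure {v | v ∈ S} :=
    ⟨e2, mem (show u02 ∈ S by simp [hS])⟩
  have k13 : ∃ e : ZMod 2, B.t H 1 3 * bpow z e ∈ Subgroup.closure {v | v ∈ S} :=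
    ⟨e3, mem (show u13 ∈ S by simp [hS])⟩
  have k03 : ∃ e : ZMod 2, B.t H 0 3 * bpow z e ∈ Subgroup.closure {v | v ∈ S} :=
    ⟨e4, mem (show u03 ∈ S by simp [hS])⟩
  refine ⟨Subgroup.closure {v | v ∈ S}, by omega, fun k => mem (List.mem_cons_of_mem _ (m9 k)), ?_⟩
  intro i j hij
  fin_cases i <;> fin_cases j <;> first | exact absurd hij (by decide) | assumption

end Cfsg.Agent.Lib.Co1Todd15
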